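import Cfsg.Agent.Lib.ZStar.InvariantSylow
import Cfsg.Prelude.Def_SporadicB

/-!
By the Z*-theorem the involution is conjugate to another involution of its centralizer, unless the
centralizer covers the group modulo the odd core.
-/

set_option autoImplicit false

namespace Cfsg.Agent.McLType

/-- The involution is fused inside its centralizer. -/
theorem exists_conj {G : Type*} [Group G] [Finite G] (t : G) (ht : orderOf t = 2)
    (hne : Subgroup.centralizer ({t} : Set G) ⊔ Cfsg.oddCore G ≠ ⊤) :
    ∃ x : G, x * t * x⁻¹ ∈ Subgroup.centralizer ({t} : Set G) ∧ x * t * x⁻¹ ≠ t := by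
  by_contra hcon
  push Not at hcon
  haveI : Fact (Nat.Prime 2) := ⟨Nat.prime_two⟩
  exact hne (by
    rw [sup_comm]
    exact ZStar.InvariantSylow.oddCore_sup_centralizer
      ⟨ht, fun g hg => hcon g (Subgroup.mem_centralizer_singleton_iff.2 hg.symm.eq)⟩)

end Cfsg.Agent.McLType
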