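import Cfsg.Agent.Lib.McLType.NoFiftyFive
import Cfsg.Agent.GroupStructure3.McLOut.Main
import Cfsg.Agent.S2132
import Cfsg.Agent.S0205
import Cfsg.Agent.S0223
import Cfsg.Agent.S1225
import Cfsg.Agent.Lib.Hall.Solvable

/-!
A subgroup isomorphic to McL that contains the centralizer of the involution is the whole group: if it
were strongly embedded, the odd-order intersection with a conjugate would be transitive on its 22275
involutions and so would have an element of order 55.
-/

set_option autoImplicit false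
set_option linter.style.haveILetI false

namespace Cfsg.Agent.McLType

open Cfsg Subgroup

universe u

/-- A nonsplit double cover of the alternating group of degree eight has order 40320. -/
theorem card_of_cover {H : Type u} [Group H] [Finite H]
    (hH : IsNonsplitDoubleCover H (alternatingGroup (Fin 8))) : Nat.card H = 40320 := by
  obtain ⟨h2, ⟨e⟩, -⟩ := hH
  rw [card_eq_card_quotient_mul_card_subgroup (Subgroup.center H), h2, Nat.card_congr e.toEquiv]
  have h := two_mul_nat_card_alternatingGroup (α := Fin 8)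
  rw [Nat.card_perm, Nat.card_fin, show Nat.factorial 8 = 40320 from rfl] at h
  omega

theorem card_spor : Nat.card ↥Spor.McL = 898128000 := by
  obtain ⟨E⟩ := GroupStructure3.McLOut.nonempty_equiv
  exact (Nat.card_congr E.toEquiv).trans LeechAut.McL.card_G

/-- No element of order 55 in a group isomorphic to McL. -/
theorem orderOf_ne_55_of_equiv {M : Type u} [Group M] (e : M ≃* ↥Spor.McL) (g : M) : orderOf g ≠ 55 := by
  obtain ⟨E⟩ := GroupStructure3.McLOut.nonempty_equiv
  intro h
  exact orderOf_ne_55 (E (e g)) (by rw [MulEquiv.orderOf_eq, MulEquiv.orderOf_eq, h])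

/-- A solvable group of odd order divisible by `11 * 5 ^ 2` whose order divides that of McL has an
element of order 55. -/
theorem exists_55 {D : Type u} [Group D] [Finite D] (hodd : Odd (Nat.card D)) (h1 : 22275 ∣ Nat.card D)
    (h2 : Nat.card D ∣ 898128000) : ∃ g : D, orderOf g = 55 := by
  classical
  haveI : Fact (Nat.Prime 5) := ⟨by norm_num⟩
  haveI : Fact (Nat.Prime 11) := ⟨by norm_num⟩
  haveI : Group.IsSolvable D := S0205.result hodd
  obtain ⟨H, hH1, hH2⟩ := Hall.exists_hall ({5, 11} : Set ℕ) D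
  have h11 : 11 ∣ Nat.card ↥H := by
    have h := Dvd.dvd.trans (by norm_num : 11 ∣ 22275) h1
    rw [← H.card_mul_index] at h
    exact ((Nat.Prime.dvd_mul (by norm_num)).1 h).resolve_right (hH2 11 (by norm_num) (by simp))
  have h25 : 5 ^ 2 ∣ Nat.card ↥H := by
    have h := Dvd.dvd.trans (by norm_num : 5 ^ 2 ∣ 22275) h1
    rw [← H.card_mul_index] at h
    exact (((Nat.prime_five.coprime_iff_not_dvd).2 (hH2 5 Nat.prime_five (by simp))).pow_left 2).dvd_of_dvd_mul_right h
  have hHd : Nat.card ↥H ∣ 5 ^ 3 * 11 := by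
    have hdvd : Nat.card ↥H ∣ 898128000 := (H.card_subgroup_dvd_card).trans h2
    have hcop : (Nat.card ↥H).Coprime (2 ^ 7 * 3 ^ 6 * 7) := by
      refine Nat.coprime_of_dvd fun p hp hpH hp' => ?_
      have hmem := hH1 p hp hpH
      rcases hmem with rfl | rfl <;> norm_num at hp'
    rw [show 898128000 = (2 ^ 7 * 3 ^ 6 * 7) * (5 ^ 3 * 11) by norm_num] at hdvd
    exact hcop.dvd_of_dvd_mul_left hdvd
  obtain ⟨P⟩ : Nonempty (Sylow 11 ↥H) := inferInstance
  have hPc : Nat.card ↥(P : Subgroup ↥H) = 11 := by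
    have hd := (P : Subgroup ↥H).card_subgroup_dvd_card.trans hHd
    obtain ⟨i, hi⟩ := P.2.exists_card_eq
    rw [hi] at hd
    have hi1 : 11 ^ i ∣ 11 := (Nat.Coprime.pow_left i (by norm_num : Nat.Coprime 11 (5 ^ 3))).dvd_of_dvd_mul_left hd
    have hp : 11 ∣ Nat.card ↥(P : Subgroup ↥H) := P.dvd_card_of_dvd_card h11
    rcases (Nat.dvd_prime (by norm_num)).1 hi1 with h | h
    · rw [hi, h] at hp; norm_num at hp
    · rw [hi, h]
  -- the Sylow 11-subgroup is normal
  have hn : Nat.card (Sylow 11 ↥H) = 1 := by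
    have h1 := card_sylow_modEq_one 11 ↥H
    have h2 : Nat.card (Sylow 11 ↥H) ∣ 5 ^ 3 := by
      have h := P.card_dvd_index
      have hidx : (P : Subgroup ↥H).index ∣ 5 ^ 3 := by
        have := hHd
        rw [← (P : Subgroup ↥H).card_mul_index, hPc, mul_comm (5 ^ 3) 11] at this
        exact Nat.dvd_of_mul_dvd_mul_left (by norm_num) this
      exact h.trans hidx
    obtain ⟨j, hj, hje⟩ := (Nat.dvd_prime_pow Nat.prime_five).1 h2
    rw [hje] at h1 ⊢
    interval_cases j <;> simp_all (config := { decide := true }) [Nat.ModEq]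
  haveI : (P : Subgroup ↥H).Normal := by
    haveI : Subsingleton (Sylow 11 ↥H) := (Nat.card_eq_one_iff_unique.1 hn).1
    exact Sylow.normal_of_subsingleton P
  -- an element of order five centralises it
  have hC : 5 ∣ Nat.card ↥(centralizer ((P : Subgroup ↥H) : Set ↥H)) := by
    set φ : ↥H →* MulAut ↥(P : Subgroup ↥H) := MulAut.conjNormal
    have hker : φ.ker ≤ centralizer ((P : Subgroup ↥H) : Set ↥H) := fun h hh => mem_centralizer_iff.2 fun p hp => by
      have e : φ h ⟨p, hp⟩ = ⟨p, hp⟩ := by rw [MonoidHom.mem_ker.1 hh]; rfl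
      have e' : h * p * h⁻¹ = p := congrArg Subtype.val e
      exact (mul_inv_eq_iff_eq_mul.1 e').symm
    haveI : IsCyclic ↥(P : Subgroup ↥H) := isCyclic_of_prime_card hPc
    have haut : Nat.card (MulAut ↥(P : Subgroup ↥H)) = 10 := by
      rw [IsCyclic.card_mulAut, hPc, Nat.totient_prime (by norm_num)]
    have hr : Nat.card ↥φ.range ∣ 10 := haut ▸ φ.range.card_subgroup_dvd_card
    refine Dvd.dvd.trans ?_ (card_dvd_of_le hker)
    have h := h25
    rw [← φ.ker.card_mul_index, index_ker] at h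
    have h5 : 5 * 5 ∣ Nat.card ↥φ.ker * 10 := Dvd.dvd.trans (by simpa [pow_two] using h) (mul_dvd_mul_left _ hr)
    have h6 : 5 ∣ Nat.card ↥φ.ker * 2 := by
      rw [show Nat.card ↥φ.ker * 10 = 5 * (Nat.card ↥φ.ker * 2) by ring] at h5
      exact Nat.dvd_of_mul_dvd_mul_left (by norm_num) h5
    exact ((Nat.Prime.dvd_mul Nat.prime_five).1 h6).resolve_right (by norm_num)
  obtain ⟨b, hb⟩ := exists_prime_orderOf_dvd_card' 5 hC
  obtain ⟨a, ha⟩ := exists_prime_orderOf_dvd_card' (G := ↥(P : Subgroup ↥H)) 11 (by rw [hPc])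
  rw [← orderOf_coe] at ha hb
  refine ⟨(((a : ↥H) * (b : ↥H) : ↥H) : D), ?_⟩
  rw [orderOf_coe, (show Commute (a : ↥H) b from mem_centralizer_iff.1 b.2 a a.2).orderOf_mul_eq_mul_orderOf_of_coprime
    (by rw [ha, hb]; norm_num), ha, hb]

/-- A subgroup isomorphic to McL containing the centralizer is everything. -/
theorem eq_top {G : Type u} [Group G] [Finite G] (t : G) (ht : orderOf t = 2) (M : Subgroup G)
    (hC : centralizer ({t} : Set G) ≤ M) (hM : Nonempty (M ≃* ↥Spor.McL))
    (hcov : IsNonsplitDoubleCover (centralizer ({t} : Set G)) (alternatingGroup (Fin 8))) : M = ⊤ := by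
  classical
  by_contra hne
  obtain ⟨e⟩ := hM
  have htM : t ∈ M := hC (mem_centralizer_singleton_iff.2 rfl)
  have heven : Even (Nat.card ↥M) :=
    even_iff_two_dvd.2 (ht ▸ orderOf_dvd_natCard M htM)
  have hconj : ∀ a ∈ M, ∀ b ∈ M, orderOf a = 2 → orderOf b = 2 → ∃ h ∈ M, h * a * h⁻¹ = b := by
    intro a ha b hb ha2 hb2
    obtain ⟨c, hc⟩ := isConj_iff.1 (S2132.result.1 (e ⟨a, ha⟩) (e ⟨b, hb⟩)
      (by rw [MulEquiv.orderOf_eq, Subgroup.orderOf_mk, ha2]) (by rw [MulEquiv.orderOf_eq, Subgroup.orderOf_mk, hb2]))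
    refine ⟨(e.symm c : ↥M), (e.symm c).2, ?_⟩
    have h := congrArg e.symm hc
    rw [map_mul, map_mul, map_inv, e.symm_apply_apply, e.symm_apply_apply] at h
    exact congrArg Subtype.val h
  have hcentM : ∀ a ∈ M, orderOf a = 2 → centralizer ({a} : Set G) ≤ M := by
    intro a ha ha2 g hg
    obtain ⟨h, hh, hha⟩ := hconj a ha t htM ha2 ht
    have h1 : h * g * h⁻¹ ∈ M := hC (mem_centralizer_singleton_iff.2 (by
      rw [← hha]
      calc h * g * h⁻¹ * (h * a * h⁻¹) = h * (g * a) * h⁻¹ := by group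
        _ = h * (a * g) * h⁻¹ := by rw [mem_centralizer_singleton_iff.1 hg]
        _ = h * a * h⁻¹ * (h * g * h⁻¹) := by group))
    have h2 := mul_mem (mul_mem (inv_mem hh) h1) hh
    rwa [show h⁻¹ * (h * g * h⁻¹) * h = g by group] at h2
  have hse : IsStronglyEmbedded M := (S0223.result M hne heven).2
    ⟨hcentM, fun a ha b hb ha2 hb2 _ => hconj a ha b hb ha2 hb2⟩
  obtain ⟨u, huM, hu⟩ := Involutions.StronglyEmbedded.exists_involution_notMem hse
  set D := M ⊓ M.map (MulAut.conj u).toMonoidHom with hD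
  have hDodd : Odd (Nat.card ↥D) := hse.2.2 u huM
  -- the orbit of `t` under `D`
  have horb : 22275 ∣ Nat.card ↥D := by
    set D' : Subgroup (ConjAct ↥M) := (D.subgroupOf M).map (ConjAct.toConjAct : ↥M ≃* ConjAct ↥M).toMonoidHom with hD'
    set T : ↥M := ⟨t, htM⟩
    have hsame : MulAction.orbit ↥D' T = MulAction.orbit (ConjAct ↥M) T := by
      refine Set.Subset.antisymm (fun y hy => ?_) (fun y hy => ?_)
      · obtain ⟨d, rfl⟩ := hy
        exact ⟨(d : ConjAct ↥M), rfl⟩
      · obtain ⟨m, rfl⟩ := hy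
        have hm : orderOf ((m • T : ↥M) : G) = 2 := by
          rw [orderOf_coe, ConjAct.smul_def, ← MulAut.conj_apply, MulEquiv.orderOf_eq, Subgroup.orderOf_mk, ht]
        obtain ⟨d, hd, hdt⟩ := (S1225.result M hse u hu huM t _ ht htM hm (m • T : ↥M).2).1
        exact ⟨⟨ConjAct.toConjAct (⟨d, hd.1⟩ : ↥M), mem_map_of_mem _ hd⟩, Subtype.ext hdt⟩
    have h1 := Subgroup.index_mul_card (MulAction.stabilizer ↥D' T)
    have h2 := Subgroup.index_mul_card (MulAction.stabilizer (ConjAct ↥M) T)
    have h3 : Nat.card ↥(MulAction.stabilizer (ConjAct ↥M) T) = 40320 := by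
      rw [← card_of_cover hcov]
      refine Nat.card_congr
        { toFun := fun m => ⟨((ConjAct.ofConjAct (m : ConjAct ↥M) : ↥M) : G), mem_centralizer_singleton_iff.2 ?_⟩
          invFun := fun g => ⟨ConjAct.toConjAct (⟨g, hC g.2⟩ : ↥M), ?_⟩
          left_inv := fun m => rfl
          right_inv := fun g => rfl }
      · have h := congrArg Subtype.val (MulAction.mem_stabilizer_iff.1 m.2)
        rw [ConjAct.smul_def] at h
        exact mul_inv_eq_iff_eq_mul.1 h
      · refine MulAction.mem_stabilizer_iff.2 (Subtype.ext ?_)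
        rw [ConjAct.smul_def]
        show (g : G) * t * (g : G)⁻¹ = t
        rw [mem_centralizer_singleton_iff.1 g.2, mul_inv_cancel_right]
    rw [MulAction.index_stabilizer, h3, Nat.card_congr (ConjAct.ofConjAct : ConjAct ↥M ≃* ↥M).toEquiv, Nat.card_congr e.toEquiv, card_spor] at h2
    rw [MulAction.index_stabilizer, hsame, show (MulAction.orbit (ConjAct ↥M) T).ncard = 22275 by omega] at h1
    have hc : Nat.card ↥D' = Nat.card ↥D := by
      rw [hD', card_map_of_injective (MulEquiv.injective _)]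
      exact Nat.card_congr (Subgroup.subgroupOfEquivOfLe (inf_le_left : D ≤ M)).toEquiv
    rw [← hc, ← h1]
    exact dvd_mul_right _ _
  have hdvd : Nat.card ↥D ∣ 898128000 := by
    rw [← card_spor, ← Nat.card_congr e.toEquiv]
    exact card_dvd_of_le inf_le_left
  obtain ⟨g, hg⟩ := exists_55 hDodd horb hdvd
  exact orderOf_ne_55_of_equiv e ⟨g, g.2.1⟩ (by rw [Subgroup.orderOf_mk, orderOf_coe, hg])

end Cfsg.Agent.McLType
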