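import Cfsg.Agent.Lib.GW.ConsCover
import Cfsg.Agent.Lib.CharTheory.AltMultiplier
import Cfsg.Prelude.Def_SporadicB

/-!
# The nonsplit double cover of the alternating group of degree eight is unique

The fibre product of two covers is a perfect central extension; its kernel has order at most two
by the bound on the multiplier from the presentation.
-/

set_option autoImplicit false
set_option linter.style.haveILetI false
set_option linter.unusedSectionVars false

namespace Cfsg.Agent.McLType

open Subgroup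
open scoped commutatorElement
open Cfsg.Agent.GW.Cons (IsDouble bijective_to_double commutator_mul_central)

universe u v w

/-- Perfect double covers of a group whose perfect central extensions have kernel of order at most
two are isomorphic. -/
theorem unique_of_bound {D₁ : Type u} [Group D₁] [Finite D₁] {D₂ : Type w} [Group D₂] [Finite D₂]
    {Q : Type v} [Group Q] [Finite Q] {ξ₁ : D₁ →* Q} {ξ₂ : D₂ →* Q} (h₁ : IsDouble ξ₁)
    (h₂ : IsDouble ξ₂)
    (hbound : ∀ (L : Subgroup (D₁ × D₂)) (π : L →* Q), commutator L = ⊤ → Function.Surjective π →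
      π.ker ≤ center L → Nat.card π.ker ≤ 2) : Nonempty (D₁ ≃* D₂) := by
  set P : Subgroup (D₁ × D₂) :=
    { carrier := {x | ξ₁ x.1 = ξ₂ x.2}
      one_mem' := by simp
      mul_mem' := by
        intro a b ha hb
        simp only [Set.mem_setOf_eq, Prod.fst_mul, Prod.snd_mul, map_mul] at ha hb ⊢
        rw [ha, hb]
      inv_mem' := by
        intro a ha
        simp only [Set.mem_setOf_eq, Prod.fst_inv, Prod.snd_inv, map_inv] at ha ⊢
        rw [ha] } with hP
  set L : Subgroup (D₁ × D₂) := ⁅P, P⁆ with hL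
  have hQ : commutator Q = ⊤ := by
    rw [_root_.commutator_def, ← Subgroup.map_top_of_surjective ξ₁ h₁.surj, ← Subgroup.map_commutator,
      ← _root_.commutator_def, h₁.perfect]
  have hLP : L ≤ P := Subgroup.commutator_le.2 fun a ha b hb =>
    mul_mem (mul_mem (mul_mem ha hb) (inv_mem ha)) (inv_mem hb)
  have hπ : ∀ q : Q, ∃ x ∈ L, ξ₁ x.1 = q := by
    intro q
    have h : L.map (ξ₁.comp (MonoidHom.fst D₁ D₂)) = ⊤ := by
      have hmap : P.map (ξ₁.comp (MonoidHom.fst D₁ D₂)) = ⊤ := by
        rw [eq_top_iff]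
        intro q _
        obtain ⟨a, rfl⟩ := h₁.surj q
        obtain ⟨b, hb⟩ := h₂.surj (ξ₁ a)
        exact ⟨(a, b), hb.symm, rfl⟩
      rw [hL, Subgroup.map_commutator, hmap, ← _root_.commutator_def, hQ]
    obtain ⟨x, hx, he⟩ : q ∈ L.map (ξ₁.comp (MonoidHom.fst D₁ D₂)) := h ▸ mem_top q
    exact ⟨x, hx, he⟩
  set π : L →* Q := (ξ₁.comp (MonoidHom.fst D₁ D₂)).comp L.subtype with hπdef
  have hπs : Function.Surjective π := fun q => by
    obtain ⟨x, hx, he⟩ := hπ q
    exact ⟨⟨x, hx⟩, he⟩
  have hkmem : ∀ x : L, x ∈ π.ker → (x : D₁ × D₂).1 ∈ ξ₁.ker ∧ (x : D₁ × D₂).2 ∈ ξ₂.ker :=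
    fun x hx => ⟨hx, MonoidHom.mem_ker.2 ((hLP x.2).symm.trans hx)⟩
  have hπc : π.ker ≤ center L := fun x hx => mem_center_iff.2 fun y => Subtype.ext (Prod.ext
    (mem_center_iff.1 (h₁.central (hkmem x hx).1) _) (mem_center_iff.1 (h₂.central (hkmem x hx).2) _))
  -- the derived group of the fibre product is perfect
  have hLL : commutator L = ⊤ := by
    refine Subgroup.map_injective L.subtype_injective ?_
    rw [_root_.commutator_def, Subgroup.map_commutator, ← MonoidHom.range_eq_map, Subgroup.range_subtype]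
    refine le_antisymm (hL ▸ Subgroup.commutator_mono hLP hLP) ?_
    conv_lhs => rw [hL]
    rw [Subgroup.commutator_le]
    intro a ha b hb
    have key : ∀ x ∈ P, ∃ l ∈ L, x.1 * l.1⁻¹ ∈ ξ₁.ker ∧ x.2 * l.2⁻¹ ∈ ξ₂.ker := fun x hx => by
      obtain ⟨l, hl, he⟩ := hπ (ξ₁ x.1)
      refine ⟨l, hl, by rw [MonoidHom.mem_ker, map_mul, map_inv, he, mul_inv_cancel], ?_⟩
      rw [MonoidHom.mem_ker, map_mul, map_inv, ← hx, ← hLP hl, he, mul_inv_cancel]
    obtain ⟨l, hl, hl1, hl2⟩ := key a ha
    obtain ⟨l', hl', hl1', hl2'⟩ := key b hb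
    have e' : ⁅a, b⁆ = ⁅l, l'⁆ := by
      refine Prod.ext ?_ ?_
      · calc ⁅a, b⁆.1 = ⁅(a.1 * l.1⁻¹) * l.1, (b.1 * l'.1⁻¹) * l'.1⁆ := by
              simp [commutatorElement_def]
          _ = _ := commutator_mul_central _ _ _ _ (h₁.central hl1) (h₁.central hl1')
      · calc ⁅a, b⁆.2 = ⁅(a.2 * l.2⁻¹) * l.2, (b.2 * l'.2⁻¹) * l'.2⁆ := by
              simp [commutatorElement_def]
          _ = _ := commutator_mul_central _ _ _ _ (h₂.central hl2) (h₂.central hl2')
    rw [e']
    exact Subgroup.commutator_mem_commutator hl hl'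
  have hk2 := hbound L π hLL hπs hπc
  have hcardL : Nat.card L ≤ 2 * Nat.card Q := by
    rw [Subgroup.card_eq_card_quotient_mul_card_subgroup π.ker,
      Nat.card_congr (QuotientGroup.quotientKerEquivOfSurjective π hπs).toEquiv, mul_comm 2]
    exact Nat.mul_le_mul_left _ hk2
  have b₁ := bijective_to_double h₁ hπs hcardL ((MonoidHom.fst D₁ D₂).comp L.subtype) fun x => rfl
  have b₂ := bijective_to_double h₂ hπs hcardL ((MonoidHom.snd D₁ D₂).comp L.subtype) fun x =>
    (hLP x.2).symm
  exact ⟨(MulEquiv.ofBijective _ b₁).symm.trans (MulEquiv.ofBijective _ b₂)⟩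

/-- A nonsplit double cover of `A₈` is a perfect double cover. -/
theorem exists_isDouble {H : Type u} [Group H] [Finite H]
    (hH : Cfsg.IsNonsplitDoubleCover H (alternatingGroup (Fin 8))) :
    ∃ ξ : H →* alternatingGroup (Fin 8), IsDouble ξ := by
  obtain ⟨h2, ⟨e⟩, hns⟩ := hH
  let ξ : H →* alternatingGroup (Fin 8) := e.toMonoidHom.comp (QuotientGroup.mk' (center H))
  have hsurj : Function.Surjective ξ := e.surjective.comp (QuotientGroup.mk'_surjective _)
  have hker : ξ.ker = center H := by
    rw [MonoidHom.ker_comp_of_injective _ _ e.injective, QuotientGroup.ker_mk']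
  refine ⟨ξ, ?_, hsurj, hker.le, hker.symm ▸ h2⟩
  haveI : IsSimpleGroup (alternatingGroup (Fin 8)) := alternatingGroup.isSimpleGroup (by simp)
  have hA : commutator (alternatingGroup (Fin 8)) = ⊤ := by
    refine ((commutator _).normal_of_characteristic.eq_bot_or_eq_top).resolve_left fun h => ?_
    rw [commutator_eq_bot_iff_center_eq_top, alternatingGroup.center_eq_bot (by simp)] at h
    exact bot_ne_top h
  have hmap : (commutator H).map ξ = ⊤ := by
    rw [_root_.commutator_def, map_commutator, map_top_of_surjective _ hsurj, ← _root_.commutator_def, hA]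
  have hsup : center H ⊔ commutator H = ⊤ := by
    rw [← hker, sup_comm, ← comap_map_eq, hmap, comap_top]
  by_contra hne
  refine hns (commutator H) (isComplement'_of_disjoint_and_mul_eq_univ ?_ ?_)
  · rw [disjoint_iff, ← card_eq_one]
    have hd := card_dvd_of_le (inf_le_left : center H ⊓ commutator H ≤ center H)
    rw [h2] at hd
    refine ((Nat.dvd_prime Nat.prime_two).1 hd).resolve_right fun h => hne ?_
    have he : center H ⊓ commutator H = center H :=
      eq_of_le_of_card_ge inf_le_left (by rw [h, h2])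
    rwa [sup_of_le_right (inf_eq_left.1 he)] at hsup
  · rw [← coe_mul_of_left_le_normalizer_right _ _ (le_normalizer_of_normal), hsup, coe_top]

/-- Nonsplit double covers of `A₈` are isomorphic. -/
theorem cover_unique {H K : Type*} [Group H] [Finite H] [Group K] [Finite K]
    (hH : Cfsg.IsNonsplitDoubleCover H (alternatingGroup (Fin 8)))
    (hK : Cfsg.IsNonsplitDoubleCover K (alternatingGroup (Fin 8))) : Nonempty (H ≃* K) := by
  obtain ⟨ξ, hξ⟩ := exists_isDouble hH
  obtain ⟨η, hη⟩ := exists_isDouble hK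
  refine unique_of_bound hξ hη fun L π hLL hs hc => ?_
  let φ : L →* Equiv.Perm (Fin (6 + 2)) := (alternatingGroup (Fin 8)).subtype.comp π
  have hφ : φ.ker = π.ker :=
    MonoidHom.ker_comp_of_injective _ _ (alternatingGroup (Fin 8)).subtype_injective
  rw [← hφ]
  refine CharTheory.AltMultiplier.card_ker_le (φ := φ) (hφ.symm ▸ hc) ?_ ?_ le_rfl
  · rw [MonoidHom.range_eq_map, ← Subgroup.map_map, map_top_of_surjective _ hs,
      ← MonoidHom.range_eq_map, range_subtype]
  · rw [hLL]; exact le_top

end Cfsg.Agent.McLType
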