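import Cfsg.Agent.Lib.McLType.Rules
import Cfsg.Agent.Lib.McLType.GenData

/-!
The centraliser of an involution and the element of order three generate the McLaughlin group, and the
rules hold there.
-/

set_option autoImplicit false
set_option maxRecDepth 100000
set_option Elab.async false

noncomputable section

namespace Cfsg.Agent.McLType

open Cfsg.Agent.GroupStructure3.McLInv (pT allB allB_spec allB_iff IsT TT tG Cn t0_spec tT)
open Cfsg.Agent.Lib.McLMult (R Rt R_tab π xN xN_spec tT275 mem_Fix lev lev_facts lev_lengths levMap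
  levMap_injective card_Fix card_Fix_zero rep_inv_mul_mem)

local notation "P275" => Equiv.Perm (Fin 275)

/-- The subgroup generated by the centraliser and the element of order three. -/
def genD : Subgroup TT := Subgroup.closure ((Cn : Set TT) ∪ {cG})

/-- The value of a word. -/
def wval (w : List ℕ) : TT := (w.map fun l => if l < 40320 then (el l : TT) else cG).prod

/-- The image of a point under a word. -/
def wapp (w : List ℕ) (v : ℕ) : ℕ := w.foldr (fun l x => if l < 40320 then app l x else pT (nd 4) x) v

theorem wval_mem (w : List ℕ) : wval w ∈ genD := by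
  refine list_prod_mem fun x hx => ?_
  simp only [List.mem_map] at hx
  obtain ⟨l, -, rfl⟩ := hx
  refine Subgroup.subset_closure ?_
  split_ifs
  exacts [Or.inl (el l).2, Or.inr rfl]

theorem wval_app : ∀ (w : List ℕ) (v : Fin 275), (((wval w : TT) : P275) v).1 = wapp w v.1
  | [], v => by simp [wval, wapp]
  | l :: w, v => by
    rw [show wval (l :: w) = (if l < 40320 then (el l : TT) else cG) * wval w from List.prod_cons,
      Subgroup.coe_mul, Equiv.Perm.mul_apply]
    show _ = if l < 40320 then app l (wapp w v.1) else pT (nd 4) (wapp w v.1)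
    split_ifs with h
    · rw [el_app h, wval_app w v]
    · rw [cG, gB_tab (by norm_num), wval_app w v]

/-- The word of a transversal element. -/
def levWd (l i : ℕ) : List ℕ := (Data.levW.getD l []).getD i []

/-- The check of the words for the representatives. -/
def repB : Bool := allB 275 fun y => allB 5 fun v => wapp (Data.repW.getD y []) v == pT (Rt y) v

theorem rep_ok : repB = true := by decide +kernel

/-- The check of the words for the transversals. -/
def levWB : Bool :=
  allB 4 fun l => allB (lev l).length fun i => allB 5 fun v =>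
    wapp (levWd l i) v == pT (tT275 ((lev l).getD i 0)) v

theorem levW_ok : levWB = true := by decide +kernel

theorem R_mem (y : Fin 275) : R y ∈ genD := by
  have e : wval (Data.repW.getD y.1 []) = R y := eq_of_five fun v hv => by
    rw [wval_app, R_tab]
    exact beq_iff_eq.1 (allB_spec (allB_spec rep_ok y.1 y.2) v.1 hv)
  exact e ▸ wval_mem _

theorem lev_mem {l : ℕ} (hl : l < 4) (i : Fin (lev l).length) : π (xN ((lev l).get i)) ∈ genD := by
  have e : wval (levWd l i.1) = π (xN ((lev l).get i)) := eq_of_five fun v hv => by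
    rw [wval_app, (xN_spec ((lev_facts hl).1 _ (List.get_mem _ _)).1).2]
    have h := allB_spec (allB_spec (allB_spec levW_ok l hl) i.1 i.2) v.1 hv
    rw [beq_iff_eq, List.getD_eq_getElem _ _ i.2] at h
    exact h
  exact e ▸ wval_mem _

theorem Fix_le {l : ℕ} (hl : l < 4) (hc : Nat.card (Lib.McLMult.Fix l) = (lev l).length * Nat.card (Lib.McLMult.Fix (l + 1)))
    (hle : Lib.McLMult.Fix (l + 1) ≤ genD) : Lib.McLMult.Fix l ≤ genD := by
  intro g hg
  obtain ⟨⟨i, r⟩, hp⟩ := ((Nat.bijective_iff_injective_and_card (levMap hl)).2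
    ⟨levMap_injective hl, by rw [Nat.card_prod, Nat.card_fin, hc]⟩).2 ⟨g, hg⟩
  rw [← show π (xN ((lev l).get i)) * r.1 = g from congrArg Subtype.val hp]
  exact mul_mem (lev_mem hl i) (hle r.2)

/-- They generate the group. -/
theorem genD_top : genD = ⊤ := by
  obtain ⟨h1, h2, h3, h4⟩ := card_Fix
  obtain ⟨l0, l1, l2, l3⟩ := lev_lengths
  have t4 : Lib.McLMult.Fix (3 + 1) ≤ genD := by
    rw [Subgroup.eq_bot_of_card_eq (Lib.McLMult.Fix 4) h4]
    exact bot_le
  have t3 : Lib.McLMult.Fix (2 + 1) ≤ genD := Fix_le (by norm_num) (by rw [l3, h3, h4]) t4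
  have t2 : Lib.McLMult.Fix (1 + 1) ≤ genD := Fix_le (by norm_num) (by rw [l2, h2, h3]) t3
  have t1 : Lib.McLMult.Fix (0 + 1) ≤ genD := Fix_le (by norm_num) (by rw [l1, h1, h2]) t2
  have t0 : Lib.McLMult.Fix 0 ≤ genD := Fix_le (by norm_num) (by rw [l0, card_Fix_zero, h1]) t1
  refine eq_top_iff.2 fun g _ => ?_
  rw [show g = R ((g : P275) 0) * ((R ((g : P275) 0))⁻¹ * g) by rw [mul_inv_cancel_left]]
  exact mul_mem (R_mem _) (t0 (rep_inv_mul_mem g))

/-- The element of order three has order three. -/
def cubeB : Bool := allB 5 fun p => pT (nd 4) (pT (nd 4) (pT (nd 4) p)) == p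

theorem cube_ok : cubeB = true := by decide +kernel

theorem cG_cube : cG ^ 3 = 1 := eq_of_five fun v hv => by
  rw [show cG ^ 3 = cG * (cG * cG) by rw [pow_succ', pow_two], Subgroup.coe_mul, Subgroup.coe_mul,
    Equiv.Perm.mul_apply, Equiv.Perm.mul_apply, cG, gB_tab (by norm_num), gB_tab (by norm_num),
    gB_tab (by norm_num)]
  exact beq_iff_eq.1 (allB_spec cube_ok v.1 hv)

/-- The word `n` times the letter of the element of order three. -/
def cw (n : ℕ) : List ℕ := List.replicate n 40320

theorem wval_cw (n : ℕ) : wval (cw n) = cG ^ n := by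
  simp [wval, cw, List.prod_replicate]

theorem wval_append (a b : List ℕ) : wval (a ++ b) = wval a * wval b := by simp [wval]

theorem wval_single {n : ℕ} (h : n < 40320) : wval [n] = (el n : TT) := by simp [wval, h]

/-- The rules in the McLaughlin group. -/
def modelB : Bool :=
  allB 8 fun r => allB 5 fun p => wapp (cw (rH r) ++ [rD r 0] ++ [40320]) p ==
    wapp ([rD r 1] ++ cw (rD r 2) ++ [rD r 3]) p

theorem model_ok : modelB = true := by decide +kernel

theorem exact_model {r : ℕ} (hr : r < 8) :
    cG ^ rH r * (el (rD r 0) : TT) * cG = (el (rD r 1) : TT) * cG ^ rD r 2 * (el (rD r 3) : TT) := by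
  obtain ⟨h0, h1, -, h3⟩ := (Conf.rule_data hr).1
  have e : wval (cw (rH r) ++ [rD r 0] ++ [40320]) = wval ([rD r 1] ++ cw (rD r 2) ++ [rD r 3]) :=
    eq_of_five fun v hv => by
      rw [wval_app, wval_app]
      exact beq_iff_eq.1 (allB_spec (allB_spec model_ok r hr) v.1 hv)
  rw [wval_append, wval_append, wval_append, wval_append, wval_cw, wval_cw, wval_single h0, wval_single h1,
    wval_single h3] at e
  simpa [wval] using e

end Cfsg.Agent.McLType
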