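import Cfsg.Agent.Lib.McLType.Closure
import Cfsg.Agent.Lib.McLType.Gen
import Cfsg.Agent.Lib.McLType.Cover
import Cfsg.Agent.Lib.McLMult.Main

/-!
A subgroup isomorphic to the McLaughlin group from the centraliser of an involution and one element
cycling a four-group in it.
-/

set_option autoImplicit false
set_option maxRecDepth 100000
set_option Elab.async false

noncomputable section

namespace Cfsg.Agent.McLType

open Cfsg.Agent.GroupStructure3.McLInv (pT allB allB_spec allB_iff IsT TT tG Cn t0_spec tT card_TT order_tG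
  card_center nonsplit_Cn)

theorem tC_sq : tC * tC = 1 := by
  refine Subtype.ext ?_
  rw [Subgroup.coe_mul, tC_coe]
  exact Subtype.ext ((pow_two _).symm.trans t0_spec.2.1)

theorem eE_small {i : ℕ} (hi : i < 2) : eE i 0 = 1 ∧ eE i 1 = tC ∧ eE i 2 = tau ∧ eE i 3 = te := by
  obtain ⟨-, -, -, -, a0, b0, a1, b1, a2, b2, b3, -⟩ := base_spec
  have hi' : i = 0 ∨ i = 1 := by omega
  rcases hi' with rfl | rfl
  · exact ⟨by rw [eE, a0, eV_zero], by rw [eE, a1]; rfl, by rw [eE, a2]; rfl, te_eq.symm⟩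
  · exact ⟨by rw [eE, b0, eV_zero], by rw [eE, b1]; rfl, by rw [eE, b2]; rfl, by rw [eE, b3]; exact te_eq.symm⟩

section Core

universe u

variable {G : Type u} [Group G] [Finite G]

/-- The image and `c` generate a copy of the McLaughlin group. -/
theorem closure_mcl (φ : Cn →* G) (hφ : Function.Injective φ) (c : G)
    (hc : ∀ v < 192, c * φ (eV v) = φ (eV (alN v)) * c)
    (hE : ∀ i < 2, ∀ y : G, (∀ j < 16, y * φ (eE i j) = φ (eE i j) * y) → y ∈ φ.range) :
    Nonempty (Subgroup.closure ((φ.range : Set G) ∪ {c}) ≃* Cfsg.Spor.McL) := by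
  obtain ⟨d, hdc, K, hex⟩ := (Conf.mk hφ hc hE : Conf φ c).exists_exact
  let ψ : Cn →* G × TT := φ.prod Cn.subtype
  have hpre : Pre ψ (d, cG) :=
    ⟨fun v hv => Prod.ext (K.conj v hv) (cG_conj hv), Prod.ext K.c_cube cG_cube⟩
  have hexψ : Conf.Exact ψ (d, cG) := fun r hr => Prod.ext (hex r hr) (exact_model hr)
  set D := Subgroup.closure ((ψ.range : Set (G × TT)) ∪ {(d, cG)}) with hD
  let f : D →* TT := (MonoidHom.snd G TT).comp D.subtype
  let g : D →* G := (MonoidHom.fst G TT).comp D.subtype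
  have hsurj : Function.Surjective f := by
    rw [← MonoidHom.range_eq_top, eq_top_iff, ← genD_top, genD, Subgroup.closure_le]
    rintro x (hx | hx)
    · exact ⟨⟨ψ ⟨x, hx⟩, Subgroup.subset_closure (Or.inl ⟨_, rfl⟩)⟩, rfl⟩
    · rw [Set.mem_singleton_iff] at hx
      exact ⟨⟨(d, cG), Subgroup.subset_closure (Or.inr rfl)⟩, hx.symm⟩
  have hbij : Function.Bijective f := by
    refine (Nat.bijective_iff_surjective_and_card f).2 ⟨hsurj, ?_⟩
    refine le_antisymm ?_ (Nat.card_le_card_of_surjective f hsurj)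
    rw [card_TT]
    exact hpre.card_closure hexψ
  let e : D ≃* TT := MulEquiv.ofBijective f hbij
  let h : TT →* G := g.comp e.symm.toMonoidHom
  have hval : ∀ x : Cn, h (x : TT) = φ x := fun x => by
    have hx : e ⟨ψ x, Subgroup.subset_closure (Or.inl ⟨x, rfl⟩)⟩ = (x : TT) := rfl
    show g (e.symm (x : TT)) = φ x
    rw [← hx, MulEquiv.symm_apply_apply]
    rfl
  have hinj : Function.Injective h := by
    haveI := Lib.McLMult.simple_TT
    rw [← MonoidHom.ker_eq_bot_iff]
    refine (MonoidHom.normal_ker h).eq_bot_or_eq_top.resolve_right fun htop => ?_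
    have : φ tC = 1 := by
      rw [← hval]
      exact MonoidHom.mem_ker.1 (htop ▸ Subgroup.mem_top _)
    exact tC_ne (hφ (this.trans (map_one φ).symm))
  have himg : h.range = Subgroup.closure ((φ.range : Set G) ∪ {c}) := by
    have hr : h.range = Subgroup.closure ((φ.range : Set G) ∪ {d}) := by
      have e1 : h.range = D.map (MonoidHom.fst G TT) := by
        rw [show h = g.comp e.symm.toMonoidHom from rfl, MonoidHom.range_comp,
          MonoidHom.range_eq_top.2 e.symm.surjective, ← MonoidHom.range_eq_map,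
          show g = (MonoidHom.fst G TT).comp D.subtype from rfl, MonoidHom.range_comp, Subgroup.range_subtype]
      rw [e1, hD, MonoidHom.map_closure, Set.image_union, Set.image_singleton, MonoidHom.coe_range,
        ← Set.range_comp]
      rfl
    rw [hr]
    have hτ : φ tau ∈ (φ.range : Set G) := ⟨tau, rfl⟩
    rcases hdc with rfl | rfl
    · rfl
    · refine le_antisymm ((Subgroup.closure_le _).2 ?_) ((Subgroup.closure_le _).2 ?_) <;>
        rintro z (hz | hz)
      · exact Subgroup.subset_closure (Or.inl hz)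
      · rw [Set.mem_singleton_iff.1 hz]
        exact mul_mem (Subgroup.subset_closure (Or.inr rfl)) (Subgroup.subset_closure (Or.inl hτ))
      · exact Subgroup.subset_closure (Or.inl hz)
      · rw [Set.mem_singleton_iff.1 hz]
        have hm : c * φ tau * (φ tau)⁻¹ ∈ Subgroup.closure ((φ.range : Set G) ∪ {c * φ tau}) :=
          mul_mem (Subgroup.subset_closure (Or.inr rfl)) (inv_mem (Subgroup.subset_closure (Or.inl hτ)))
        rwa [mul_inv_cancel_right] at hm
  rw [← himg]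
  exact ⟨(MonoidHom.ofInjective hinj).symm.trans Lib.McLMult.nonempty_TT.some.symm⟩

/-- The core: the hypotheses on `c` give the McLaughlin group. -/
theorem exists_mcl_core (φ : Cn →* G) (hφ : Function.Injective φ) (c : G)
    (hc : ∀ v < 192, c * φ (eV v) = φ (eV (alN v)) * c)
    (hE : ∀ i < 2, ∀ y : G, (∀ j < 16, y * φ (eE i j) = φ (eE i j) * y) → y ∈ φ.range) :
    ∃ M : Subgroup G, φ.range ≤ M ∧ Nonempty (M ≃* Cfsg.Spor.McL) := by
  exact ⟨_, fun z hz => Subgroup.subset_closure (Or.inl hz), closure_mcl φ hφ c hc hE⟩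

end Core

/-- The five-point test for an involution. -/
def sqB (a : ℕ) : Bool := allB 5 fun p => app a (app a p) == p

/-- The five-point test for the four-group. -/
def inVB (a : ℕ) : Bool :=
  (allB 5 fun p => app a p == p) || (allB 5 fun p => app a p == app 13 p) ||
    (allB 5 fun p => app a p == app 35 p) || (allB 5 fun p => app a p == app teI p)

/-- Two commuting involutions independent over the four-group lie in one subgroup of order sixteen. -/
def pairB : Bool :=
  allB 192 fun a => !(sqB a) || inVB a || allB 192 fun b =>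
    !(sqB b) || inVB b || !(allB 5 fun p => app a (app b p) == app b (app a p)) ||
      ((allB 5 fun p => app a (app b p) == p) || (allB 5 fun p => app a (app b p) == app 13 p) ||
        (allB 5 fun p => app a (app b p) == app 35 p) || (allB 5 fun p => app a (app b p) == app teI p)) ||
      (List.range 2).any fun k =>
        ((List.range 16).any fun j => eI k j == a) && ((List.range 16).any fun j => eI k j == b)

theorem pair_ok : pairB = true := by decide +kernel

/-- An element of the four-group. -/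
def InV (x : Cn) : Prop := x = 1 ∨ x = tC ∨ x = tau ∨ x = te

theorem exists_sixteen {a b : ℕ} (ha : a < 192) (hb : b < 192) (h2a : eV a * eV a = 1) (h2b : eV b * eV b = 1)
    (hab : eV a * eV b = eV b * eV a) (na : ¬InV (eV a)) (nb : ¬InV (eV b)) (nab : ¬InV (eV a * eV b)) :
    ∃ k < 2, (∃ j < 16, eV a = eE k j) ∧ ∃ j < 16, eV b = eE k j := by
  have five : ∀ {x : Cn} {f : ℕ → ℕ}, (∀ v : Fin 275, ((((x : TT) : Equiv.Perm (Fin 275)) v : Fin 275) : ℕ) = f v.1) →
      ∀ {y : Cn} {f' : ℕ → ℕ}, (∀ v : Fin 275, ((((y : TT) : Equiv.Perm (Fin 275)) v : Fin 275) : ℕ) = f' v.1) →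
      ((allB 5 fun p => f p == f' p) = true ↔ x = y) := by
    intro x f hx y f' hy
    constructor
    · intro h
      refine Subtype.ext (eq_of_five fun v hv => ?_)
      rw [hx, hy]
      exact beq_iff_eq.1 (allB_spec h v.1 hv)
    · rintro rfl
      exact allB_iff.2 fun p hp => beq_iff_eq.2 ((hx ⟨p, by omega⟩).symm.trans (hy ⟨p, by omega⟩))
  have h1 : ∀ v : Fin 275, ((((1 : Cn) : TT) : Equiv.Perm (Fin 275)) v : Fin 275).1 = id v.1 := fun v => rfl
  have hA := eV_app ha
  have hB := eV_app hb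
  have hC := eV_app (show (13 : ℕ) < 192 by norm_num)
  have hU := eV_app (show (35 : ℕ) < 192 by norm_num)
  have hW := eV_app (show teI < 192 from eI_lt)
  have hmul : ∀ {x y : Cn} {f f' : ℕ → ℕ},
      (∀ v : Fin 275, ((((x : TT) : Equiv.Perm (Fin 275)) v : Fin 275) : ℕ) = f v.1) →
      (∀ v : Fin 275, ((((y : TT) : Equiv.Perm (Fin 275)) v : Fin 275) : ℕ) = f' v.1) →
      ∀ v : Fin 275, (((((x * y : Cn) : TT) : Equiv.Perm (Fin 275)) v : Fin 275) : ℕ) = f (f' v.1) := by
    intro x y f f' hx hy v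
    rw [Subgroup.coe_mul, Subgroup.coe_mul, Equiv.Perm.mul_apply, hx, hy]
  have hV : ∀ {x : Cn} {f : ℕ → ℕ}, (∀ v : Fin 275, ((((x : TT) : Equiv.Perm (Fin 275)) v : Fin 275) : ℕ) = f v.1) →
      ((allB 5 fun p => f p == p) || (allB 5 fun p => f p == app 13 p) || (allB 5 fun p => f p == app 35 p) ||
        (allB 5 fun p => f p == app teI p)) = true → InV x := by
    intro x f hx h
    simp only [Bool.or_eq_true] at h
    rcases h with ((h | h) | h) | h
    · exact Or.inl ((five hx (f' := id) h1).1 h)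
    · exact Or.inr (Or.inl ((five hx hC).1 h))
    · exact Or.inr (Or.inr (Or.inl ((five hx hU).1 h)))
    · exact Or.inr (Or.inr (Or.inr (((five hx hW).1 h).trans te_eq.symm)))
  have ha2 : sqB a = true := (five (hmul hA hA) (f' := id) h1).2 h2a
  have hb2 : sqB b = true := (five (hmul hB hB) (f' := id) h1).2 h2b
  have hc2 : (allB 5 fun p => app a (app b p) == app b (app a p)) = true := (five (hmul hA hB) (hmul hB hA)).2 hab
  have h := allB_spec pair_ok a ha
  rw [ha2, Bool.not_true, Bool.false_or, Bool.or_eq_true] at h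
  rcases h with h | h
  · exact absurd (hV hA h) na
  have h := allB_spec h b hb
  rw [hb2, hc2, Bool.not_true, Bool.false_or, Bool.or_false, Bool.or_eq_true, Bool.or_eq_true] at h
  rcases h with (h | h) | h
  · exact absurd (hV hB h) nb
  · exact absurd (hV (hmul hA hB) h) nab
  simp only [List.any_eq_true, List.mem_range, Bool.and_eq_true, beq_iff_eq] at h
  obtain ⟨k, hk, ⟨j, hj, e⟩, j', hj', e'⟩ := h
  exact ⟨k, hk, ⟨j, hj, by rw [eE, e]⟩, j', hj', by rw [eE, e']⟩

/-- An element of `D` has a number. -/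
theorem exists_eV_mul {a b : ℕ} (ha : a < 192) (hb : b < 192) : ∃ z < 192, eV a * eV b = eV z :=
  exists_eV (by rw [mul_assoc, eV_comm hb, ← mul_assoc, eV_comm ha, mul_assoc])

section Cycle

universe u

variable {G : Type u} [Group G] (φ : Cn →* G) (u : G)

/-- `u` sends `x` to `y`. -/
def Maps (x y : Cn) : Prop := u * φ x * u⁻¹ = φ y

variable {φ u}

theorem Maps.mul {x y x' y' : Cn} (h : Maps φ u x y) (h' : Maps φ u x' y') : Maps φ u (x * x') (y * y') := by
  show _ = φ (y * y')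
  rw [map_mul φ y, ← h, ← h', map_mul]
  group

theorem maps_one : Maps φ u 1 1 := by show _ = _; simp

theorem Maps.comp {w : G} {x y z : Cn} (h : Maps φ w x y) (h' : Maps φ u y z) : Maps φ (u * w) x z := by
  show _ = _
  rw [show u * w * φ x * (u * w)⁻¹ = u * (w * φ x * w⁻¹) * u⁻¹ by group, h]
  exact h'

variable (hφ : Function.Injective φ)
include hφ

theorem Maps.inj {x y x' y' : Cn} (h : Maps φ u x y) (h' : Maps φ u x' y') (e : y = y') : x = x' := by
  subst e
  exact hφ (mul_left_cancel (mul_right_cancel (h.trans h'.symm)))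

variable (hu : ∀ v < 192, ∃ w < 192, Maps φ u (eV v) (eV w)) (h1 : Maps φ u tC te) (h2 : Maps φ u tau tC)
include hu h1 h2

theorem maps_te : Maps φ u te tau := by
  have h := h1.mul h2
  rwa [← te, te, show tC * tau * tC = tau by rw [mul_assoc, tC_central, ← mul_assoc, tC_sq, one_mul]] at h

theorem maps_inV {x y : Cn} (h : Maps φ u x y) (hy : InV y) : InV x := by
  rcases hy with e | e | e | e
  · exact Or.inl (Maps.inj hφ h maps_one e)
  · exact Or.inr (Or.inr (Or.inl (Maps.inj hφ h h2 e)))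
  · exact Or.inr (Or.inr (Or.inr (Maps.inj hφ h (maps_te hφ hu h1 h2) e)))
  · exact Or.inr (Or.inl (Maps.inj hφ h h1 e))

omit hu in
theorem not_inV {i j : ℕ} (hi : i < 2) (hj : j < 16) (h4 : 4 ≤ j) : ¬InV (eE i j) := by
  obtain ⟨e0, e1, e2, e3⟩ := eE_small hi
  rintro (h | h | h | h)
  · exact absurd (eE_inj hi hj (by norm_num) (h.trans e0.symm)) (by omega)
  · exact absurd (eE_inj hi hj (by norm_num) (h.trans e1.symm)) (by omega)
  · exact absurd (eE_inj hi hj (by norm_num) (h.trans e2.symm)) (by omega)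
  · exact absurd (eE_inj hi hj (by norm_num) (h.trans e3.symm)) (by omega)

/-- The two subgroups of order sixteen are permuted. -/
theorem maps_sixteen {i : ℕ} (hi : i < 2) :
    ∃ k < 2, ∀ j < 16, ∃ j' < 16, Maps φ u (eE i j) (eE k j') := by
  obtain ⟨e0, e1, e2, -⟩ := eE_small hi
  obtain ⟨a, ha, hMa⟩ := hu (eI i 4) eI_lt
  obtain ⟨b, hb, hMb⟩ := hu (eI i 8) eI_lt
  have hMa : Maps φ u (eE i 4) (eV a) := hMa
  have hMb : Maps φ u (eE i 8) (eV b) := hMb
  have sq : ∀ {x y : Cn}, Maps φ u x y → x * x = 1 → y * y = 1 := by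
    intro x y h e
    refine hφ ?_
    have h' : _ = φ (y * y) := h.mul h
    rw [← h', e, map_one, mul_one, mul_inv_cancel]
  have m12 := eE_mul hi (show 4 < 16 by norm_num) (show 8 < 16 by norm_num)
  have hMab : Maps φ u (eE i 12) (eV a * eV b) := by
    have h := hMa.mul hMb
    rwa [m12] at h
  have hab : eV a * eV b = eV b * eV a := by
    refine hφ ?_
    have h' : _ = φ (eV b * eV a) := hMb.mul hMa
    rw [eE_mul hi (by norm_num) (by norm_num)] at h'
    rw [← hMab]
    exact h'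
  obtain ⟨k, hk, ⟨j4, hj4, ea⟩, j8, hj8, eb⟩ := exists_sixteen ha hb
    (sq hMa (by rw [eE_mul hi (by norm_num) (by norm_num)]; exact e0))
    (sq hMb (by rw [eE_mul hi (by norm_num) (by norm_num)]; exact e0)) hab
    (fun h => not_inV hφ h1 h2 hi (by norm_num) le_rfl (maps_inV hφ hu h1 h2 hMa h))
    (fun h => not_inV hφ h1 h2 hi (by norm_num) (show 4 ≤ 8 by norm_num) (maps_inV hφ hu h1 h2 hMb h))
    (fun h => not_inV hφ h1 h2 hi (by norm_num) (show 4 ≤ 12 by norm_num) (maps_inV hφ hu h1 h2 hMab h))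
  rw [ea] at hMa
  rw [eb] at hMb
  obtain ⟨f0, f1, f2, f3⟩ := eE_small hk
  have hprod : ∀ {p q : ℕ}, p < 16 → q < 16 → (∃ p' < 16, Maps φ u (eE i p) (eE k p')) →
      (∃ q' < 16, Maps φ u (eE i q) (eE k q')) → ∃ r < 16, Maps φ u (eE i (p ^^^ q)) (eE k r) := by
    intro p q hp hq ⟨p', hp', hp''⟩ ⟨q', hq', hq''⟩
    refine ⟨p' ^^^ q', Nat.xor_lt_two_pow (n := 4) hp' hq', ?_⟩
    rw [← eE_mul hi hp hq, ← eE_mul hk hp' hq']
    exact hp''.mul hq''
  have m1 : ∃ j' < 16, Maps φ u (eE i 1) (eE k j') := ⟨3, by norm_num, by rw [e1, f3]; exact h1⟩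
  have m2 : ∃ j' < 16, Maps φ u (eE i 2) (eE k j') := ⟨1, by norm_num, by rw [e2, f1]; exact h2⟩
  have m4 : ∃ j' < 16, Maps φ u (eE i 4) (eE k j') := ⟨j4, hj4, hMa⟩
  have m8 : ∃ j' < 16, Maps φ u (eE i 8) (eE k j') := ⟨j8, hj8, hMb⟩
  have m0 : ∃ j' < 16, Maps φ u (eE i 0) (eE k j') := ⟨0, by norm_num, by rw [e0, f0]; exact maps_one⟩
  have bit : ∀ {q : ℕ}, q < 16 → (∃ j' < 16, Maps φ u (eE i q) (eE k j')) → ∀ b : Bool,
      ∃ j' < 16, Maps φ u (eE i (if b then q else 0)) (eE k j') := by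
    intro q hq h b
    cases b
    exacts [m0, h]
  refine ⟨k, hk, fun j hj => ?_⟩
  have h : j = ((if j.testBit 0 then 1 else 0) ^^^ (if j.testBit 1 then 2 else 0)) ^^^
      ((if j.testBit 2 then 4 else 0) ^^^ (if j.testBit 3 then 8 else 0)) := by
    interval_cases j <;> rfl
  rw [h]
  refine hprod ?_ ?_ (hprod ?_ ?_ (bit (by norm_num) m1 _) (bit (by norm_num) m2 _))
    (hprod ?_ ?_ (bit (by norm_num) m4 _) (bit (by norm_num) m8 _))
  all_goals (split_ifs <;> decide)

/-- Adjusting a fourth power gives the element of order three. -/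
theorem exists_c : ∃ c : G, ∀ v < 192, c * φ (eV v) = φ (eV (alN v)) * c := by
  classical
  have ht : Maps φ u te tau := maps_te hφ hu h1 h2
  set w := u * u * (u * u) with hw
  have w1 : Maps φ w tC te := ((h1.comp ht).comp (h2.comp h1))
  have w2 : Maps φ w tau tC := ((h2.comp h1).comp (ht.comp h2))
  have hwv : ∀ v < 192, ∃ z < 192, Maps φ w (eV v) (eV z) := by
    intro v hv
    obtain ⟨a, ha, ma⟩ := hu v hv
    obtain ⟨b, hb, mb⟩ := hu a ha
    obtain ⟨a', ha', ma'⟩ := hu b hb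
    obtain ⟨b', hb', mb'⟩ := hu a' ha'
    exact ⟨b', hb', (ma.comp mb).comp (ma'.comp mb')⟩
  choose π hπ hπm using fun i : Fin 2 => maps_sixteen hφ hu h1 h2 i.2
  let σ : Fin 2 → Fin 2 := fun i => ⟨π i, hπ i⟩
  have hσ : Function.Injective σ := by
    intro p q e
    by_contra hpq
    have e' : π p = π q := congrArg Fin.val e
    choose f hf hfm using fun j : Fin 16 => hπm p j.1 j.2
    obtain ⟨j', hj', hm⟩ := hπm q 4 (by norm_num)
    let F : Fin 16 → Fin 16 := fun j => ⟨f j, hf j⟩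
    have hF : Function.Injective F := fun x y exy => by
      have exy' : f x = f y := congrArg Fin.val exy
      exact Fin.ext (eE_inj p.2 x.2 y.2 (Maps.inj hφ (hfm x) (hfm y) (by rw [exy'])))
    obtain ⟨j, hj⟩ := (Finite.injective_iff_surjective.1 hF) ⟨j', hj'⟩
    have hj0 : f j = j' := congrArg Fin.val hj
    have hx := hfm j
    rw [hj0, e'] at hx
    have := Maps.inj hφ hx hm rfl
    have h' : eI p.1 j.1 = eI q.1 4 := eV_inj _ eI_lt _ eI_lt this
    obtain ⟨p, hp⟩ := p
    obtain ⟨q, hq⟩ := q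
    have hne : p ≠ q := fun h => hpq (Fin.ext h)
    rcases (show p = 0 ∧ q = 1 ∨ p = 1 ∧ q = 0 by omega) with ⟨rfl, rfl⟩ | ⟨rfl, rfl⟩
    · obtain ⟨hlt, he⟩ := eI_common j ⟨4, by norm_num⟩ h'
      rw [he] at hlt
      exact absurd hlt (by norm_num)
    · obtain ⟨hlt, -⟩ := eI_common ⟨4, by norm_num⟩ j h'.symm
      exact absurd hlt (by norm_num)
  have h4 : ∀ i : Fin 2, σ (σ (σ (σ i))) = i := by
    intro i
    have key : ∀ s : Fin 2 → Fin 2, Function.Injective s → s (s (s (s i))) = i := by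
      revert i; decide
    exact key σ hσ
  have hwE : ∀ i < 2, ∀ j < 16, ∃ j' < 16, Maps φ w (eE i j) (eE i j') := by
    intro i hi j hj
    obtain ⟨ja, hja, ma⟩ := hπm ⟨i, hi⟩ j hj
    obtain ⟨jb, hjb, mb⟩ := hπm (σ ⟨i, hi⟩) ja hja
    obtain ⟨jc, hjc, mc⟩ := hπm (σ (σ ⟨i, hi⟩)) jb hjb
    obtain ⟨jd, hjd, md⟩ := hπm (σ (σ (σ ⟨i, hi⟩))) jc hjc
    refine ⟨jd, hjd, ?_⟩
    have h := (ma.comp mb).comp (mc.comp md)
    rwa [show π (σ (σ (σ ⟨i, hi⟩))) = i from congrArg Fin.val (h4 ⟨i, hi⟩)] at h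
  have hAex : ∀ v : ℕ, ∃ a : Cn, v < 192 → Maps φ w (eV v) a := fun v => by
    by_cases hv : v < 192
    · obtain ⟨z, -, hz⟩ := hwv v hv
      exact ⟨eV z, fun _ => hz⟩
    · exact ⟨1, fun h => absurd h hv⟩
  choose A hA using hAex
  have uniq : ∀ {x y y' : Cn}, Maps φ w x y → Maps φ w x y' → y = y' :=
    fun h h' => hφ (h.symm.trans h')
  obtain ⟨v, hv, hv'⟩ := auto_eq A
    (fun a ha b hb z hz e => (uniq (hA z hz) (e ▸ (hA a ha).mul (hA b hb))).symm)
    (fun a ha b hb e => eV_inj a ha b hb (Maps.inj hφ (hA a ha) (hA b hb) e))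
    (fun x hx => by
      obtain ⟨z, hz, mz⟩ := hwv x hx
      rw [uniq (hA x hx) mz, eV_comm hz])
    ((uniq (hA 13 (by norm_num)) w1).trans te_eq)
    (uniq (hA 35 (by norm_num)) w2)
    (fun i hi j hj => by
      obtain ⟨j', hj', m⟩ := hwE i hi j hj
      exact ⟨j', hj', uniq (hA _ eI_lt) m⟩)
  refine ⟨(φ (eV v))⁻¹ * w, fun x hx => ?_⟩
  have e : w * φ (eV x) = φ (A x) * w := mul_inv_eq_iff_eq_mul.1 (hA x hx)
  have key : (φ (eV v))⁻¹ * φ (A x) = φ (eV (alN x)) * (φ (eV v))⁻¹ := by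
    rw [inv_mul_eq_iff_eq_mul, ← mul_assoc, eq_mul_inv_iff_mul_eq, ← map_mul, ← map_mul, hv' x hx]
  rw [mul_assoc, e, ← mul_assoc, key, mul_assoc]

end Cycle

section Sub

universe u

variable {G : Type u} [Group G] [Finite G]

/-- The McLaughlin subgroup containing a double cover of `A₈` in the centraliser of an involution. -/
theorem exists_mcl_sub (t : G) (ht : orderOf t = 2) (C0 : Subgroup G)
    (hle : C0 ≤ Subgroup.centralizer ({t} : Set G))
    (hcov : Cfsg.IsNonsplitDoubleCover C0 (alternatingGroup (Fin 8)))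
    (hconj : ∀ y ∈ Subgroup.centralizer ({t} : Set G), orderOf y = 2 → y ≠ t →
      ∃ h ∈ Subgroup.centralizer ({t} : Set G), h * y * h⁻¹ ∈ C0)
    (hloc : ∀ y ∈ C0, orderOf y = 2 → y ≠ t →
      Subgroup.centralizer ({t} : Set G) ⊓ Subgroup.centralizer ({y} : Set G) ≤ C0)
    (x : G) (hx : x * t * x⁻¹ ∈ Subgroup.centralizer ({t} : Set G)) (hx' : x * t * x⁻¹ ≠ t) :
    ∃ M : Subgroup G, C0 ≤ M ∧ Nonempty (M ≃* Cfsg.Spor.McL) := by
  have cmem : ∀ {a b : G}, a ∈ Subgroup.centralizer ({b} : Set G) ↔ a * b = b * a :=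
    Subgroup.mem_centralizer_singleton_iff
  obtain ⟨e⟩ := cover_unique nonsplit_Cn hcov
  set φ0 : Cn →* G := C0.subtype.comp e.toMonoidHom with hφ0
  have hinj0 : Function.Injective φ0 := C0.subtype_injective.comp e.injective
  have hmem0 : ∀ a : Cn, φ0 a ∈ C0 := fun a => (e a).2
  have hsurj0 : ∀ g ∈ C0, ∃ a, φ0 a = g := fun g hg => ⟨e.symm ⟨g, hg⟩, by simp [hφ0]⟩
  have hcomm : ∀ a : Cn, φ0 a * t = t * φ0 a := fun a => cmem.1 (hle (hmem0 a))
  have ord_tC : orderOf tC = 2 := orderOf_eq_prime (by rw [pow_two, tC_sq]) tC_ne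
  -- the involution lies in `C0` as its central involution
  have htC : φ0 tC = t := by
    by_contra hne
    have ho : orderOf (φ0 tC) = 2 := by rw [orderOf_injective φ0 hinj0, ord_tC]
    have htmem : t ∈ C0 := hloc _ (hmem0 tC) ho hne
      ⟨cmem.2 rfl, cmem.2 (hcomm tC).symm⟩
    obtain ⟨a, ha⟩ := hsurj0 t htmem
    have hac : a ∈ Subgroup.center Cn := Subgroup.mem_center_iff.2 fun b => hinj0 (by
      rw [map_mul, map_mul, ha]; exact hcomm b)
    obtain ⟨p, q, hpq, huniv⟩ := Nat.card_eq_two_iff.1 card_center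
    have hmem : ∀ z : Subgroup.center Cn, z = p ∨ z = q := fun z => by
      have : z ∈ ({p, q} : Set _) := huniv ▸ Set.mem_univ z
      simpa using this
    have hT : tC ∈ Subgroup.center Cn := Subgroup.mem_center_iff.2 fun b => tC_central b
    have ha1 : a ≠ 1 := fun h => by
      rw [h, map_one] at ha
      rw [← ha, orderOf_one] at ht
      norm_num at ht
    have h3 : (⟨a, hac⟩ : Subgroup.center Cn) = ⟨tC, hT⟩ := by
      have n1 : (⟨a, hac⟩ : Subgroup.center Cn) ≠ 1 := fun h => ha1 (congrArg Subtype.val h)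
      have n2 : (⟨tC, hT⟩ : Subgroup.center Cn) ≠ 1 := fun h => tC_ne (congrArg Subtype.val h)
      rcases hmem 1 with h | h <;> rcases hmem ⟨a, hac⟩ with h' | h' <;> rcases hmem ⟨tC, hT⟩ with h'' | h'' <;>
        simp_all
    have h4 : a = tC := congrArg Subtype.val h3
    exact hne (h4 ▸ ha)
  have tsq : t * t = 1 := by rw [← pow_two, ← ht, pow_orderOf_eq_one]
  have hct : ∀ {h : G}, h ∈ Subgroup.centralizer ({t} : Set G) → h * t * h⁻¹ = t := fun hh =>
    mul_inv_eq_iff_eq_mul.2 (cmem.1 hh)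
  have hcord : ∀ g : G, orderOf (g * t * g⁻¹) = 2 := fun g =>
    (orderOf_injective (MulAut.conj g).toMonoidHom (MulAut.conj g).injective t).trans ht
  obtain ⟨h, hh, hhy⟩ := hconj _ hx (hcord x) hx'
  set x1 := h * x with hx1
  set y := x1 * t * x1⁻¹ with hy
  have hy0 : y ∈ C0 := by
    rwa [hy, hx1, show h * x * t * (h * x)⁻¹ = h * (x * t * x⁻¹) * h⁻¹ by group]
  have hyne : y ≠ t := fun e => hx' (by
    have e' : h * (x * t * x⁻¹) * h⁻¹ = y := by rw [hy, hx1]; group
    exact mul_left_cancel (mul_right_cancel (e'.trans (e.trans (hct hh).symm))))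
  have hyord : orderOf y = 2 := hcord x1
  have pull : ∀ g ∈ C0, orderOf g = 2 → g ≠ t → ∃ a : Cn, φ0 (a * tau * a⁻¹) = g := by
    intro g hg hgo hgt
    obtain ⟨Y, hY⟩ := hsurj0 g hg
    have hYY : Y * Y = 1 := hinj0 (by rw [map_mul, hY, map_one, ← pow_two, ← hgo, pow_orderOf_eq_one])
    have hY1 : Y ≠ 1 := fun h => by
      rw [h, map_one] at hY
      rw [← hY, orderOf_one] at hgo
      norm_num at hgo
    obtain ⟨a, ha⟩ := exists_conj_tau hYY hY1 (fun h => hgt (by rw [← hY, h, htC]))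
    exact ⟨a, by rw [ha, hY]⟩
  obtain ⟨g0, hg0⟩ := pull y hy0 hyord hyne
  let φ : Cn →* G := φ0.comp (MulAut.conj g0).toMonoidHom
  have hinj : Function.Injective φ := hinj0.comp (MulAut.conj g0).injective
  have hφapp : ∀ a, φ a = φ0 (g0 * a * g0⁻¹) := fun a => rfl
  have hmem : ∀ a, φ a ∈ C0 := fun a => hmem0 _
  have hsurj : ∀ g ∈ C0, g ∈ φ.range := fun g hg => by
    obtain ⟨a, rfl⟩ := hsurj0 g hg
    exact ⟨g0⁻¹ * a * g0, by rw [hφapp]; congr 1; group⟩
  have hT : φ tC = t := by rw [hφapp, tC_central, mul_inv_cancel_right, htC]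
  have hY : φ tau = y := hg0
  have hsw : el swI * tau * (el swI)⁻¹ = te := by
    have e : el swI * tau = te * el swI := by
      rw [te_eq, ← el_lt (show teI < 192 from eI_lt), tau, ← el_lt (by norm_num : (35 : ℕ) < 192)]
      refine el_mul_comm_of (by norm_num [swI]) (by norm_num) (lt_trans eI_lt (by norm_num))
        (by norm_num [swI]) fun p hp => ?_
      have h := inv_ok
      rw [invB, Bool.and_eq_true] at h
      exact beq_iff_eq.1 (allB_spec h.1 p hp)
    rw [e, mul_inv_cancel_right]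
  -- an element of `C(y)` sending `t` to `t * y`
  set t' := x1⁻¹ * t * x1 with ht'
  have hyc : y * t = t * y := cmem.1 (hle hy0)
  have ht'c : t' * t = t * t' := by
    calc t' * t = x1⁻¹ * (t * y) * x1 := by rw [ht', hy]; group
      _ = x1⁻¹ * (y * t) * x1 := by rw [hyc]
      _ = t * t' := by rw [ht', hy]; group
  have ht'ne : t' ≠ t := fun e => hyne (by
    rw [hy]
    calc x1 * t * x1⁻¹ = x1 * t' * x1⁻¹ := by rw [e]
      _ = t := by rw [ht']; group)
  have ht'ord : orderOf t' = 2 := by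
    have := hcord x1⁻¹
    rwa [inv_inv] at this
  obtain ⟨h', hh', hh'y⟩ := hconj t' (cmem.2 ht'c) ht'ord ht'ne
  have hne2 : h' * t' * h'⁻¹ ≠ t := fun e => ht'ne (by
    have e' : h' * t' * h'⁻¹ = h' * t * h'⁻¹ := by rw [hct hh', e]
    exact mul_left_cancel (mul_right_cancel e'))
  obtain ⟨g1, hg1⟩ := pull _ hh'y
    ((orderOf_injective (MulAut.conj h').toMonoidHom (MulAut.conj h').injective t').trans ht'ord) hne2
  set s1 := φ0 (g1 * el swI * g1⁻¹) with hs1
  have hs1t : s1 * t * s1⁻¹ = t := hct (hle (hmem0 _))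
  have hs1' : s1 * (h' * t' * h'⁻¹) * s1⁻¹ = t * (h' * t' * h'⁻¹) := by
    rw [← hg1, hs1, ← htC, ← map_inv, ← map_mul, ← map_mul, ← map_mul]
    congr 1
    calc g1 * el swI * g1⁻¹ * (g1 * tau * g1⁻¹) * (g1 * el swI * g1⁻¹)⁻¹
        = g1 * (el swI * tau * (el swI)⁻¹) * g1⁻¹ := by group
      _ = g1 * tC * tau * g1⁻¹ := by rw [hsw, te]; group
      _ = tC * (g1 * tau * g1⁻¹) := by rw [tC_central]; group
  set k := x1 * (h'⁻¹ * s1 * h') * x1⁻¹ with hk
  have hky : k * y * k⁻¹ = y := by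
    have e : h'⁻¹ * t * h' = t := by
      have := hct (inv_mem hh')
      rwa [inv_inv] at this
    calc k * y * k⁻¹ = x1 * (h'⁻¹ * (s1 * (h' * t * h'⁻¹) * s1⁻¹) * h') * x1⁻¹ := by rw [hk, hy]; group
      _ = y := by rw [hct hh', hs1t, e, hy]
  have hkt : k * t * k⁻¹ = t * y := by
    calc k * t * k⁻¹ = x1 * (h'⁻¹ * (s1 * (h' * t' * h'⁻¹) * s1⁻¹) * h') * x1⁻¹ := by rw [hk, ht']; group
      _ = x1 * ((h'⁻¹ * t * h') * t') * x1⁻¹ := by rw [hs1']; group
      _ = x1 * (t * t') * x1⁻¹ := by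
          have := hct (inv_mem hh')
          rw [inv_inv] at this
          rw [this]
      _ = y * t := by rw [ht', hy]; group
      _ = t * y := hyc
  set s := φ (el swI) with hs
  have hst : s * t * s⁻¹ = t := hct (hle (hmem _))
  have hsy : s * y * s⁻¹ = t * y := by
    rw [hs, ← hY, ← hT, ← map_inv, ← map_mul, ← map_mul, ← map_mul, hsw, te]
  set u := k * s with hu
  have h1 : Maps φ u tC te := by
    show _ = φ te
    rw [te, map_mul, hT, hY, hu, show k * s * t * (k * s)⁻¹ = k * (s * t * s⁻¹) * k⁻¹ by group, hst, hkt]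
  have h2 : Maps φ u tau tC := by
    show _ = φ tC
    rw [hY, hT, hu, show k * s * y * (k * s)⁻¹ = k * (s * y * s⁻¹) * k⁻¹ by group, hsy,
      show k * (t * y) * k⁻¹ = (k * t * k⁻¹) * (k * y * k⁻¹) by group, hkt, hky, mul_assoc, ← pow_two,
      ← hyord, pow_orderOf_eq_one, mul_one]
  have hnorm : ∀ v < 192, ∃ w < 192, Maps φ u (eV v) (eV w) := by
    intro v hv
    have c1 : φ (eV v) * t = t * φ (eV v) := by rw [← hT, ← map_mul, ← map_mul, tC_central]
    have c2 : φ (eV v) * y = y * φ (eV v) := by rw [← hY, ← map_mul, ← map_mul, eV_comm hv]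
    set d := u * φ (eV v) * u⁻¹ with hd
    have conjc : ∀ {a b : G}, a * b = b * a → u * b * u⁻¹ * (u * a * u⁻¹) = u * a * u⁻¹ * (u * b * u⁻¹) :=
      fun {a b} hab => by
        calc u * b * u⁻¹ * (u * a * u⁻¹) = u * (b * a) * u⁻¹ := by group
          _ = u * (a * b) * u⁻¹ := by rw [hab]
          _ = u * a * u⁻¹ * (u * b * u⁻¹) := by group
    have d1 : d * (t * y) = t * y * d := by
      rw [← hT, ← hY, ← map_mul, ← te, ← h1, hd, hT]
      exact (conjc c1).symm
    have d2 : d * t = t * d := by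
      rw [← hT, ← h2, hd, hY]
      exact (conjc c2).symm
    have d3 : d * y = y * d := by
      refine mul_left_cancel (a := t) ?_
      rw [← mul_assoc, ← d2, mul_assoc, d1, mul_assoc]
    obtain ⟨a, ha⟩ := hsurj d (hloc y hy0 hyord hyne ⟨cmem.2 d2, cmem.2 d3⟩)
    obtain ⟨w, hw, rfl⟩ := exists_eV (g := a) (hinj (by rw [map_mul, map_mul, ha, hY]; exact d3))
    exact ⟨w, hw, ha.symm⟩
  obtain ⟨c, hc⟩ := exists_c hinj hnorm h1 h2
  obtain ⟨M, hM, hiso⟩ := exists_mcl_core φ hinj c hc fun i hi z hz => by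
    obtain ⟨-, e1, e2, -⟩ := eE_small hi
    have z1 := hz 1 (by norm_num)
    have z2 := hz 2 (by norm_num)
    rw [e1, hT] at z1
    rw [e2, hY] at z2
    exact hsurj z (hloc y hy0 hyord hyne ⟨cmem.2 z1, cmem.2 z2⟩)
  exact ⟨M, fun g hg => hM (hsurj g hg), hiso⟩

/-- The McLaughlin subgroup containing the centraliser of an involution. -/
theorem exists_mcl (t : G) (ht : orderOf t = 2)
    (hcov : Cfsg.IsNonsplitDoubleCover (Subgroup.centralizer ({t} : Set G)) (alternatingGroup (Fin 8)))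
    (x : G) (hx : x * t * x⁻¹ ∈ Subgroup.centralizer ({t} : Set G)) (hx' : x * t * x⁻¹ ≠ t) :
    ∃ M : Subgroup G, Subgroup.centralizer ({t} : Set G) ≤ M ∧ Nonempty (M ≃* Cfsg.Spor.McL) :=
  exists_mcl_sub t ht _ le_rfl hcov (fun y hy _ _ => ⟨1, one_mem _, by simpa using hy⟩)
    (fun _ _ _ _ => inf_le_left) x hx hx'

end Sub

end Cfsg.Agent.McLType
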