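import Cfsg.Agent.Lib.McLType.Top
import Cfsg.Agent.Lib.McLType.Fusion

/-!
McL by the centralizer of an involution, from the existence of the subgroup.
-/

set_option autoImplicit false

namespace Cfsg.Agent.McLType

open Cfsg

universe u

/-- The recognition from the existence of the subgroup. -/
theorem mcl_of_exists {G : Type u} [Group G] [Finite G] (t : G) (ht : orderOf t = 2)
    (hcov : IsNonsplitDoubleCover (Subgroup.centralizer ({t} : Set G)) (alternatingGroup (Fin 8)))
    (hex : ∀ x : G, x * t * x⁻¹ ∈ Subgroup.centralizer ({t} : Set G) → x * t * x⁻¹ ≠ t →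
      ∃ M : Subgroup G, Subgroup.centralizer ({t} : Set G) ≤ M ∧ Nonempty (M ≃* ↥Spor.McL)) :
    Subgroup.centralizer ({t} : Set G) ⊔ Cfsg.oddCore G = ⊤ ∨ Nonempty (G ≃* ↥Spor.McL) := by
  rcases eq_or_ne (Subgroup.centralizer ({t} : Set G) ⊔ Cfsg.oddCore G) ⊤ with h | h
  · exact Or.inl h
  obtain ⟨x, hx, hx'⟩ := exists_conj t ht h
  obtain ⟨M, hC, hM⟩ := hex x hx hx'
  have htop := eq_top t ht M hC hM hcov
  obtain ⟨e⟩ := hM
  subst htop
  exact Or.inr ⟨Subgroup.topEquiv.symm.trans e⟩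

end Cfsg.Agent.McLType
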