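import Mathlib

/-!
Generated data for the automorphisms of the centraliser of two involutions in the McLaughlin group.
-/

set_option autoImplicit false

namespace Cfsg.Agent.McLType.Data

/-- The elements of order three. -/
def order3 : List ℕ :=
  [4, 8, 12, 18, 20, 21, 23, 29, 30, 33, 36, 37, 39, 45, 48, 54, 61, 64, 77, 84, 113, 115, 117, 129, 132, 139,
  147, 148, 151, 156, 171, 183]

/-- An element of order three. -/
def yI : ℕ :=
  4

/-- Commutators of the generators. -/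
def relL : List (List ℕ) :=
  [[0, 2, 3], [0, 3, 2], [1, 2, 2], [1, 3, 1]]

/-- The element of order three on the generators. -/
def actL : List (List ℕ) :=
  [[0, 13], [1, 6], [2, 8], [3, 12]]

/-- The images of the generators under the automorphisms, with an inner automorphism for each. -/
def candL : List (List ℕ) :=
  [[4, 9, 11, 14, 113, 39], [4, 9, 9, 15, 64, 15], [4, 9, 8, 12, 183, 20], [4, 9, 10, 13, 33, 31], [9, 12, 7,
  10, 156, 34], [9, 12, 4, 8, 54, 48], [9, 12, 6, 9, 129, 4], [9, 12, 5, 11, 84, 61], [6, 8, 11, 14, 84, 18],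
  [6, 8, 9, 15, 129, 2], [6, 8, 8, 12, 54, 28], [6, 8, 10, 13, 156, 97], [13, 7, 12, 4, 54, 11], [13, 7, 15,
  6, 129, 16], [13, 7, 13, 7, 156, 6], [13, 7, 14, 5, 84, 69], [15, 6, 12, 4, 77, 55], [15, 6, 15, 6, 21, 9],
  [15, 6, 13, 7, 8, 14], [15, 6, 14, 5, 147, 50], [7, 11, 11, 14, 147, 29], [7, 11, 9, 15, 21, 106], [7, 11,
  8, 12, 77, 25], [7, 11, 10, 13, 8, 1], [8, 15, 7, 10, 33, 41], [8, 15, 4, 8, 183, 33], [8, 15, 6, 9, 64,
  27], [8, 15, 5, 11, 113, 5], [5, 10, 11, 14, 61, 12], [5, 10, 9, 15, 171, 30], [5, 10, 8, 12, 4, 40], [5,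
  10, 10, 13, 48, 23], [14, 5, 12, 4, 183, 82], [14, 5, 15, 6, 64, 56], [14, 5, 13, 7, 33, 62], [14, 5, 14, 5,
  113, 0], [10, 14, 7, 10, 8, 7], [10, 14, 4, 8, 77, 43], [10, 14, 6, 9, 21, 54], [10, 14, 5, 11, 147, 3],
  [12, 4, 12, 4, 4, 17], [12, 4, 15, 6, 171, 10], [12, 4, 13, 7, 48, 70], [12, 4, 14, 5, 61, 81], [11, 13, 7,
  10, 48, 21], [11, 13, 4, 8, 4, 8], [11, 13, 6, 9, 171, 46], [11, 13, 5, 11, 61, 53]]

/-- Each element is an earlier one times one of seven generators. -/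
def slpL : List (List ℕ) :=
  [[13, 0, 0], [35, 0, 1], [56, 0, 2], [105, 0, 3], [104, 0, 4], [127, 0, 5], [4, 0, 6], [68, 1, 1], [110, 1,
  2], [62, 1, 3], [150, 1, 4], [75, 1, 5], [85, 1, 6], [76, 2, 2], [125, 2, 3], [109, 2, 4], [133, 2, 5],
  [102, 2, 6], [136, 3, 3], [108, 3, 4], [159, 3, 5], [178, 3, 6], [162, 4, 4], [87, 4, 5], [74, 4, 6], [9, 5,
  2], [158, 5, 3], [81, 5, 5], [77, 5, 6], [163, 6, 2], [6, 6, 3], [183, 6, 6], [67, 7, 2], [182, 7, 3], [54,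
  7, 5], [36, 7, 6], [99, 8, 2], [142, 8, 3], [50, 8, 4], [69, 8, 5], [103, 8, 6], [82, 9, 3], [141, 9, 4],
  [16, 9, 5], [152, 9, 6], [24, 10, 4], [48, 10, 6], [90, 11, 2], [14, 11, 3], [118, 11, 5], [46, 11, 6],
  [172, 12, 2], [60, 12, 6], [34, 13, 2], [61, 13, 3], [169, 13, 5], [1, 13, 6], [116, 14, 3], [124, 15, 5],
  [170, 15, 6], [130, 16, 5], [72, 16, 6], [80, 17, 3], [27, 17, 6], [52, 18, 2], [123, 18, 5], [58, 18, 6],
  [55, 19, 4], [153, 19, 5], [179, 20, 3], [96, 20, 5], [184, 20, 6], [131, 21, 3], [5, 21, 6], [84, 22, 5],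
  [79, 22, 6], [98, 23, 2], [70, 23, 5], [8, 23, 6], [11, 24, 2], [144, 24, 6], [171, 25, 3], [180, 25, 5],
  [128, 25, 6], [73, 26, 3], [10, 26, 5], [53, 26, 6], [181, 27, 5], [32, 27, 6], [44, 28, 2], [78, 28, 3],
  [49, 29, 2], [147, 29, 3], [117, 29, 6], [92, 30, 3], [91, 30, 4], [113, 30, 6], [134, 31, 4], [51, 31, 6],
  [41, 32, 2], [23, 32, 6], [59, 33, 3], [185, 33, 4], [7, 33, 5], [177, 33, 6], [3, 34, 5], [25, 34, 6],
  [129, 35, 2], [38, 35, 3], [132, 35, 6], [166, 36, 2], [106, 36, 3], [95, 37, 3], [114, 39, 5], [175, 39,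
  6], [65, 40, 6], [167, 41, 5], [57, 41, 6], [86, 44, 6], [137, 45, 5], [122, 45, 6], [89, 46, 6], [43, 47,
  5], [29, 47, 6], [168, 48, 6], [93, 49, 6], [21, 51, 2], [31, 51, 6], [94, 52, 6], [176, 53, 2], [121, 53,
  6], [64, 54, 4], [88, 54, 5], [143, 54, 6], [148, 55, 6], [107, 56, 2], [155, 56, 6], [101, 57, 2], [151,
  57, 3], [33, 59, 6], [187, 60, 5], [42, 62, 2], [111, 62, 6], [66, 63, 6], [138, 64, 6], [97, 66, 6], [22,
  68, 5], [17, 70, 5], [160, 71, 3], [126, 72, 6], [161, 73, 4], [45, 74, 6], [156, 75, 2], [100, 75, 6],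
  [154, 77, 6], [63, 79, 6], [19, 81, 6], [18, 83, 6], [145, 87, 6], [39, 89, 6], [139, 92, 6], [174, 93, 6],
  [146, 94, 3], [40, 97, 6], [157, 99, 6], [112, 100, 6], [12, 101, 2], [186, 101, 3], [119, 103, 6], [37,
  104, 6], [120, 105, 5], [28, 106, 6], [20, 107, 5], [47, 108, 6], [135, 109, 6], [140, 110, 2], [149, 111,
  4], [15, 112, 5], [83, 115, 6], [173, 116, 6], [165, 117, 6], [190, 119, 6], [115, 120, 6], [191, 122, 6],
  [188, 126, 6], [189, 129, 6], [30, 130, 6], [26, 131, 2], [2, 133, 6], [71, 136, 6], [164, 138, 4]]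

end Cfsg.Agent.McLType.Data
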