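import Cfsg.Agent.Lib.McLType.CVFacts
import Cfsg.Agent.Lib.McLType.AutoData

/-!
The automorphisms of the centraliser `D` of two involutions that cycle the four-group and fix its two
subgroups of order sixteen are inner automorphisms times the action of the element of order three.
-/

set_option autoImplicit false
set_option maxRecDepth 100000
set_option Elab.async false

noncomputable section

namespace Cfsg.Agent.McLType

open Cfsg.Agent.GroupStructure3.McLInv (pT allB allB_spec allB_iff IsT TT tG Cn t0_spec tT)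

/-- The action of the element of order three. -/
def alN (v : ℕ) : ℕ := Data.alT.get v

/-- The inverse of that action. -/
def beN (v : ℕ) : ℕ := Data.beT.get v

/-- The check of the action of the element of order three. -/
def actOK : Bool :=
  allB 192 fun v => decide (alN v < 192 ∧ beN v < 192 ∧ alN (beN v) = v ∧ beN (alN v) = v) &&
    allB 5 fun p => pT (nd 4) (app v p) == app (alN v) (pT (nd 4) p)

theorem act_ok : actOK = true := by decide +kernel

theorem alN_lt {v : ℕ} (hv : v < 192) : alN v < 192 ∧ beN v < 192 ∧ alN (beN v) = v ∧ beN (alN v) = v := by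
  have h := allB_spec act_ok v hv
  rw [Bool.and_eq_true, decide_eq_true_eq] at h
  exact h.1

theorem cG_conj {v : ℕ} (hv : v < 192) : cG * (eV v : TT) = (eV (alN v) : TT) * cG := by
  have h := allB_spec act_ok v hv
  rw [Bool.and_eq_true, decide_eq_true_eq] at h
  rw [← el_lt hv, ← el_lt h.1.1]
  refine eq_of_five fun w hw => ?_
  rw [Subgroup.coe_mul, Subgroup.coe_mul, Equiv.Perm.mul_apply, Equiv.Perm.mul_apply, el_app (by omega),
    cG, gB_tab (by norm_num), el_app (by omega), gB_tab (by norm_num)]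
  exact beq_iff_eq.1 (allB_spec h.2 w.1 hw)

/-- The product of two elements of a subgroup of order sixteen. -/
def eB : Bool :=
  allB 2 fun i => allB 16 fun a => allB 16 fun b => allB 5 fun p =>
    app (eI i a) (app (eI i b) p) == app (eI i (a ^^^ b)) p

theorem e_ok : eB = true := by decide +kernel

theorem eE_mul {i a b : ℕ} (hi : i < 2) (ha : a < 16) (hb : b < 16) : eE i a * eE i b = eE i (a ^^^ b) := by
  rw [eE_el, eE_el, eE_el]
  refine of_mulB ?_
  simp only [mulB, Bool.and_eq_true, decide_eq_true_eq]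
  exact ⟨⟨⟨lt_trans eI_lt (by norm_num), lt_trans eI_lt (by norm_num)⟩, lt_trans eI_lt (by norm_num)⟩,
    allB_spec (allB_spec (allB_spec e_ok i hi) a ha) b hb⟩

theorem eI_inj : ∀ i : Fin 2, ∀ a b : Fin 16, eI i a = eI i b → a = b := by decide +kernel

theorem eE_inj {i a b : ℕ} (hi : i < 2) (ha : a < 16) (hb : b < 16) (h : eE i a = eE i b) : a = b :=
  congrArg Fin.val (eI_inj ⟨i, hi⟩ ⟨a, ha⟩ ⟨b, hb⟩ (eV_inj _ eI_lt _ eI_lt h))

theorem eE_four : ∀ j < 4, eI 1 j = eI 0 j := by decide +kernel

/-- The images of the four-group. -/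
def vimg : ℕ → ℕ
  | 1 => 3
  | 2 => 1
  | 3 => 2
  | _ => 0

/-- The image of an element of a subgroup of order sixteen, given those of two generators. -/
def imgJ (g4 g8 j : ℕ) : ℕ :=
  vimg (j % 4) ^^^ (if j / 4 % 2 = 1 then g4 else 0) ^^^ (if j / 8 = 1 then g8 else 0)

/-- The number of one of the four generators in the subgroups of order sixteen. -/
def gI (k : ℕ) : ℕ := eI (k / 2) (if k % 2 = 0 then 4 else 8)

/-- An entry of a table. -/
def ent (l : List (List ℕ)) (r c : ℕ) : ℕ := (l.getD r []).getD c 0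

/-- The relations between the generators. -/
def relB : Bool :=
  (allB 4 fun r => allB 5 fun p =>
    app (gI (ent Data.relL r 0)) (app (gI (ent Data.relL r 1)) p) ==
      app (gI (ent Data.relL r 1)) (app (gI (ent Data.relL r 0)) (app (eI 0 (ent Data.relL r 2)) p))) &&
  (allB 4 fun r => allB 5 fun p =>
    app Data.yI (app (gI r) p) == app (eI (r / 2) (ent Data.actL r 1)) (app Data.yI p)) &&
  (allB 5 fun p => app Data.yI (app Data.yI (app Data.yI p)) == p) &&
  allB 192 fun v => !(allB 5 fun p => app v (app v (app v p)) == p) || v == 0 || Data.order3.contains v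

theorem rel_ok : relB = true := by decide +kernel

/-- The candidates. -/
def searchB : Bool :=
  allB 16 fun a => decide (a < 4) || allB 16 fun b => decide (b < 4 ∨ b / 4 = a / 4) ||
    allB 16 fun c => decide (c < 4) || allB 16 fun d => decide (d < 4 ∨ d / 4 = c / 4) ||
      let g : ℕ → ℕ := fun k => match k with
        | 0 => eI 0 a
        | 1 => eI 0 b
        | 2 => eI 1 c
        | _ => eI 1 d
      !(allB 4 fun r => allB 5 fun p =>
          app (g (ent Data.relL r 0)) (app (g (ent Data.relL r 1)) p) ==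
            app (g (ent Data.relL r 1)) (app (g (ent Data.relL r 0)) (app (eI 0 (vimg (ent Data.relL r 2))) p))) ||
        Data.order3.all fun y =>
          !(allB 4 fun r => allB 5 fun p =>
              app y (app (g r) p) == app (eI (r / 2) (imgJ (if r < 2 then a else c) (if r < 2 then b else d)
                (ent Data.actL r 1))) (app y p)) ||
            Data.candL.any fun l => l.take 5 == [a, b, c, d, y]

theorem search_ok : searchB = true := by decide +kernel

/-- The seven generators. -/
def baseI : List ℕ := [13, 35, gI 0, gI 1, gI 2, gI 3, Data.yI]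

/-- The check of the generation and of the inner automorphisms. -/
def genB : Bool :=
  (allB 191 fun r => decide (ent Data.slpL r 1 ≤ r ∧ ent Data.slpL r 2 < 7) &&
    let prev := if ent Data.slpL r 1 = 0 then 0 else ent Data.slpL (ent Data.slpL r 1 - 1) 0
    allB 5 fun p => app prev (app (baseI.getD (ent Data.slpL r 2) 0) p) == app (ent Data.slpL r 0) p) &&
  (allB 192 fun v => v == 0 || (List.range 191).any fun r => ent Data.slpL r 0 == v) &&
  Data.candL.all fun l => decide (l.getD 5 0 < 192) &&
    allB 7 fun k =>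
      let img : ℕ := match k with
        | 0 => teI
        | 1 => 13
        | 6 => l.getD 4 0
        | _ => eI ((k - 2) / 2) (l.getD (k - 2) 0)
      decide (img < 192) && allB 5 fun p =>
        app (l.getD 5 0) (app (alN (baseI.getD k 0)) p) == app img (app (l.getD 5 0) p)

theorem gen_ok' : genB = true := by decide +kernel

theorem baseI_lt : ∀ k : Fin 7, baseI.getD k 0 < 192 := by decide +kernel

theorem eV_app {v : ℕ} (hv : v < 192) (w : Fin 275) :
    (((((eV v : Cn) : TT) : Equiv.Perm (Fin 275)) w : Fin 275) : ℕ) = app v w.1 := by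
  rw [← el_lt hv, el_app (by omega)]

/-- An automorphism of `D` which cycles the four-group and fixes both subgroups of order sixteen acts as
the element of order three followed by an inner automorphism. -/
theorem auto_eq (A : ℕ → Cn)
    (hmul : ∀ a < 192, ∀ b < 192, ∀ z < 192, eV a * eV b = eV z → A a * A b = A z)
    (hinj : ∀ a < 192, ∀ b < 192, A a = A b → a = b)
    (hcv : ∀ v < 192, A v * tau = tau * A v)
    (hT : A 13 = eV teI) (htau : A 35 = eV 13)
    (hE : ∀ i < 2, ∀ j < 16, ∃ j' < 16, A (eI i j) = eE i j') :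
    ∃ v < 192, ∀ x < 192, A x * eV v = eV v * eV (alN x) := by
  classical
  have h0 : A 0 = 1 := by
    have h := hmul 0 (by norm_num) 0 (by norm_num) 0 (by norm_num) (by rw [eV_zero, one_mul])
    exact mul_left_cancel (h.trans (mul_one _).symm)
  have hxor : ∀ i < 2, ∀ a < 16, ∀ b < 16, A (eI i (a ^^^ b)) = A (eI i a) * A (eI i b) := fun i hi a ha b hb =>
    (hmul _ eI_lt _ eI_lt _ eI_lt (eE_mul hi ha hb)).symm
  obtain ⟨-, -, -, -, e00, e10, e01, e11, e02, e12, e13, -⟩ := base_spec
  have hVimg : ∀ i < 2, ∀ j < 4, A (eI i j) = eE i (vimg j) := by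
    intro i hi j hj
    have hI : ∀ m < 4, eI i m = eI 0 m := fun m hm => by
      rcases Nat.lt_succ_iff_lt_or_eq.1 hi with h | rfl
      · rw [Nat.lt_one_iff.1 h]
      · exact eE_four m hm
    have hv : vimg j < 4 := by interval_cases j <;> decide
    rw [hI j hj, eE, hI _ hv]
    interval_cases j
    · rw [e00, h0]; show 1 = eV (eI 0 0); rw [e00, eV_zero]
    · rw [e01, hT]; rfl
    · rw [e02, htau]; show _ = eV (eI 0 1); rw [e01]
    · show _ = eV (eI 0 2)
      rw [show (3 : ℕ) = 1 ^^^ 2 from rfl, hxor 0 (by norm_num) 1 (by norm_num) 2 (by norm_num), e01, hT,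
        e02, htau]
      have h := eE_mul (i := 0) (a := 3) (b := 1) (by norm_num) (by norm_num) (by norm_num)
      rw [eE, eE, eE, e01] at h
      exact h
  choose! J hJlt hJ using hE
  have hgen : ∀ i < 2, 4 ≤ J i 4 ∧ 4 ≤ J i 8 ∧ J i 8 / 4 ≠ J i 4 / 4 := by
    intro i hi
    have low : ∀ j < 16, J i j < 4 → j < 4 := by
      intro j hj h
      have hm : ∃ m < 4, vimg m = J i j := by
        generalize J i j = q at h
        interval_cases q <;> decide
      obtain ⟨m, hm, e⟩ := hm
      have h' : A (eI i j) = A (eI i m) := by rw [hJ i hi j hj, hVimg i hi m hm, e]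
      have := congrArg Fin.val (eI_inj ⟨i, hi⟩ ⟨j, hj⟩ ⟨m, by omega⟩ (hinj _ eI_lt _ eI_lt h'))
      simp at this
      omega
    refine ⟨?_, ?_, fun e => ?_⟩
    · by_contra h; exact absurd (low 4 (by norm_num) (by omega)) (by norm_num)
    · by_contra h; exact absurd (low 8 (by norm_num) (by omega)) (by norm_num)
    · have h12 : A (eI i 12) = eE i (J i 4 ^^^ J i 8) := by
        rw [show (12 : ℕ) = 4 ^^^ 8 from rfl, hxor i hi 4 (by norm_num) 8 (by norm_num),
          hJ i hi 4 (by norm_num), hJ i hi 8 (by norm_num),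
          eE_mul hi (hJlt i hi 4 (by norm_num)) (hJlt i hi 8 (by norm_num))]
      have hlt : J i 4 ^^^ J i 8 < 4 := by
        have a4 := hJlt i hi 4 (by norm_num)
        have a8 := hJlt i hi 8 (by norm_num)
        generalize J i 4 = q4, J i 8 = q8 at a4 a8 e
        interval_cases q4 <;> interval_cases q8 <;> first | decide | simp at e
      have he : J i 12 = J i 4 ^^^ J i 8 := by
        refine eE_inj hi (hJlt i hi 12 (by norm_num)) (lt_trans hlt (by norm_num)) ?_
        rw [← hJ i hi 12 (by norm_num), h12]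
      exact absurd (low 12 (by norm_num) (by rw [he]; exact hlt)) (by norm_num)
  have himg : ∀ i < 2, ∀ j < 16, A (eI i j) = eE i (imgJ (J i 4) (J i 8) j) := by
    intro i hi j hj
    have a4 := hJlt i hi 4 (by norm_num)
    have a8 := hJlt i hi 8 (by norm_num)
    have hv : vimg (j % 4) < 16 := by
      have : j % 4 < 4 := Nat.mod_lt _ (by norm_num)
      generalize j % 4 = q at this
      interval_cases q <;> decide
    have hj' : j = (j % 4 ^^^ (if j / 4 % 2 = 1 then 4 else 0)) ^^^ (if j / 8 = 1 then 8 else 0) := by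
      interval_cases j <;> decide
    have hx4 : (j % 4 ^^^ (if j / 4 % 2 = 1 then 4 else 0)) < 16 := by interval_cases j <;> decide
    have hx8 : (if j / 8 = 1 then 8 else 0 : ℕ) < 16 := by split_ifs <;> norm_num
    have hpart : ∀ (b : Prop) [Decidable b] (m g : ℕ), A (eI i m) = eE i g →
        A (eI i (if b then m else 0)) = eE i (if b then g else 0) := by
      intro b _ m g h
      split_ifs
      · exact h
      · exact hVimg i hi 0 (by norm_num)
    have hg4 : (if j / 4 % 2 = 1 then J i 4 else 0 : ℕ) < 16 := by split_ifs <;> omega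
    have hg8 : (if j / 8 = 1 then J i 8 else 0 : ℕ) < 16 := by split_ifs <;> omega
    conv_lhs => rw [hj']
    rw [hxor i hi _ hx4 _ hx8, hxor i hi _ (by omega) _ (by split_ifs <;> norm_num),
      hVimg i hi _ (Nat.mod_lt _ (by norm_num)), hpart _ 4 _ (hJ i hi 4 (by norm_num)),
      hpart _ 8 _ (hJ i hi 8 (by norm_num)), eE_mul hi hv hg4,
      eE_mul hi (Nat.xor_lt_two_pow (n := 4) hv hg4) hg8]
    rfl
  have hA : ∀ v < 192, ∃ v' < 192, A v = eV v' := fun v hv => exists_eV (hcv v hv)
  choose! f hflt hf using hA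
  have hfapp : ∀ v < 192, ∀ w : Fin 275,
      (((((A v) : TT) : Equiv.Perm (Fin 275)) w : Fin 275) : ℕ) = app (f v) w.1 := fun v hv w => by
    rw [hf v hv, eV_app (hflt v hv)]
  have hm2 : ∀ a < 192, ∀ b < 192, ∃ z < 192, eV a * eV b = eV z := fun a ha b hb =>
    exists_eV (by rw [mul_assoc, eV_comm hb, ← mul_assoc, eV_comm ha, mul_assoc])
  have hy : Data.yI < 192 := by decide +kernel
  have hr := rel_ok
  simp only [relB, Bool.and_eq_true] at hr
  -- the image of the element of order three
  have hy3 : f Data.yI ∈ Data.order3 := by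
    obtain ⟨z, hz, ez⟩ := hm2 _ hy _ hy
    have e3 : eV z * eV Data.yI = eV 0 := by
      rw [← ez, eV_zero]
      refine Subtype.ext (eq_of_five fun w hw => ?_)
      simp only [Subgroup.coe_mul, Equiv.Perm.mul_apply, eV_app hy, OneMemClass.coe_one, Equiv.Perm.one_apply]
      exact beq_iff_eq.1 (allB_spec hr.1.2 w.1 hw)
    have h3 := hmul _ hz _ hy 0 (by norm_num) e3
    rw [← hmul _ hy _ hy _ hz ez, h0] at h3
    have h := allB_spec hr.2 (f Data.yI) (hflt _ hy)
    simp only [Bool.or_eq_true, Bool.not_eq_true', beq_iff_eq, List.contains_iff_mem] at h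
    rcases h with (h | h) | h
    · exfalso
      rw [← Bool.not_eq_true] at h
      refine h (allB_iff.2 fun p hp => beq_iff_eq.2 ?_)
      have e := congrArg (fun x : Cn => ((((x : TT) : Equiv.Perm (Fin 275)) ⟨p, by omega⟩ : Fin 275) : ℕ)) h3
      simpa only [Subgroup.coe_mul, Equiv.Perm.mul_apply, hfapp _ hy, OneMemClass.coe_one,
        Equiv.Perm.one_apply] using e
    · exfalso
      have : A Data.yI = A 0 := by rw [hf _ hy, h, eV_zero, h0]
      exact absurd (hinj _ hy 0 (by norm_num) this) (by decide +kernel)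
    · exact h
  -- the candidate
  have hs := allB_spec search_ok (J 0 4) (hJlt 0 (by norm_num) 4 (by norm_num))
  have g0 := hgen 0 (by norm_num)
  have g1 := hgen 1 (by norm_num)
  simp only [Bool.or_eq_true, decide_eq_true_eq] at hs
  have hs1 := allB_spec (hs.resolve_left (by omega)) (J 0 8) (hJlt 0 (by norm_num) 8 (by norm_num))
  simp only [Bool.or_eq_true, decide_eq_true_eq] at hs1
  have hs2 := allB_spec (hs1.resolve_left (by omega)) (J 1 4) (hJlt 1 (by norm_num) 4 (by norm_num))
  simp only [Bool.or_eq_true, decide_eq_true_eq] at hs2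
  have hs3 := allB_spec (hs2.resolve_left (by omega)) (J 1 8) (hJlt 1 (by norm_num) 8 (by norm_num))
  simp only [Bool.or_eq_true, decide_eq_true_eq, Bool.not_eq_true'] at hs3
  have hs4 := hs3.resolve_left (by omega)
  let g : ℕ → ℕ := fun k => match k with
    | 0 => eI 0 (J 0 4)
    | 1 => eI 0 (J 0 8)
    | 2 => eI 1 (J 1 4)
    | _ => eI 1 (J 1 8)
  have hgA : ∀ k < 4, A (gI k) = eV (g k) ∧ g k < 192 ∧ gI k < 192 := by
    intro k hk
    refine ⟨?_, ?_, eI_lt⟩
    · interval_cases k
      · exact hJ 0 (by norm_num) 4 (by norm_num)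
      · exact hJ 0 (by norm_num) 8 (by norm_num)
      · exact hJ 1 (by norm_num) 4 (by norm_num)
      · exact hJ 1 (by norm_num) 8 (by norm_num)
    · interval_cases k <;> exact eI_lt
  have hentl : ∀ r : Fin 4, ent Data.relL r 0 < 4 ∧ ent Data.relL r 1 < 4 ∧ ent Data.relL r 2 < 4 ∧
      ent Data.actL r 1 < 16 := by decide +kernel
  rcases hs4 with hs4 | hs4
  · exfalso
    rw [← Bool.not_eq_true] at hs4
    refine hs4 (allB_iff.2 fun r hr4 => allB_iff.2 fun p hp => beq_iff_eq.2 ?_)
    obtain ⟨l0, l1, l2, -⟩ := hentl ⟨r, hr4⟩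
    obtain ⟨ea, la, la'⟩ := hgA _ l0
    obtain ⟨eb, lb, lb'⟩ := hgA _ l1
    have hw : eI 0 (ent Data.relL r 2) < 192 := eI_lt
    obtain ⟨z1, hz1, e1⟩ := hm2 _ la' _ lb'
    obtain ⟨z2, hz2, e2⟩ := hm2 _ la' _ hw
    have e3 : eV (gI (ent Data.relL r 1)) * eV z2 = eV z1 := by
      rw [← e1, ← e2]
      refine Subtype.ext (eq_of_five fun w hw' => ?_)
      simp only [Subgroup.coe_mul, Equiv.Perm.mul_apply, eV_app la', eV_app lb', eV_app hw]
      exact (beq_iff_eq.1 (allB_spec (allB_spec hr.1.1.1 r hr4) w.1 hw')).symm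
    have hh := hmul _ lb' _ hz2 _ hz1 e3
    rw [← hmul _ la' _ lb' _ hz1 e1, ← hmul _ la' _ hw _ hz2 e2, ea, eb,
      hVimg 0 (by norm_num) _ l2] at hh
    have e := congrArg (fun x : Cn => ((((x : TT) : Equiv.Perm (Fin 275)) ⟨p, by omega⟩ : Fin 275) : ℕ)) hh
    simp only [Subgroup.coe_mul, Equiv.Perm.mul_apply, eV_app la, eV_app lb, eE, eV_app eI_lt] at e
    exact e.symm
  rw [List.all_eq_true] at hs4
  have hs5 := hs4 _ hy3
  simp only [Bool.or_eq_true, Bool.not_eq_true', List.any_eq_true, beq_iff_eq] at hs5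
  rcases hs5 with hs5 | ⟨l, hl, hl5⟩
  · exfalso
    rw [← Bool.not_eq_true] at hs5
    refine hs5 (allB_iff.2 fun r hr4 => allB_iff.2 fun p hp => beq_iff_eq.2 ?_)
    obtain ⟨-, -, -, l3⟩ := hentl ⟨r, hr4⟩
    obtain ⟨er, lr, lr'⟩ := hgA _ hr4
    obtain ⟨z1, hz1, e1⟩ := hm2 _ hy _ lr'
    have e2 : eV (eI (r / 2) (ent Data.actL r 1)) * eV Data.yI = eV z1 := by
      rw [← e1]
      refine Subtype.ext (eq_of_five fun w hw => ?_)
      simp only [Subgroup.coe_mul, Equiv.Perm.mul_apply, eV_app lr', eV_app hy, eV_app eI_lt]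
      exact (beq_iff_eq.1 (allB_spec (allB_spec hr.1.1.2 r hr4) w.1 hw)).symm
    have hh := hmul _ eI_lt _ hy _ hz1 e2
    rw [← hmul _ hy _ lr' _ hz1 e1, er, himg (r / 2) (by omega) _ l3, hf _ hy] at hh
    have e := congrArg (fun x : Cn => ((((x : TT) : Equiv.Perm (Fin 275)) ⟨p, by omega⟩ : Fin 275) : ℕ)) hh
    simp only [Subgroup.coe_mul, Equiv.Perm.mul_apply, eV_app lr, eV_app (hflt _ hy), eE, eV_app eI_lt] at e
    have hsel : (if r < 2 then J 0 4 else J 1 4) = J (r / 2) 4 ∧ (if r < 2 then J 0 8 else J 1 8) = J (r / 2) 8 := by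
      interval_cases r <;> exact ⟨rfl, rfl⟩
    rw [hsel.1, hsel.2]
    exact e.symm
  have hgk := gen_ok'
  simp only [genB, Bool.and_eq_true, List.all_eq_true, decide_eq_true_eq] at hgk
  obtain ⟨hv, hk⟩ := hgk.2 l hl
  set v := l.getD 5 0 with hvdef
  have hl' : ∀ k, k < 5 → l.getD k 0 = [J 0 4, J 0 8, J 1 4, J 1 8, f Data.yI].getD k 0 := fun k hk => by
    rw [← hl5, List.getD_eq_getElem?_getD, List.getD_eq_getElem?_getD, List.getElem?_take, if_pos hk]
  refine ⟨v, hv, ?_⟩
  have hB : ∀ x < 192, ∀ y' < 192, ∀ z < 192, eV x * eV y' = eV z → eV (alN x) * eV (alN y') = eV (alN z) := by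
    intro x hx y' hy' z hz e
    refine Subtype.ext ((mul_left_inj cG).1 ?_)
    rw [Subgroup.coe_mul, mul_assoc, ← cG_conj hy', ← mul_assoc, ← cG_conj hx, mul_assoc, ← Subgroup.coe_mul, e,
      cG_conj hz]
  have hbase : ∀ k < 7, A (baseI.getD k 0) * eV v = eV v * eV (alN (baseI.getD k 0)) := by
    intro k hk7
    have h := allB_spec hk k hk7
    rw [Bool.and_eq_true, decide_eq_true_eq] at h
    have key : ∀ img, img < 192 → A (baseI.getD k 0) = eV img →
        (allB 5 fun p => app v (app (alN (baseI.getD k 0)) p) == app img (app v p)) = true →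
        A (baseI.getD k 0) * eV v = eV v * eV (alN (baseI.getD k 0)) := by
      intro img hi e h
      rw [e]
      refine Subtype.ext (eq_of_five fun w hw => ?_)
      simp only [Subgroup.coe_mul, Equiv.Perm.mul_apply, eV_app hi, eV_app hv,
        eV_app (alN_lt (baseI_lt ⟨k, hk7⟩)).1]
      exact (beq_iff_eq.1 (allB_spec h w.1 hw)).symm
    interval_cases k
    · exact key _ h.1 hT h.2
    · exact key _ h.1 htau h.2
    · exact key _ h.1 (by rw [hl' 0 (by norm_num)]; exact (hgA 0 (by norm_num)).1) h.2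
    · exact key _ h.1 (by rw [hl' 1 (by norm_num)]; exact (hgA 1 (by norm_num)).1) h.2
    · exact key _ h.1 (by rw [hl' 2 (by norm_num)]; exact (hgA 2 (by norm_num)).1) h.2
    · exact key _ h.1 (by rw [hl' 3 (by norm_num)]; exact (hgA 3 (by norm_num)).1) h.2
    · exact key _ h.1 (by rw [hl' 4 (by norm_num)]; exact hf _ hy) h.2
  have halz : eV (alN 0) = 1 := by
    have h := hB 0 (by norm_num) 0 (by norm_num) 0 (by norm_num) (by rw [eV_zero, one_mul])
    exact mul_left_cancel (h.trans (mul_one _).symm)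
  have hzero : A 0 * eV v = eV v * eV (alN 0) := by rw [h0, halz, one_mul, mul_one]
  have step : ∀ r < 191, ent Data.slpL r 0 < 192 →
      A (ent Data.slpL r 0) * eV v = eV v * eV (alN (ent Data.slpL r 0)) := by
    intro r
    induction r using Nat.strong_induction_on with
    | _ r ih =>
      intro hr' hlt
      have h := allB_spec hgk.1.1 r hr'
      rw [Bool.and_eq_true, decide_eq_true_eq] at h
      obtain ⟨⟨hp, hb⟩, h⟩ := h
      have hlt' : ∀ r : Fin 191, ent Data.slpL r 0 < 192 := by decide +kernel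
      set prev := if ent Data.slpL r 1 = 0 then 0 else ent Data.slpL (ent Data.slpL r 1 - 1) 0 with hprev
      have hprevlt : prev < 192 := by
        rw [hprev]
        split_ifs with e
        · norm_num
        · exact hlt' ⟨_, by omega⟩
      have hP : A prev * eV v = eV v * eV (alN prev) := by
        rw [hprev]
        split_ifs with e
        · exact hzero
        · exact ih _ (by omega) (by omega) (hlt' ⟨_, by omega⟩)
      have hb' := baseI_lt ⟨_, hb⟩
      have e : eV prev * eV (baseI.getD (ent Data.slpL r 2) 0) = eV (ent Data.slpL r 0) := by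
        refine Subtype.ext (eq_of_five fun w hw => ?_)
        simp only [Subgroup.coe_mul, Equiv.Perm.mul_apply, eV_app hprevlt, eV_app hb', eV_app hlt]
        exact beq_iff_eq.1 (allB_spec h w.1 hw)
      rw [← hmul _ hprevlt _ hb' _ hlt e, ← hB _ hprevlt _ hb' _ hlt e, mul_assoc, hbase _ hb, ← mul_assoc,
        hP, mul_assoc]
  intro x hx
  have h := allB_spec hgk.1.2 x hx
  simp only [Bool.or_eq_true, beq_iff_eq, List.any_eq_true, List.mem_range] at h
  rcases h with rfl | ⟨r, hr', rfl⟩
  · exact hzero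
  · exact step r hr' hx

end Cfsg.Agent.McLType
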