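import Cfsg.Agent.Lib.McLType.Model

/-!
The centraliser of a second involution in the centraliser of an involution of the McLaughlin group, the
one class of non-central involutions, and the action of the element of order three.
-/

set_option autoImplicit false
set_option maxRecDepth 100000
set_option Elab.async false

noncomputable section

namespace Cfsg.Agent.McLType

open Cfsg.Agent.GroupStructure3.McLInv (pT allB allB_spec IsT TT tG Cn t0_spec tT nonsplit_Cn)
open Cfsg.Agent.Lib.McLMult (base_five)

/-- The number of an element of one of the two subgroups of order sixteen. -/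
def eI (i j : ℕ) : ℕ := (Data.eIdx.getD i []).getD j 0

/-- An element of one of the two subgroups of order sixteen. -/
noncomputable def eE (i j : ℕ) : Cn := eV (eI i j)

/-- The central involution. -/
noncomputable def tC : Cn := eV 13

/-- The second involution. -/
noncomputable def tau : Cn := eV 35

/-- The product of the two involutions. -/
noncomputable def te : Cn := tC * tau

/-- The number of the product of the two involutions. -/
def teI : ℕ := eI 0 3

/-- The conjugates of the second involution. -/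
def xc (k : ℕ) : ℕ := Data.clsL.getD k 0

/-- The five images of a coded element. -/
def sig (n : ℕ) : List ℕ := (List.range 5).map (app n)

/-- The identity, the central involution, the squares. -/
def baseB : Bool :=
  (allB 5 fun p => app 0 p == p) && (allB 5 fun p => app 13 p == pT tT p) &&
    (allB 5 fun p => app 35 (app 35 p) == p) && (allB 5 fun p => app 13 (app 35 p) == app teI p) &&
    decide (eI 0 0 = 0 ∧ eI 1 0 = 0 ∧ eI 0 1 = 13 ∧ eI 1 1 = 13 ∧ eI 0 2 = 35 ∧ eI 1 2 = 35 ∧ eI 1 3 = teI ∧
      Data.vIdx.get 0 = 5 ∧ Data.rIdx.get 0 = 5 ∧ sig 0 ≠ sig 13 ∧ sig 35 ≠ sig 13 ∧ sig 35 ≠ sig 0)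

theorem base_ok : baseB = true := by decide +kernel

theorem base_spec : (allB 5 fun p => app 0 p == p) = true ∧ (allB 5 fun p => app 13 p == pT tT p) = true ∧
    (allB 5 fun p => app 35 (app 35 p) == p) = true ∧ (allB 5 fun p => app 13 (app 35 p) == app teI p) = true ∧
    eI 0 0 = 0 ∧ eI 1 0 = 0 ∧ eI 0 1 = 13 ∧ eI 1 1 = 13 ∧ eI 0 2 = 35 ∧ eI 1 2 = 35 ∧ eI 1 3 = teI ∧
      Data.vIdx.get 0 = 5 ∧ Data.rIdx.get 0 = 5 ∧ sig 0 ≠ sig 13 ∧ sig 35 ≠ sig 13 ∧ sig 35 ≠ sig 0 := by
  have h := base_ok
  simp only [baseB, Bool.and_eq_true, decide_eq_true_eq] at h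
  exact ⟨h.1.1.1.1, h.1.1.1.2, h.1.1.2, h.1.2, h.2⟩

theorem el_eq {a b : ℕ} (ha : a < 40320) (hb : b < 40320) (h : ∀ p < 5, app a p = app b p) : el a = el b :=
  Subtype.ext (eq_of_five fun v hv => by rw [el_app ha, el_app hb]; exact h v.1 hv)

theorem el_eq_of_sig {a b : ℕ} (ha : a < 40320) (hb : b < 40320) (h : sig a = sig b) : el a = el b :=
  el_eq ha hb fun p hp => by simpa [sig] using (List.map_inj_left.1 h) p (List.mem_range.2 hp)

theorem sig_of_el {a b : ℕ} (ha : a < 40320) (hb : b < 40320) (h : el a = el b) : sig a = sig b := by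
  refine List.map_inj_left.2 fun p hp => ?_
  have hp5 : p < 5 := List.mem_range.1 hp
  rw [← el_app ha ⟨p, by omega⟩, h, el_app hb]

theorem el_zero : el 0 = 1 := by
  refine Subtype.ext (eq_of_five fun v hv => ?_)
  rw [el_app (by norm_num)]
  exact beq_iff_eq.1 (allB_spec base_spec.1 v.1 hv)

theorem eV_zero : eV 0 = 1 := by
  refine Subtype.ext (eq_of_five fun v hv => ?_)
  rw [eV_tab (by norm_num) v]
  have h : (allB 5 fun p => pT (nd (Data.vIdx.get 0)) p == p) = true := by decide +kernel
  exact beq_iff_eq.1 (allB_spec h v.1 hv)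

theorem el_lt {v : ℕ} (hv : v < 192) : el v = eV v := by
  have e : eR 0 = eV 0 := by
    obtain ⟨-, -, -, -, -, -, -, -, -, -, -, h1, h2, -⟩ := base_spec
    rw [eR, eV, h1, h2]
  rw [el, Nat.div_eq_of_lt hv, Nat.mod_eq_of_lt hv, e, eV_zero, one_mul]

theorem el_mul192 {k : ℕ} : el (192 * k) = eR k := by
  rw [el, Nat.mul_div_cancel_left _ (by norm_num), Nat.mul_mod_right, eV_zero, mul_one]

theorem el_split (n : ℕ) : el n = el (192 * (n / 192)) * el (n % 192) := by
  rw [el_mul192, el_lt (Nat.mod_lt _ (by norm_num))]; rfl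

theorem eI_lt {i j : ℕ} : eI i j < 192 := by
  have h : ∀ i : Fin 2, ∀ j : Fin 16, eI i j < 192 := by decide +kernel
  have hlen : Data.eIdx.length = 2 ∧ (Data.eIdx.getD 0 []).length = 16 ∧ (Data.eIdx.getD 1 []).length = 16 := by
    decide +kernel
  by_cases hi : i < 2
  · by_cases hj : j < 16
    · exact h ⟨i, hi⟩ ⟨j, hj⟩
    · have hl : (Data.eIdx.getD i []).length = 16 := by
        rcases Nat.lt_succ_iff_lt_or_eq.1 hi with h' | rfl
        · rw [Nat.lt_one_iff.1 h']; exact hlen.2.1
        · exact hlen.2.2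
      rw [eI, List.getD_eq_default _ _ (by omega)]; norm_num
  · rw [eI, List.getD_eq_default Data.eIdx _ (by omega), List.getD_nil]; norm_num

theorem eE_el (i j : ℕ) : eE i j = el (eI i j) := (el_lt eI_lt).symm

theorem tC_coe : (tC : TT) = tG := by
  refine eq_of_five fun v hv => ?_
  rw [tC, ← el_lt (by norm_num), el_app (by norm_num)]
  show _ = ((GroupStructure3.McLInv.t0 v : Fin 275) : ℕ)
  rw [t0_spec.1 v]
  exact beq_iff_eq.1 (allB_spec base_spec.2.1 v.1 hv)

theorem tC_central (g : Cn) : g * tC = tC * g := by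
  refine Subtype.ext ?_
  rw [Subgroup.coe_mul, Subgroup.coe_mul, tC_coe]
  exact Subgroup.mem_centralizer_singleton_iff.1 g.2

theorem tC_ne : tC ≠ 1 := by
  rw [tC, ← el_lt (by norm_num : (13 : ℕ) < 192), ← el_zero]
  intro h
  exact base_spec.2.2.2.2.2.2.2.2.2.2.2.2.2.1 (sig_of_el (by norm_num) (by norm_num) h).symm

theorem te_eq : te = eV teI := by
  rw [te, tC, tau, ← el_lt (by norm_num : (13 : ℕ) < 192), ← el_lt (by norm_num : (35 : ℕ) < 192),
    ← el_lt (show teI < 192 from eI_lt)]
  refine of_mulB ?_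
  simp only [mulB, Bool.and_eq_true, decide_eq_true_eq]
  exact ⟨⟨⟨by norm_num, by norm_num⟩, lt_trans eI_lt (by norm_num)⟩, base_spec.2.2.2.1⟩

theorem tau_sq : tau * tau = 1 := by
  rw [tau, ← el_lt (by norm_num : (35 : ℕ) < 192), ← el_zero]
  refine of_mulB ?_
  simp only [mulB, Bool.and_eq_true, decide_eq_true_eq]
  refine ⟨⟨⟨by norm_num, by norm_num⟩, by norm_num⟩, ?_⟩
  have h := base_spec.2.2.1
  have h0 := base_spec.1
  revert h h0
  decide +kernel

theorem tau_ne : tau ≠ 1 ∧ tau ≠ tC := by
  obtain ⟨-, -, -, -, -, -, -, -, -, -, -, -, -, -, h1, h2⟩ := base_spec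
  rw [tau, tC, ← el_lt (by norm_num : (35 : ℕ) < 192), ← el_lt (by norm_num : (13 : ℕ) < 192), ← el_zero]
  exact ⟨fun h => h2 (sig_of_el (by norm_num) (by norm_num) h),
    fun h => h1 (sig_of_el (by norm_num) (by norm_num) h)⟩

/-- The transversal conjugates the second involution to the listed elements. -/
def clsB : Bool :=
  (allB 210 fun k => decide (xc k < 40320) && allB 5 fun p => app (192 * k) (app 35 p) == app (xc k) (app (192 * k) p)) &&
    allB 192 fun v => allB 5 fun p => app v (app 35 p) == app 35 (app v p)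

theorem cls_ok : clsB = true := by decide +kernel

theorem cls_nodup : ((List.range 210).map fun k => sig (xc k)).Nodup := by decide +kernel

theorem cv_nodup : ((List.range 192).map sig).Nodup := by decide +kernel

theorem xc_spec {k : ℕ} (hk : k < 210) : xc k < 40320 ∧ eR k * tau * (eR k)⁻¹ = el (xc k) := by
  have h := cls_ok
  rw [clsB, Bool.and_eq_true] at h
  have h' := allB_spec h.1 k hk
  rw [Bool.and_eq_true, decide_eq_true_eq] at h'
  refine ⟨h'.1, ?_⟩
  rw [mul_inv_eq_iff_eq_mul, ← el_mul192 (k := k), tau, ← el_lt (by norm_num : (35 : ℕ) < 192)]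
  refine Subtype.ext (eq_of_five fun v hv => ?_)
  rw [Subgroup.coe_mul, Subgroup.coe_mul, Subgroup.coe_mul, Subgroup.coe_mul,
    Equiv.Perm.mul_apply, Equiv.Perm.mul_apply, el_app (by omega), el_app (by norm_num), el_app h'.1,
    el_app (by omega)]
  exact beq_iff_eq.1 (allB_spec h'.2 v.1 hv)

theorem eV_comm {v : ℕ} (hv : v < 192) : eV v * tau = tau * eV v := by
  have h := cls_ok
  rw [clsB, Bool.and_eq_true] at h
  rw [← el_lt hv, tau, ← el_lt (by norm_num : (35 : ℕ) < 192)]
  refine Subtype.ext (eq_of_five fun w hw => ?_)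
  rw [Subgroup.coe_mul, Subgroup.coe_mul, Subgroup.coe_mul, Subgroup.coe_mul,
    Equiv.Perm.mul_apply, Equiv.Perm.mul_apply, el_app (by omega), el_app (by norm_num), el_app (by norm_num),
    el_app (by omega)]
  exact beq_iff_eq.1 (allB_spec (allB_spec h.2 v hv) w.1 hw)

theorem card_Cn : Nat.card Cn = 40320 := by
  obtain ⟨hc, ⟨q⟩, -⟩ := nonsplit_Cn
  rw [(Subgroup.center Cn).card_eq_card_quotient_mul_card_subgroup, hc, Nat.card_congr q.toEquiv]
  have := two_mul_nat_card_alternatingGroup (α := Fin 8)
  rw [Nat.card_perm, Nat.card_fin, show Nat.factorial 8 = 40320 from rfl] at this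
  omega

/-- The centraliser of the second involution. -/
def CVn : Subgroup Cn := Subgroup.centralizer ({tau} : Set Cn)

theorem eV_inj : ∀ a < 192, ∀ b < 192, eV a = eV b → a = b := by
  intro a ha b hb h
  have hs : sig a = sig b := sig_of_el (by omega) (by omega) (by rw [el_lt ha, el_lt hb, h])
  have := (List.nodup_iff_injective_get.1 cv_nodup) (a₁ := ⟨a, by simpa using ha⟩) (a₂ := ⟨b, by simpa using hb⟩)
    (by simpa using hs)
  exact congrArg Fin.val this

theorem xc_inj : ∀ a < 210, ∀ b < 210, el (xc a) = el (xc b) → a = b := by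
  intro a ha b hb h
  have hs : sig (xc a) = sig (xc b) := sig_of_el (xc_spec ha).1 (xc_spec hb).1 h
  have := (List.nodup_iff_injective_get.1 cls_nodup) (a₁ := ⟨a, by simpa using ha⟩) (a₂ := ⟨b, by simpa using hb⟩)
    (by simpa using hs)
  exact congrArg Fin.val this

theorem card_CVn : Nat.card CVn = 192 ∧ CVn.index = 210 := by
  have h1 : 192 ≤ Nat.card CVn := by
    let f : Fin 192 → CVn := fun v => ⟨eV v, Subgroup.mem_centralizer_singleton_iff.2 (eV_comm v.2)⟩
    have := Nat.card_le_card_of_injective f fun a b h => Fin.ext (eV_inj a a.2 b b.2 (congrArg Subtype.val h))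
    rwa [Nat.card_fin] at this
  have h2 : 210 ≤ CVn.index := by
    let f : Fin 210 → Cn ⧸ CVn := fun k => QuotientGroup.mk (eR k)
    have := Nat.card_le_card_of_injective f fun a b h => by
      refine Fin.ext (xc_inj a a.2 b b.2 ?_)
      have hm : (eR a)⁻¹ * eR b ∈ CVn := QuotientGroup.eq.1 h
      have hc := Subgroup.mem_centralizer_singleton_iff.1 hm
      rw [← (xc_spec a.2).2, ← (xc_spec b.2).2, mul_inv_eq_iff_eq_mul]
      calc eR a * tau = eR a * (tau * ((eR a)⁻¹ * eR b)) * (eR b)⁻¹ * eR a := by group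
        _ = eR a * (((eR a)⁻¹ * eR b) * tau) * (eR b)⁻¹ * eR a := by rw [hc]
        _ = eR b * tau * (eR b)⁻¹ * eR a := by group
    rwa [Nat.card_fin] at this
  have h := CVn.card_mul_index
  rw [card_Cn] at h
  constructor <;> nlinarith

theorem exists_eV {g : Cn} (h : g * tau = tau * g) : ∃ v < 192, g = eV v := by
  let f : Fin 192 → CVn := fun v => ⟨eV v, Subgroup.mem_centralizer_singleton_iff.2 (eV_comm v.2)⟩
  obtain ⟨v, hv⟩ := ((Nat.bijective_iff_injective_and_card f).2
    ⟨fun a b e => Fin.ext (eV_inj a a.2 b b.2 (congrArg Subtype.val e)), by rw [Nat.card_fin, card_CVn.1]⟩).2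
    ⟨g, Subgroup.mem_centralizer_singleton_iff.2 h⟩
  exact ⟨v, v.2, (congrArg Subtype.val hv).symm⟩

theorem exists_eR (g : Cn) : ∃ k < 210, ∃ v < 192, g = eR k * eV v := by
  let f : Fin 210 → Cn ⧸ CVn := fun k => QuotientGroup.mk (eR k)
  have hinj : Function.Injective f := fun a b h => by
    refine Fin.ext (xc_inj a a.2 b b.2 ?_)
    have hm : (eR a)⁻¹ * eR b ∈ CVn := QuotientGroup.eq.1 h
    have hc := Subgroup.mem_centralizer_singleton_iff.1 hm
    rw [← (xc_spec a.2).2, ← (xc_spec b.2).2, mul_inv_eq_iff_eq_mul]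
    calc eR a * tau = eR a * (tau * ((eR a)⁻¹ * eR b)) * (eR b)⁻¹ * eR a := by group
      _ = eR a * (((eR a)⁻¹ * eR b) * tau) * (eR b)⁻¹ * eR a := by rw [hc]
      _ = eR b * tau * (eR b)⁻¹ * eR a := by group
  obtain ⟨k, hk⟩ := ((Nat.bijective_iff_injective_and_card f).2
    ⟨hinj, by rw [Nat.card_fin, ← Subgroup.index_eq_card, card_CVn.2]⟩).2 (QuotientGroup.mk g)
  have hm : (eR k)⁻¹ * g ∈ CVn := QuotientGroup.eq.1 hk
  obtain ⟨v, hv, e⟩ := exists_eV (Subgroup.mem_centralizer_singleton_iff.1 hm)
  exact ⟨k, k.2, v, hv, by rw [← e, mul_inv_cancel_left]⟩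

/-- The element swapping the second involution and its product with the central one. -/
def swI : ℕ := 2296

/-- The involutions near the second involution are among its conjugates. -/
def invB : Bool :=
  (allB 5 fun p => app swI (app 35 p) == app teI (app swI p)) &&
  allB 384 fun i =>
    let f : ℕ → ℕ := fun p => if i < 192 then app i p else app swI (app (i - 192) p)
    !(allB 5 fun p => f (f p) == p) || (allB 5 fun p => f p == p) || (allB 5 fun p => f p == app 13 p) ||
      ((List.range 210).any fun k => allB 5 fun p => f p == app (xc k) p)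

theorem inv_ok : invB = true := by decide +kernel

/-- Every involution other than the central one is conjugate to the second involution. -/
theorem exists_conj_tau {y : Cn} (hy : y * y = 1) (hy1 : y ≠ 1) (hyt : y ≠ tC) :
    ∃ g : Cn, g * tau * g⁻¹ = y := by
  classical
  have hsw : el swI * tau = te * el swI := by
    rw [te_eq, ← el_lt (show teI < 192 from eI_lt), tau, ← el_lt (by norm_num : (35 : ℕ) < 192)]
    refine Subtype.ext (eq_of_five fun w hw => ?_)
    rw [Subgroup.coe_mul, Subgroup.coe_mul, Subgroup.coe_mul, Subgroup.coe_mul, Equiv.Perm.mul_apply,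
      Equiv.Perm.mul_apply, el_app (by norm_num [swI]), el_app (by norm_num),
      el_app (show teI < 40320 from lt_trans eI_lt (by norm_num)), el_app (by norm_num [swI])]
    have h := inv_ok
    rw [invB, Bool.and_eq_true] at h
    exact beq_iff_eq.1 (allB_spec h.1 w.1 hw)
  -- the pairs `X`, `tC * X` are permuted by `y`, and there are 105 of them
  have hpair : ∃ k < 210, y * el (xc k) * y⁻¹ = el (xc k) ∨ y * el (xc k) * y⁻¹ = tC * el (xc k) := by
    by_contra hno
    push Not at hno
    let σ : Cn ⧸ CVn → Cn ⧸ CVn := fun q => y • q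
    obtain ⟨g, -, hg⟩ : ∃ g : Cn, g * tau * g⁻¹ = te ∧ g * g * tau = tau * (g * g) := by
      refine ⟨el swI, by rw [hsw, mul_inv_cancel_right], ?_⟩
      have h2 : el swI * te = tau * el swI := by
        rw [te, ← mul_assoc, tC_central, mul_assoc, hsw, te, ← mul_assoc, ← mul_assoc, ← tC_central tC]
        rw [show tC * tC = 1 by
          have e := congrArg (fun x : TT => x) tC_coe
          refine Subtype.ext ?_
          rw [Subgroup.coe_mul, tC_coe]
          refine Subtype.ext ?_
          exact (pow_two _).symm.trans t0_spec.2.1, one_mul]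
      rw [mul_assoc, hsw, ← mul_assoc, h2, mul_assoc]
    -- the subgroup stabilising the pair of the second involution
    let W : Subgroup Cn :=
      { carrier := {g | g * tau * g⁻¹ = tau ∨ g * tau * g⁻¹ = tC * tau}
        one_mem' := Or.inl (by group)
        mul_mem' := by
          intro a b ha hb
          have e : a * b * tau * (a * b)⁻¹ = a * (b * tau * b⁻¹) * a⁻¹ := by group
          have h2 : tC * tC = 1 := by
            refine Subtype.ext ?_
            rw [Subgroup.coe_mul, tC_coe]
            exact Subtype.ext ((pow_two _).symm.trans t0_spec.2.1)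
          have e2 : a * (tC * tau) * a⁻¹ = tC * (a * tau * a⁻¹) := by
            rw [← mul_assoc, tC_central a, mul_assoc, mul_assoc]; group
          show _ ∨ _
          rw [e]
          rcases hb with hb | hb <;> rw [hb] <;> (try rw [e2]) <;> rcases ha with ha | ha <;> rw [ha]
          · exact Or.inl rfl
          · exact Or.inr rfl
          · exact Or.inr rfl
          · exact Or.inl (by rw [← mul_assoc, h2, one_mul])
        inv_mem' := by
          intro a ha
          show _ ∨ _
          rcases ha with ha | ha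
          · exact Or.inl (by nth_rw 1 [← ha]; group)
          · refine Or.inr ?_
            have e : a⁻¹ * (a * tau * a⁻¹) * a = tau := by group
            rw [ha, ← mul_assoc, tC_central a⁻¹] at e
            have h2 : tC * tC = 1 := by
              refine Subtype.ext ?_
              rw [Subgroup.coe_mul, tC_coe]
              exact Subtype.ext ((pow_two _).symm.trans t0_spec.2.1)
            calc a⁻¹ * tau * a⁻¹⁻¹ = tC * (tC * a⁻¹ * tau * a) := by
                  rw [inv_inv, ← mul_assoc, ← mul_assoc, ← mul_assoc, h2, one_mul]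
              _ = tC * tau := by rw [e] }
    have hW : W.index = 105 := by
      have hle : CVn ≤ W := fun a ha => Or.inl (by
        rw [Subgroup.mem_centralizer_singleton_iff.1 ha, mul_inv_cancel_right])
      have hsW : el swI ∈ W := Or.inr (by rw [hsw, mul_inv_cancel_right]; rfl)
      have hrel : CVn.relIndex W = 2 := by
        rw [Subgroup.relIndex, Subgroup.index_eq_two_iff]
        refine ⟨⟨el swI, hsW⟩, fun b => ?_⟩
        have hb : (b : Cn) * tau * (b : Cn)⁻¹ = tau ∨ (b : Cn) * tau * (b : Cn)⁻¹ = te := b.2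
        have hne : te ≠ tau := fun e => tC_ne (mul_right_cancel (b := tau) (by rw [one_mul]; exact e))
        rw [Subgroup.mem_subgroupOf, Subgroup.mem_subgroupOf, CVn, Subgroup.mem_centralizer_singleton_iff,
          Subgroup.mem_centralizer_singleton_iff, Subgroup.coe_mul, ← mul_inv_eq_iff_eq_mul,
          ← mul_inv_eq_iff_eq_mul]
        have ec : (b : Cn) * el swI * tau * ((b : Cn) * el swI)⁻¹ = (b : Cn) * te * (b : Cn)⁻¹ := by
          rw [mul_assoc (b : Cn), hsw]; group
        show Xor' _ _
        rw [ec, te]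
        have et : (b : Cn) * (tC * tau) * (b : Cn)⁻¹ = tC * ((b : Cn) * tau * (b : Cn)⁻¹) := by
          rw [← mul_assoc, tC_central (b : Cn), mul_assoc, mul_assoc]; group
        rw [et]
        rcases hb with hb | hb <;> rw [hb]
        · exact Or.inr ⟨rfl, hne⟩
        · refine Or.inl ⟨?_, hne⟩
          rw [te, ← mul_assoc, show tC * tC = 1 by
            refine Subtype.ext ?_
            rw [Subgroup.coe_mul, tC_coe]
            exact Subtype.ext ((pow_two _).symm.trans t0_spec.2.1), one_mul]
      have h := Subgroup.relIndex_mul_index hle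
      rw [hrel, card_CVn.2] at h
      omega
    haveI := Fact.mk Nat.prime_two
    have hP : IsPGroup 2 (Subgroup.zpowers y) := by
      refine IsPGroup.iff_card.2 ⟨1, ?_⟩
      rw [Nat.card_zpowers, pow_one]
      exact orderOf_eq_prime (by rw [pow_two, hy]) hy1
    obtain ⟨q, hq⟩ := hP.nonempty_fixed_point_of_prime_not_dvd_card (Cn ⧸ W)
      (by rw [← Subgroup.index_eq_card, hW]; decide)
    obtain ⟨a, rfl⟩ := QuotientGroup.mk_surjective q
    obtain ⟨k, hk, v, hv, rfl⟩ := exists_eR a
    have hm := hq ⟨y, Subgroup.mem_zpowers y⟩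
    change (QuotientGroup.mk (y * (eR k * eV v)) : Cn ⧸ W) = _ at hm
    have hw : (y * (eR k * eV v))⁻¹ * (eR k * eV v) ∈ W := QuotientGroup.eq.1 hm
    have hvc : eV v * tau * (eV v)⁻¹ = tau := by rw [eV_comm hv, mul_inv_cancel_right]
    have e : ∀ u : Cn, (y * (eR k * eV v))⁻¹ * (eR k * eV v) * tau *
        ((y * (eR k * eV v))⁻¹ * (eR k * eV v))⁻¹ = u →
        y⁻¹ * el (xc k) * y⁻¹⁻¹ = (eR k * eV v) * u * (eR k * eV v)⁻¹ := by
      intro u hu
      rw [← hu, ← (xc_spec hk).2]
      nth_rw 1 [← hvc]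
      group
    have hyinv : y⁻¹ = y := inv_eq_of_mul_eq_one_left hy
    rcases hw with hw | hw
    · refine (hno k hk).1 ?_
      have := e _ hw
      rw [hyinv, mul_assoc (eR k) (eV v), mul_inv_rev] at this
      rw [this, ← (xc_spec hk).2]
      nth_rw 2 [← hvc]
      group
    · refine (hno k hk).2 ?_
      have := e _ hw
      rw [hyinv] at this
      rw [this, ← mul_assoc, tC_central (eR k * eV v), ← (xc_spec hk).2]
      nth_rw 2 [← hvc]
      group
  obtain ⟨k, hk, h⟩ := hpair
  set z := (eR k)⁻¹ * y * eR k with hz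
  have hzz : z * z = 1 := by
    rw [hz, show (eR k)⁻¹ * y * eR k * ((eR k)⁻¹ * y * eR k) = (eR k)⁻¹ * (y * y) * eR k by group, hy]
    group
  have hzt : z * tau * z⁻¹ = tau ∨ z * tau * z⁻¹ = te := by
    rw [← (xc_spec hk).2] at h
    have e : z * tau * z⁻¹ = (eR k)⁻¹ * (y * (eR k * tau * (eR k)⁻¹) * y⁻¹) * eR k := by rw [hz]; group
    rcases h with h | h
    · exact Or.inl (by rw [e, h]; group)
    · refine Or.inr ?_
      rw [e, h, te, ← mul_assoc, tC_central (eR k)⁻¹]
      group
  have hcode : ∃ i < 384, z = if i < 192 then eV i else el swI * eV (i - 192) := by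
    rcases hzt with h | h
    · obtain ⟨v, hv, e⟩ := exists_eV (mul_inv_eq_iff_eq_mul.1 h)
      exact ⟨v, by omega, by rw [if_pos hv]; exact e⟩
    · have : ((el swI)⁻¹ * z) * tau = tau * ((el swI)⁻¹ * z) := by
        have e : (el swI)⁻¹ * te = tau * (el swI)⁻¹ := by
          rw [eq_mul_inv_iff_mul_eq, mul_assoc, inv_mul_eq_iff_eq_mul, hsw]
        rw [mul_assoc, mul_inv_eq_iff_eq_mul.1 h, ← mul_assoc, e, mul_assoc]
      obtain ⟨v, hv, e⟩ := exists_eV this
      exact ⟨192 + v, by omega, by rw [if_neg (by omega), Nat.add_sub_cancel_left, ← e, mul_inv_cancel_left]⟩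
  obtain ⟨i, hi, hzi⟩ := hcode
  have hf : ∀ w : Fin 275, ((((z : TT) : Equiv.Perm (Fin 275)) w : Fin 275) : ℕ) =
      if i < 192 then app i w.1 else app swI (app (i - 192) w.1) := by
    intro w
    rw [hzi]
    split_ifs with hlt
    · rw [← el_lt hlt, el_app (by omega)]
    · rw [← el_lt (show i - 192 < 192 by omega), Subgroup.coe_mul, Subgroup.coe_mul, Equiv.Perm.mul_apply,
        el_app (by norm_num [swI]), el_app (by omega)]
  have h := inv_ok
  rw [invB, Bool.and_eq_true] at h
  have hb := allB_spec h.2 i hi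
  simp only [Bool.or_eq_true, Bool.not_eq_true', List.any_eq_true, List.mem_range] at hb
  rcases hb with ((hb | hb) | hb) | ⟨m, hm, hb⟩
  · exfalso
    rw [← Bool.not_eq_true] at hb
    refine hb ?_
    rw [GroupStructure3.McLInv.allB_iff]
    intro p hp
    have e := congrArg (fun x : Cn => ((((x : TT) : Equiv.Perm (Fin 275)) ⟨p, by omega⟩ : Fin 275) : ℕ)) hzz
    simp only [Subgroup.coe_mul, Equiv.Perm.mul_apply, hf, OneMemClass.coe_one, Equiv.Perm.one_apply] at e
    exact beq_iff_eq.2 e
  · refine absurd ?_ hy1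
    have : z = 1 := Subtype.ext (eq_of_five fun w hw => by
      rw [hf]; exact beq_iff_eq.1 (allB_spec hb w.1 hw))
    calc y = eR k * z * (eR k)⁻¹ := by rw [hz]; group
      _ = 1 := by rw [this]; group
  · refine absurd ?_ hyt
    have : z = tC := Subtype.ext (eq_of_five fun w hw => by
      rw [hf, tC, ← el_lt (by norm_num : (13 : ℕ) < 192), el_app (by norm_num)]
      exact beq_iff_eq.1 (allB_spec hb w.1 hw))
    calc y = eR k * z * (eR k)⁻¹ := by rw [hz]; group
      _ = tC := by rw [this, tC_central, mul_inv_cancel_right]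
  · refine ⟨eR k * eR m, ?_⟩
    have : z = el (xc m) := Subtype.ext (eq_of_five fun w hw => by
      rw [hf, el_app (xc_spec hm).1]; exact beq_iff_eq.1 (allB_spec hb w.1 hw))
    rw [← (xc_spec hm).2] at this
    calc eR k * eR m * tau * (eR k * eR m)⁻¹ = eR k * z * (eR k)⁻¹ := by rw [this]; group
      _ = y := by rw [hz]; group

end Cfsg.Agent.McLType
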