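import Cfsg.Agent.Lib.McLType.Normalize
import Cfsg.Agent.Lib.McLType.ClosureData

/-!
Exact rules give a group: six double cosets of the image of the centraliser are closed under `c`, and
together they have at most 898128000 elements.
-/

set_option autoImplicit false
set_option maxRecDepth 100000
set_option Elab.async false

noncomputable section

namespace Cfsg.Agent.McLType

open Cfsg.Agent.GroupStructure3.McLInv (pT allB allB_spec allB_iff IsT TT tG Cn t0_spec tT)

/-- An entry of an edge. -/
def fD (k f : ℕ) : ℕ := (Data.factL.getD k []).getD f 0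

/-- An entry of a stabilising element. -/
def stD (k f : ℕ) : ℕ := (Data.stabL.getD k []).getD f 0

/-- An entry of a definition. -/
def dD (j f : ℕ) : ℕ := (Data.defL.getD (j - 1) []).getD f 0

/-- A loop. -/
def lW (li : ℕ) : List ℕ := Data.loopL.getD li []

/-- The next point along one letter. -/
def moveB (nf ns i g l : ℕ) (m : List ℕ) : Option (ℕ × ℕ) :=
  if l < 40320 then
    (if mulB g l (sD m 2) && decide (sD m 0 = 0) && decide (sD m 1 = l) then some (i, sD m 2) else none)
  else
    let f := sD m 1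
    let d := decide (l = 40320)
    let a := fD f (if d then 0 else 2)
    let ga := fD f (if d then 1 else 3)
    let b := fD f (if d then 2 else 0)
    let gb := fD f (if d then 3 else 1)
    let v := sD m 5
    if decide ((l = 40320 ∧ sD m 0 = 1 ∨ l = 40321 ∧ sD m 0 = 2) ∧ f < nf ∧ a = i ∧ v < 192 ∧
        (a = 0 ∨ (sD m 2 < ns ∧ stD (sD m 2) 0 = a ∧ stD (sD m 2) 1 = sD m 3))) &&
      mulB (sD m 3) ga (sD m 4) && mulB (sD m 4) v g && mulB gb (if d then beN v else alN v) (sD m 6)
    then some (b, sD m 6) else none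

/-- The end of a walk. -/
def walk (nf ns : ℕ) : List ℕ → List (List ℕ) → ℕ → ℕ → Option (ℕ × ℕ)
  | [], [], i, g => some (i, g)
  | l :: ls, m :: ms, i, g =>
    match moveB nf ns i g l m with
    | some p => walk nf ns ls ms p.1 p.2
    | none => none
  | _, _, _, _ => none

/-- The check of one derivation. -/
def itemB (nf ns : ℕ) (it : List (List ℕ)) : Option (ℕ × ℕ) :=
  let h := it.headD []
  let w := (lW (sD h 2)).rotate (sD h 3)
  match sD h 0 with
  | 0 =>
    if decide (sD h 1 = nf ∧ 0 < fD nf 2 ∧ fD nf 2 < 6 ∧ fD nf 3 = 0 ∧ fD nf 0 < fD nf 2 ∧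
        dD (fD nf 2) 0 = fD nf 0 ∧ dD (fD nf 2) 1 = fD nf 1) then some (nf + 1, ns) else none
  | 1 => if decide (sD h 1 = ns ∧ stD ns 1 = 0) then some (nf, ns + 1) else none
  | 2 =>
    if decide (sD h 1 = ns ∧ sD h 2 < ns ∧ sD h 3 < ns ∧ stD (sD h 2) 0 = stD ns 0 ∧ stD (sD h 3) 0 = stD ns 0) &&
      mulB (stD (sD h 2) 1) (stD (sD h 3) 1) (stD ns 1) then some (nf, ns + 1) else none
  | 3 =>
    match walk nf ns w.tail it.tail (sD h 4) (sD h 5) with
    | some p =>
      if decide (sD h 1 = nf ∧ sD h 2 < 10) &&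
        ((decide (w.headD 0 = 40320) &&
            decide (fD nf 0 = p.1 ∧ fD nf 1 = p.2 ∧ fD nf 2 = sD h 4 ∧ fD nf 3 = sD h 5)) ||
          (decide (w.headD 0 = 40321) &&
            decide (fD nf 0 = sD h 4 ∧ fD nf 1 = sD h 5 ∧ fD nf 2 = p.1 ∧ fD nf 3 = p.2)))
      then some (nf + 1, ns) else none
    | none => none
  | _ =>
    match walk nf ns w it.tail (sD h 4) (sD h 5) with
    | some p =>
      if decide (sD h 1 = ns ∧ sD h 2 < 10 ∧ p.1 = sD h 4 ∧ stD ns 0 = sD h 4) &&
        mulB (stD ns 1) (sD h 5) p.2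
      then some (nf, ns + 1) else none
    | none => none

/-- The check of all derivations. -/
def itemsB : List (List (List ℕ)) → ℕ → ℕ → Bool
  | [], nf, ns => nf == Data.factL.length && ns == Data.stabL.length
  | it :: l, nf, ns =>
    match itemB nf ns it with
    | some p => itemsB l p.1 p.2
    | none => false

theorem items_ok : itemsB Data.itemL 0 0 = true := by decide +kernel

/-- The loops come from the rules. -/
def loopB : Bool :=
  decide (Data.loopL.length = 10 ∧ lW 0 = [40320, 40320, 40320]) &&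
  (allB 6 fun n =>
    let r := [0, 1, 2, 3, 6, 7].getD n 0
    let w := lW (n + 1)
    let bi := w.getD (rH r + 2) 0
    let ai := w.getD (rH r + 3 + rD r 2) 0
    decide (w = List.replicate (rH r) 40320 ++ rD r 0 :: 40320 :: bi :: (List.replicate (rD r 2) 40321 ++ [ai])) &&
      mulB (rD r 3) bi 0 && mulB (rD r 1) ai 0) &&
  allB 3 fun n =>
    let w := lW (n + 7)
    decide (w.getD 1 0 < 192 ∧ w = [40320, w.getD 1 0, 40321, w.getD 3 0]) &&
      mulB (alN (w.getD 1 0)) (w.getD 3 0) 0

theorem loop_ok : loopB = true := by decide +kernel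

/-- The check of the covering. -/
def covB : Bool :=
  allB 1050 fun n =>
    let c := Data.covL.getD n []
    decide (sD c 0 < Data.factL.length ∧ sD c 1 < Data.stabL.length ∧ fD (sD c 0) 0 = n / 210 + 1 ∧
      stD (sD c 1) 0 = n / 210 + 1 ∧ sD c 3 < 192) &&
      mulB (stD (sD c 1) 1) (fD (sD c 0) 1) (sD c 2) && mulB (sD c 2) (sD c 3) (192 * (n % 210))

theorem cov_ok : covB = true := by decide +kernel

/-- The orders of the stabilisers. -/
def hN : ℕ → ℕ
  | 0 => 40320
  | 1 => 192
  | 2 => 8
  | 3 => 18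
  | 4 => 6
  | _ => 5

/-- The stabilising elements of one orbit. -/
def hList (j : ℕ) : List ℕ :=
  ((List.range Data.stabL.length).filter fun k => stD k 0 == j).map fun k => stD k 1

/-- The check of the stabilisers and of the definitions. -/
def stabB : Bool :=
  (allB 5 fun j => decide ((hList (j + 1)).length = hN (j + 1) ∧ ((hList (j + 1)).map sig).Nodup) &&
    (hList (j + 1)).all fun n => decide (n < 40320)) &&
  allB 5 fun j => decide (dD (j + 1) 0 < j + 1) && decide (dD (j + 1) 1 < 40320)

theorem stab_ok : stabB = true := by decide +kernel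

theorem fact0 : fD 0 0 = 0 ∧ fD 0 1 = 0 ∧ fD 0 2 = 1 ∧ fD 0 3 = 0 ∧ 0 < Data.factL.length := by decide +kernel

theorem fact_orbit : ∀ k : Fin 160, fD k 2 < 6 ∧ fD k 0 < 6 := by decide +kernel

theorem factL_length : Data.factL.length = 160 := by decide +kernel

section

variable {G : Type*} [Group G]

/-- The representatives. -/
def W (φ : Cn →* G) (c : G) : ℕ → G
  | 0 => 1
  | j + 1 => if h : dD (j + 1) 0 < j + 1 then W φ c (dD (j + 1) 0) * φ (el (dD (j + 1) 1)) * c else 1
termination_by j => j

/-- Equality up to the image on the left. -/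
def Rel (φ : Cn →* G) (x y : G) : Prop := ∃ a, φ a * x = y

/-- A point. -/
def pnt (φ : Cn →* G) (c : G) (i g : ℕ) : G := W φ c i * φ (el g)

/-- The value of a letter. -/
def lval (φ : Cn →* G) (c : G) (l : ℕ) : G := if l < 40320 then φ (el l) else if l = 40320 then c else c⁻¹

theorem Rel.trans {φ : Cn →* G} {x y z : G} : Rel φ x y → Rel φ y z → Rel φ x z
  | ⟨a, ha⟩, ⟨b, hb⟩ => ⟨b * a, by rw [map_mul, mul_assoc, ha, hb]⟩

theorem Rel.symm {φ : Cn →* G} {x y : G} : Rel φ x y → Rel φ y x
  | ⟨a, ha⟩ => ⟨a⁻¹, by rw [← ha, map_inv, inv_mul_cancel_left]⟩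

theorem Rel.mul_right {φ : Cn →* G} {x y : G} (h : Rel φ x y) (z : G) : Rel φ (x * z) (y * z) :=
  let ⟨a, ha⟩ := h
  ⟨a, by rw [← mul_assoc, ha]⟩

theorem Rel.of_eq {φ : Cn →* G} {x y : G} (h : x = y) : Rel φ x y := ⟨1, by rw [map_one, one_mul, h]⟩

/-- The edges and stabilising elements found so far are right. -/
def Good (φ : Cn →* G) (c : G) (nf ns : ℕ) : Prop :=
  (∀ k < nf, Rel φ (pnt φ c (fD k 0) (fD k 1) * c) (pnt φ c (fD k 2) (fD k 3))) ∧
  ∀ k < ns, Rel φ (pnt φ c (stD k 0) (stD k 1)) (W φ c (stD k 0))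

/-- The part of the hypotheses used by the closure: the action of `c` and its order. -/
structure Pre (φ : Cn →* G) (c : G) : Prop where
  conj : ∀ v < 192, c * φ (eV v) = φ (eV (alN v)) * c
  c_cube : c ^ 3 = 1

theorem Conf.pre {φ : Cn →* G} {c : G} (K : Conf φ c) : Pre φ c := ⟨K.conj, K.c_cube⟩

namespace Pre

variable {φ : Cn →* G} {c : G} (K : Pre φ c)
include K

theorem conj_back {v : ℕ} (hv : v < 192) : φ (eV v) * c = c * φ (eV (beN v)) := by
  rw [K.conj _ (alN_lt hv).2.1, (alN_lt hv).2.2.1]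

theorem lprod_loop (hex : Conf.Exact φ c) {li : ℕ} (hli : li < 10) : ((lW li).map (lval φ c)).prod = 1 := by
  have h := loop_ok
  simp only [loopB, Bool.and_eq_true, decide_eq_true_eq] at h
  obtain ⟨⟨⟨-, h0⟩, h1⟩, h2⟩ := h
  by_cases hz : li = 0
  · subst hz
    rw [h0]
    simp only [List.map_cons, List.map_nil, List.prod_cons, List.prod_nil, mul_one, lval]
    norm_num
    rw [← K.c_cube, pow_succ', pow_two]
  have v0 : lval φ c 40320 = c := by simp [lval]
  have v1 : lval φ c 40321 = c⁻¹ := by simp [lval]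
  by_cases h6 : li ≤ 6
  · obtain ⟨n, rfl⟩ : ∃ n, li = n + 1 := ⟨li - 1, by omega⟩
    have h := allB_spec h1 n (by omega)
    simp only [Bool.and_eq_true, decide_eq_true_eq] at h
    set r := [0, 1, 2, 3, 6, 7].getD n 0 with hr
    have hr8 : r < 8 := by
      have : n < 6 := by omega
      interval_cases n <;> simp [hr]
    obtain ⟨⟨hw, hb⟩, ha⟩ := h
    rw [hw]
    set bi := (lW (n + 1)).getD (rH r + 2) 0
    set ai := (lW (n + 1)).getD (rH r + 3 + rD r 2) 0
    have hlt := (Conf.rule_data hr8).1
    simp only [List.map_append, List.map_cons, List.map_replicate, List.map_nil, List.prod_append, List.prod_cons,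
      List.prod_replicate, List.prod_nil, mul_one, v0, v1]
    have e1 : lval φ c (rD r 0) = φ (el (rD r 0)) := by simp [lval, hlt.1]
    have e2 : lval φ c bi = (φ (el (rD r 3)))⁻¹ := by
      rw [lval, if_pos (mulB_lt hb).2.1]
      refine eq_inv_of_mul_eq_one_right ?_
      rw [← map_mul, of_mulB hb, el_zero, map_one]
    have e3 : lval φ c ai = (φ (el (rD r 1)))⁻¹ := by
      rw [lval, if_pos (mulB_lt ha).2.1]
      refine eq_inv_of_mul_eq_one_right ?_
      rw [← map_mul, of_mulB ha, el_zero, map_one]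
    rw [e1, e2, e3, inv_pow, ← mul_assoc (φ (el (rD r 0))) c, ← mul_assoc (c ^ rH r),
      ← mul_assoc (c ^ rH r) (φ (el (rD r 0))), hex r hr8]
    group
  · obtain ⟨n, rfl⟩ : ∃ n, li = n + 7 := ⟨li - 7, by omega⟩
    have h := allB_spec h2 n (by omega)
    simp only [Bool.and_eq_true, decide_eq_true_eq] at h
    obtain ⟨⟨hv, hw⟩, hm⟩ := h
    rw [hw]
    set v := (lW (n + 7)).getD 1 0
    simp only [List.map_cons, List.map_nil, List.prod_cons, List.prod_nil, mul_one, v0, v1]
    rw [lval, if_pos (show v < 40320 by omega), lval, if_pos (mulB_lt hm).2.1, el_lt hv, ← mul_assoc, K.conj v hv,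
      mul_assoc, mul_inv_cancel_left, ← el_lt (alN_lt hv).1, ← map_mul, of_mulB hm, el_zero, map_one]

theorem back_inv {v : ℕ} (hv : v < 192) : φ (el v) * c⁻¹ = c⁻¹ * φ (el (alN v)) := by
  rw [el_lt hv, el_lt (alN_lt hv).1, mul_inv_eq_iff_eq_mul, mul_assoc, ← K.conj v hv, inv_mul_cancel_left]

theorem move_sound {nf ns i g l : ℕ} {m : List ℕ} {p : ℕ × ℕ} (hG : Good φ c nf ns)
    (h : moveB nf ns i g l m = some p) : Rel φ (pnt φ c i g * lval φ c l) (pnt φ c p.1 p.2) := by
  unfold moveB at h
  by_cases hl : l < 40320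
  · rw [if_pos hl] at h
    split_ifs at h with hc
    simp only [Option.some.injEq] at h
    subst h
    simp only [Bool.and_eq_true, decide_eq_true_eq] at hc
    refine Rel.of_eq ?_
    rw [pnt, pnt, lval, if_pos hl, mul_assoc, ← map_mul, of_mulB hc.1.1]
  · rw [if_neg hl] at h
    dsimp only at h
    by_cases hd0 : l = 40320
    · subst hd0
      simp only [decide_true, if_true, true_and, Nat.reduceEqDiff, false_and, or_false] at h
      split_ifs at h with hc
      simp only [Option.some.injEq] at h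
      subst h
      simp only [Bool.and_eq_true, decide_eq_true_eq] at hc
      obtain ⟨⟨⟨⟨-, hf, hai, hv, hs⟩, hm1⟩, hm2⟩, hm3⟩ := hc
      rw [pnt, ← of_mulB hm2, ← of_mulB hm1, ← hai, map_mul, map_mul, lval, if_neg (by norm_num), if_pos rfl]
      simp only [← mul_assoc]
      rw [mul_assoc _ (φ (el (sD m 5))) c, el_lt hv, K.conj_back hv, ← el_lt (alN_lt hv).2.1, ← mul_assoc]
      have hstab : Rel φ (W φ c (fD (sD m 1) 0) * φ (el (sD m 3))) (W φ c (fD (sD m 1) 0)) := by
        rcases hs with h0 | ⟨hs1, hs2, hs3⟩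
        · refine ⟨(el (sD m 3))⁻¹, ?_⟩
          rw [h0]
          simp [W]
        · have := hG.2 _ hs1
          rwa [pnt, hs2, hs3] at this
      refine Rel.trans (((hstab.mul_right _).mul_right c).mul_right _) ?_
      rw [pnt, ← of_mulB hm3, map_mul, ← mul_assoc]
      refine Rel.mul_right ?_ _
      exact hG.1 _ hf
    · simp only [hd0, decide_false, Bool.false_eq_true, if_false, false_and, false_or] at h
      split_ifs at h with hc
      simp only [Option.some.injEq] at h
      subst h
      simp only [Bool.and_eq_true, decide_eq_true_eq] at hc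
      obtain ⟨⟨⟨⟨⟨rfl, -⟩, hf, hai, hv, hs⟩, hm1⟩, hm2⟩, hm3⟩ := hc
      rw [pnt, ← of_mulB hm2, ← of_mulB hm1, ← hai, map_mul, map_mul, lval, if_neg (by norm_num),
        if_neg (by norm_num)]
      simp only [← mul_assoc]
      rw [mul_assoc _ (φ (el (sD m 5))) c⁻¹, K.back_inv hv, ← mul_assoc]
      have hstab : Rel φ (W φ c (fD (sD m 1) 2) * φ (el (sD m 3))) (W φ c (fD (sD m 1) 2)) := by
        rcases hs with h0 | ⟨hs1, hs2, hs3⟩
        · refine ⟨(el (sD m 3))⁻¹, ?_⟩
          rw [h0]
          simp [W]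
        · have := hG.2 _ hs1
          rwa [pnt, hs2, hs3] at this
      refine Rel.trans (((hstab.mul_right _).mul_right c⁻¹).mul_right _) ?_
      rw [pnt, ← of_mulB hm3, map_mul, ← mul_assoc]
      refine Rel.mul_right ?_ _
      have := ((hG.1 _ hf).mul_right c⁻¹).symm
      rwa [mul_inv_cancel_right] at this

theorem walk_sound {nf ns : ℕ} (hG : Good φ c nf ns) :
    ∀ (ls : List ℕ) (ms : List (List ℕ)) (i g : ℕ) (p : ℕ × ℕ), walk nf ns ls ms i g = some p →
      Rel φ (pnt φ c i g * (ls.map (lval φ c)).prod) (pnt φ c p.1 p.2)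
  | [], [], i, g, p, h => by
    simp only [walk, Option.some.injEq] at h
    subst h
    simp [Rel.of_eq]
  | [], _ :: _, i, g, p, h => by simp [walk] at h
  | _ :: _, [], i, g, p, h => by simp [walk] at h
  | l :: ls, m :: ms, i, g, p, h => by
    rw [walk] at h
    rcases hm : moveB nf ns i g l m with _ | q
    · rw [hm] at h; simp at h
    · rw [hm] at h
      rw [List.map_cons, List.prod_cons, ← mul_assoc]
      exact ((K.move_sound hG hm).mul_right _).trans (walk_sound hG ls ms q.1 q.2 p h)

theorem prod_rotate {l : List G} (h : l.prod = 1) (n : ℕ) : (l.rotate n).prod = 1 := by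
  rw [List.rotate_eq_drop_append_take_mod, List.prod_append]
  set k := n % l.length
  have e : (l.take k).prod * (l.drop k).prod = 1 := by rw [List.prod_take_mul_prod_drop, h]
  exact mul_eq_one_comm.1 e

theorem item_sound (hex : Conf.Exact φ c) {nf ns : ℕ} {it : List (List ℕ)} {q : ℕ × ℕ}
    (hG : Good φ c nf ns) (h : itemB nf ns it = some q) : Good φ c q.1 q.2 := by
  have addF : Rel φ (pnt φ c (fD nf 0) (fD nf 1) * c) (pnt φ c (fD nf 2) (fD nf 3)) →
      Good φ c (nf + 1) ns := fun hn =>
    ⟨fun k hk => (Nat.lt_succ_iff_lt_or_eq.1 hk).elim (hG.1 k) fun e => e ▸ hn, hG.2⟩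
  have addS : Rel φ (pnt φ c (stD ns 0) (stD ns 1)) (W φ c (stD ns 0)) → Good φ c nf (ns + 1) := fun hn =>
    ⟨hG.1, fun k hk => (Nat.lt_succ_iff_lt_or_eq.1 hk).elim (hG.2 k) fun e => e ▸ hn⟩
  unfold itemB at h
  simp only at h
  set hd := it.headD []
  set w := (lW (sD hd 2)).rotate (sD hd 3) with hw
  have hprod : sD hd 2 < 10 → (w.map (lval φ c)).prod = 1 := fun hlt => by
    rw [hw, List.map_rotate]; exact K.prod_rotate (K.lprod_loop hex hlt) _
  split at h
  · split_ifs at h with hc
    simp only [Option.some.injEq] at h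
    subst h
    rw [decide_eq_true_eq] at hc
    obtain ⟨-, h2, -, h3, h02, hd0, hd1⟩ := hc
    refine addF (Rel.of_eq ?_)
    rw [pnt, pnt, h3, el_zero, map_one, mul_one]
    obtain ⟨j, hj⟩ : ∃ j, fD nf 2 = j + 1 := ⟨fD nf 2 - 1, by omega⟩
    rw [hj] at hd0 hd1 h02 ⊢
    rw [W, dif_pos (by rw [hd0]; exact h02), hd0, hd1]
  · split_ifs at h with hc
    simp only [Option.some.injEq] at h
    subst h
    rw [decide_eq_true_eq] at hc
    exact addS (Rel.of_eq (by rw [pnt, hc.2, el_zero, map_one, mul_one]))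
  · split_ifs at h with hc
    simp only [Option.some.injEq] at h
    subst h
    simp only [Bool.and_eq_true, decide_eq_true_eq] at hc
    obtain ⟨⟨-, ha, hb, ha0, hb0⟩, hm⟩ := hc
    refine addS ?_
    rw [pnt, ← of_mulB hm, map_mul, ← mul_assoc]
    have e1 := hG.2 _ ha
    have e2 := hG.2 _ hb
    rw [pnt, ha0] at e1
    rw [pnt, hb0] at e2
    exact (e1.mul_right _).trans e2
  · rcases hwk : walk nf ns w.tail it.tail (sD hd 4) (sD hd 5) with _ | p
    · rw [hwk] at h; simp at h
    rw [hwk] at h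
    simp only at h
    split_ifs at h with hc
    simp only [Option.some.injEq] at h
    subst h
    simp only [Bool.and_eq_true, Bool.or_eq_true, decide_eq_true_eq] at hc
    obtain ⟨⟨-, hli⟩, hc⟩ := hc
    refine addF ?_
    have hr := K.walk_sound hG _ _ _ _ _ hwk
    have hp := hprod hli
    rcases hwl : w with _ | ⟨a, ls⟩
    · rw [hwl] at hc; simp at hc
    rw [hwl] at hc hr hp
    simp only [List.headD_cons, List.tail_cons] at hc hr
    rw [List.map_cons, List.prod_cons] at hp
    rcases hc with ⟨ha, e0, e1, e2, e3⟩ | ⟨ha, e0, e1, e2, e3⟩ <;> rw [e0, e1, e2, e3] <;> subst ha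
    · rw [show lval φ c 40320 = c by simp [lval]] at hp
      rw [eq_inv_of_mul_eq_one_right hp] at hr
      have := (hr.mul_right c).symm
      rwa [inv_mul_cancel_right] at this
    · rw [show lval φ c 40321 = c⁻¹ by simp [lval]] at hp
      rw [eq_inv_of_mul_eq_one_right hp, inv_inv] at hr
      exact hr
  · rcases hwk : walk nf ns w it.tail (sD hd 4) (sD hd 5) with _ | p
    · rw [hwk] at h; simp at h
    rw [hwk] at h
    simp only at h
    split_ifs at h with hc
    simp only [Option.some.injEq] at h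
    subst h
    simp only [Bool.and_eq_true, decide_eq_true_eq] at hc
    obtain ⟨⟨-, hli, hp1, hs0⟩, hm⟩ := hc
    refine addS ?_
    have hr := K.walk_sound hG _ _ _ _ _ hwk
    rw [hprod hli, mul_one, pnt, pnt, hp1, ← of_mulB hm, map_mul, ← mul_assoc] at hr
    have := (hr.mul_right (φ (el (sD hd 5)))⁻¹).symm
    rw [mul_inv_cancel_right, mul_inv_cancel_right] at this
    rw [pnt, hs0]
    exact this

theorem good_all (hex : Conf.Exact φ c) : Good φ c Data.factL.length Data.stabL.length := by
  have main : ∀ (l : List (List (List ℕ))) (nf ns : ℕ), Good φ c nf ns → itemsB l nf ns = true →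
      Good φ c Data.factL.length Data.stabL.length := by
    intro l
    induction l with
    | nil =>
      intro nf ns hG h
      simp only [itemsB, Bool.and_eq_true, beq_iff_eq] at h
      rw [← h.1, ← h.2]; exact hG
    | cons it l ih =>
      intro nf ns hG h
      rw [itemsB] at h
      rcases hi : itemB nf ns it with _ | q
      · rw [hi] at h; simp at h
      · rw [hi] at h; exact ih q.1 q.2 (K.item_sound hex hG hi) h
  exact main _ 0 0 ⟨fun k hk => absurd hk (Nat.not_lt_zero k), fun k hk => absurd hk (Nat.not_lt_zero k)⟩ items_ok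

/-- The six double cosets. -/
def cosets (φ : Cn →* G) (c : G) : Set G := {x | ∃ i < 6, ∃ a b : Cn, x = φ a * W φ c i * φ b}

theorem cosets_c (hex : Conf.Exact φ c) {x : G} (hx : x ∈ cosets φ c) : x * c ∈ cosets φ c := by
  obtain ⟨i, hi, a, b, rfl⟩ := hx
  obtain ⟨hF, hS⟩ := K.good_all hex
  obtain ⟨k, hk, v, hv, rfl⟩ := exists_eR b
  have hvc : φ (eV v) * c = c * φ (eV (beN v)) := K.conj_back hv
  have fin : ∀ f < Data.factL.length, ∀ u w : Cn, Rel φ (W φ c i * φ (eR k) * c)
      (pnt φ c (fD f 2) (fD f 3) * φ u) → φ a * W φ c i * φ (eR k * eV v) * c ∈ cosets φ c := by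
    intro f hf u _ ⟨d, hd⟩
    refine ⟨fD f 2, (fact_orbit ⟨f, factL_length ▸ hf⟩).1, a * d⁻¹, el (fD f 3) * u * eV (beN v), ?_⟩
    have e : W φ c i * φ (eR k) * c = φ d⁻¹ * (pnt φ c (fD f 2) (fD f 3) * φ u) := by
      rw [← hd, map_inv, inv_mul_cancel_left]
    calc φ a * W φ c i * φ (eR k * eV v) * c = φ a * (W φ c i * φ (eR k) * c) * φ (eV (beN v)) := by
          rw [map_mul, mul_assoc _ _ c, mul_assoc (φ (eR k)), hvc]; simp only [mul_assoc]
      _ = φ (a * d⁻¹) * W φ c (fD f 2) * φ (el (fD f 3) * u * eV (beN v)) := by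
          rw [e, pnt, map_mul, map_mul, map_mul]; simp only [mul_assoc]
  by_cases hi0 : i = 0
  · subst hi0
    obtain ⟨h00, h01, h02, h03, hlen⟩ := fact0
    refine fin 0 hlen 1 1 ?_
    have h := hF 0 hlen
    rw [h00, h01, pnt, el_zero, map_one, mul_one] at h
    refine Rel.trans ⟨(eR k)⁻¹, ?_⟩ (h.trans (Rel.of_eq (by rw [map_one, mul_one])))
    simp [W]
  · have hn : (i - 1) * 210 + k < 1050 := by omega
    have h := allB_spec cov_ok _ hn
    simp only [covB, Bool.and_eq_true, decide_eq_true_eq] at h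
    set n := (i - 1) * 210 + k with hndef
    set cc := Data.covL.getD n []
    have hni : n / 210 + 1 = i ∧ n % 210 = k := by omega
    rw [hni.1, hni.2] at h
    obtain ⟨⟨⟨hf, hs, hf0, hs0, hv3⟩, hm1⟩, hm2⟩ := h
    have hv3' := hv3
    refine fin _ hf (eV (beN (sD cc 3))) 1 ?_
    have e : W φ c i * φ (eR k) * c =
        W φ c i * φ (el (stD (sD cc 1) 1)) * φ (el (fD (sD cc 0) 1)) * c * φ (eV (beN (sD cc 3))) := by
      rw [← el_mul192, ← of_mulB hm2, ← of_mulB hm1, map_mul, map_mul, el_lt hv3', mul_assoc _ c,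
        ← K.conj_back hv3']
      simp only [mul_assoc]
    rw [e]
    refine Rel.mul_right ?_ _
    have h1 := hS _ hs
    rw [pnt, hs0] at h1
    refine ((h1.mul_right _).mul_right c).trans ?_
    have h2 := hF _ hf
    rw [pnt, hf0] at h2
    exact h2

theorem card_cosets [Finite G] (hex : Conf.Exact φ c) : (cosets φ c).ncard ≤ 898128000 := by
  classical
  obtain ⟨-, hS⟩ := K.good_all hex
  let St : ℕ → Subgroup Cn := fun i =>
    { carrier := {h | Rel φ (W φ c i * φ h) (W φ c i)}
      one_mem' := Rel.of_eq (by rw [map_one, mul_one])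
      mul_mem' := fun {x y} hx hy => by
        show Rel φ (W φ c i * φ (x * y)) _
        rw [map_mul, ← mul_assoc]
        exact (hx.mul_right _).trans hy
      inv_mem' := fun {x} hx => by
        show Rel φ (W φ c i * φ x⁻¹) _
        have := (hx.mul_right (φ x⁻¹)).symm
        rwa [mul_assoc (W φ c i), ← map_mul, mul_inv_cancel, map_one, mul_one] at this }
  have hidx : ∀ i < 6, hN i * (St i).index ≤ 40320 := by
    intro i hi
    have hcard : hN i ≤ Nat.card (St i) := by
      by_cases h0 : i = 0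
      · subst h0
        have : St 0 = ⊤ := eq_top_iff.2 fun x _ => ⟨x⁻¹, by simp [W]⟩
        rw [this, Subgroup.card_top, card_Cn]
        rfl
      · have h := stab_ok
        simp only [stabB, Bool.and_eq_true] at h
        obtain ⟨j, rfl⟩ : ∃ j, i = j + 1 := ⟨i - 1, by omega⟩
        have h' := allB_spec h.1 j (by omega)
        simp only [Bool.and_eq_true, decide_eq_true_eq, List.all_eq_true] at h'
        obtain ⟨⟨hlen, hnd⟩, hlt⟩ := h'
        have hmem : ∀ n ∈ hList (j + 1), el n ∈ St (j + 1) := by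
          intro n hn
          simp only [hList, List.mem_map, List.mem_filter, List.mem_range, beq_iff_eq] at hn
          obtain ⟨k, ⟨hk, hk0⟩, rfl⟩ := hn
          have := hS k hk
          rw [pnt, hk0] at this
          exact this
        let f : Fin (hList (j + 1)).length → St (j + 1) := fun k =>
          ⟨el ((hList (j + 1)).get k), hmem _ (List.get_mem _ _)⟩
        have := Nat.card_le_card_of_injective f fun x y e => by
          have hx := hlt _ (List.get_mem (hList (j + 1)) x)
          have hy := hlt _ (List.get_mem (hList (j + 1)) y)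
          have hs := sig_of_el hx hy (congrArg Subtype.val e)
          have := (List.nodup_iff_injective_get.1 hnd) (a₁ := ⟨x, by simp⟩) (a₂ := ⟨y, by simp⟩) (by simpa using hs)
          exact Fin.ext (congrArg Fin.val this :)
        rwa [Nat.card_fin, hlen] at this
    calc hN i * (St i).index ≤ Nat.card (St i) * (St i).index := Nat.mul_le_mul_right _ hcard
      _ = 40320 := by rw [Subgroup.card_mul_index, card_Cn]
  let T := Σ i : Fin 6, Cn × (Cn ⧸ St i.1)
  let F : T → G := fun p => φ p.2.1 * W φ c p.1.1 * φ (p.2.2.out⁻¹)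
  have hsub : cosets φ c ⊆ Set.range F := by
    rintro x ⟨i, hi, a, b, rfl⟩
    set q : Cn ⧸ St i := QuotientGroup.mk b⁻¹
    have hq : b * q.out ∈ St i := by
      have h := QuotientGroup.eq.1 (Quotient.out_eq q : (QuotientGroup.mk q.out : Cn ⧸ St i) = QuotientGroup.mk b⁻¹)
      have := inv_mem h
      rwa [mul_inv_rev, inv_inv, inv_inv] at this
    obtain ⟨d, hd⟩ := hq
    refine ⟨⟨⟨i, hi⟩, (a * d⁻¹, q)⟩, ?_⟩
    show φ (a * d⁻¹) * W φ c i * φ (q.out⁻¹) = _
    rw [map_mul, mul_assoc (φ a), mul_assoc (φ a), mul_assoc (φ a)]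
    congr 1
    calc φ d⁻¹ * W φ c i * φ q.out⁻¹ = φ d⁻¹ * (φ d * (W φ c i * φ (b * q.out))) * φ q.out⁻¹ := by rw [hd]
      _ = W φ c i * φ b := by
        rw [map_inv, inv_mul_cancel_left, map_mul, map_inv, mul_assoc, mul_inv_cancel_right]
  calc (cosets φ c).ncard ≤ (Set.range F).ncard := Set.ncard_le_ncard hsub (Set.toFinite _)
    _ ≤ Nat.card T := by
      rw [← Set.image_univ, ← Set.ncard_univ]
      exact Set.ncard_image_le (Set.toFinite _)
    _ ≤ 898128000 := by
      rw [Nat.card_sigma]
      simp only [Nat.card_prod, card_Cn, ← Subgroup.index_eq_card]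
      show _ ≤ 898128000
      rw [Fin.sum_univ_six]
      show 40320 * (St 0).index + 40320 * (St 1).index + 40320 * (St 2).index + 40320 * (St 3).index +
        40320 * (St 4).index + 40320 * (St 5).index ≤ _
      have h0 := hidx 0 (by norm_num)
      have h1 := hidx 1 (by norm_num)
      have h2 := hidx 2 (by norm_num)
      have h3 := hidx 3 (by norm_num)
      have h4 := hidx 4 (by norm_num)
      have h5 := hidx 5 (by norm_num)
      simp only [hN] at h0 h1 h2 h3 h4 h5
      omega

/-- The group generated by the image and `c` has at most as many elements as the McLaughlin group. -/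
theorem card_closure [Finite G] (hex : Conf.Exact φ c) :
    Nat.card (Subgroup.closure ((φ.range : Set G) ∪ {c})) ≤ 898128000 := by
  have hsub : ((Subgroup.closure ((φ.range : Set G) ∪ {c})) : Set G) ⊆ cosets φ c := by
    intro x hx
    have hx' : x ∈ Submonoid.closure ((φ.range : Set G) ∪ {c}) := by
      rw [← Subgroup.closure_toSubmonoid_of_finite]; exact hx
    induction hx' using Submonoid.closure_induction_right with
    | one => exact ⟨0, by norm_num, 1, 1, by simp [W]⟩
    | mul_right y hy z hz ih =>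
      have ih' := ih (by
        show y ∈ Subgroup.closure ((φ.range : Set G) ∪ {c})
        rw [← Subgroup.mem_toSubmonoid, Subgroup.closure_toSubmonoid_of_finite]; exact hy)
      rcases hz with hz | hz
      · obtain ⟨i, hi, a, b, rfl⟩ := ih'
        obtain ⟨g, rfl⟩ := hz
        exact ⟨i, hi, a, b * g, by rw [map_mul, mul_assoc]⟩
      · rw [Set.mem_singleton_iff.1 hz]
        exact K.cosets_c hex ih'
  calc Nat.card (Subgroup.closure ((φ.range : Set G) ∪ {c}))
      = ((Subgroup.closure ((φ.range : Set G) ∪ {c})) : Set G).ncard := Nat.card_coe_set_eq _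
    _ ≤ (cosets φ c).ncard := Set.ncard_le_ncard hsub (Set.toFinite _)
    _ ≤ _ := K.card_cosets hex

end Pre

end

end Cfsg.Agent.McLType
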