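import Cfsg.Agent.Lib.McLType.OddCard
import Cfsg.Agent.GroupStructure3.McLOut.Main

/-!
An automorphism of order two of an odd-order subgroup of the McLaughlin group inverts at most 2475
elements.
-/

set_option autoImplicit false

namespace Cfsg.Agent.McLType

open Cfsg

theorem inverted_le {M : Type*} [Group M] (hM : Nonempty (M ≃* Spor.McL)) (D : Subgroup M)
    (hD : Odd (Nat.card D)) (phi : D ≃* D) (hphi : ∀ d, phi (phi d) = d) :
    Nat.card {d : D // phi d = d⁻¹} ≤ 2475 := by
  obtain ⟨e₁⟩ := hM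
  obtain ⟨e₂⟩ := Cfsg.Agent.GroupStructure3.McLOut.nonempty_equiv
  let e := e₁.trans e₂
  have hc : Nat.card (D.map e.toMonoidHom) = Nat.card D := Subgroup.card_map_of_injective e.injective
  obtain ⟨h1, h2⟩ := card_bound (D := D.map e.toMonoidHom) (hc.symm ▸ hD)
  rw [hc] at h1 h2
  haveI : Finite D := Nat.finite_of_card_ne_zero fun h0 => by rw [h0] at hD; exact absurd hD (by decide)
  refine OddTools.inverted_bound hD phi hphi (h1.trans (by norm_num)) fun hab => h2 ?_
  intro a b
  obtain ⟨_, ⟨a, ha, rfl⟩⟩ := a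
  obtain ⟨_, ⟨b, hb, rfl⟩⟩ := b
  refine Subtype.ext ?_
  show e.toMonoidHom a * e.toMonoidHom b = e.toMonoidHom b * e.toMonoidHom a
  rw [← map_mul, ← map_mul]
  exact congrArg e.toMonoidHom (congrArg Subtype.val (hab ⟨a, ha⟩ ⟨b, hb⟩))

end Cfsg.Agent.McLType
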