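import Cfsg.Agent.Lib.McLMult.Group
import Cfsg.Agent.GroupStructure3.McLInv.Main
import Cfsg.Agent.Lib.McLType.ModelData

/-!
The centraliser of an involution in the McLaughlin group: an element of it is coded by a number below
40320, the product of a member of a transversal and a member of the centraliser of a second involution;
products of coded elements are checked on five points.
-/

set_option autoImplicit false
set_option maxRecDepth 100000
set_option Elab.async false

noncomputable section

namespace Cfsg.Agent.McLType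

open Cfsg.Agent.GroupStructure3.McLInv (pT allB allB_spec IsT TT tG Cn t0_spec tT)
open Cfsg.Agent.Lib.McLMult (gC appC okC gC_apply base_five)

local notation "P275" => Equiv.Perm (Fin 275)

/-- The table of a node. -/
def nd (i : ℕ) : ℕ := Data.nodeT.get i

/-- The coordinates of a basic element. -/
def gcode (i : ℕ) : List ℕ := Data.genC.getD i []

/-- The check of the basic elements. -/
def genOK : Bool :=
  allB 5 fun i => okC (gcode i) && allB 275 fun v => appC (gcode i) v == pT (nd i) v

theorem gen_ok : genOK = true := by decide +kernel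

/-- The basic elements: four generators of the centraliser and the element of order three. -/
noncomputable def gB (i : ℕ) : TT := gC (gcode i)

theorem gB_tab {i : ℕ} (hi : i < 5) : IsT (nd i) (gB i : P275) := fun v => by
  have h := allB_spec gen_ok i hi
  rw [Bool.and_eq_true] at h
  rw [gB, gC_apply h.1]
  exact beq_iff_eq.1 (allB_spec h.2 v v.2)

/-- The element of order three. -/
noncomputable def cG : TT := gB 4

/-- The check of the products. -/
def opsOK : Bool :=
  allB Data.ops.length fun j =>
    match Data.ops.getD j (0, 0) with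
    | (a, b) => decide (a < 5 + j ∧ a ≠ 4 ∧ b < 5 + j ∧ b ≠ 4) &&
        allB 275 fun v => pT (nd (5 + j)) v == pT (nd a) (pT (nd b) v)

theorem ops_ok : opsOK = true := by decide +kernel

/-- The generators centralise the involution. -/
def commOK : Bool := allB 4 fun i => allB 275 fun v => pT (nd i) (pT tT v) == pT tT (pT (nd i) v)

theorem comm_ok : commOK = true := by decide +kernel

theorem gB_mem {i : ℕ} (hi : i < 4) : gB i ∈ Cn := by
  rw [Cn, Subgroup.mem_centralizer_singleton_iff]
  refine Subtype.ext (Equiv.ext fun v => Fin.ext ?_)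
  show (((gB i : P275) * GroupStructure3.McLInv.t0) v : Fin 275).val =
    ((GroupStructure3.McLInv.t0 * (gB i : P275)) v : Fin 275).val
  rw [IsT.mul (gB_tab (hi.trans (by norm_num))) t0_spec.1 v, IsT.mul t0_spec.1 (gB_tab (hi.trans (by norm_num))) v]
  exact beq_iff_eq.1 (allB_spec (allB_spec comm_ok i hi) v v.2)

theorem exists_nd : ∀ i : ℕ, i < 5 + Data.ops.length → i ≠ 4 → ∃ g : Cn, IsT (nd i) (((g : TT) : P275)) := by
  intro i
  induction i using Nat.strong_induction_on with
  | _ i ih =>
    intro hi h4
    by_cases h : i < 5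
    · exact ⟨⟨gB i, gB_mem (by omega)⟩, gB_tab h⟩
    · obtain ⟨j, rfl⟩ : ∃ j, i = 5 + j := ⟨i - 5, by omega⟩
      have hj : j < Data.ops.length := by omega
      have h' := allB_spec ops_ok j hj
      rcases e : Data.ops.getD j (0, 0) with ⟨a, b⟩
      rw [e, Bool.and_eq_true, decide_eq_true_eq] at h'
      obtain ⟨⟨ha, ha4, hb, hb4⟩, h'⟩ := h'
      obtain ⟨x, hx⟩ := ih a ha (ha.trans hi) ha4
      obtain ⟨y, hy⟩ := ih b hb (hb.trans hi) hb4
      refine ⟨x * y, fun v => ?_⟩
      rw [Subgroup.coe_mul, Subgroup.coe_mul, IsT.mul hx hy v]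
      exact (beq_iff_eq.1 (allB_spec h' v v.2)).symm

/-- The element of a node. -/
noncomputable def gN (i : ℕ) : Cn :=
  if h : i < 5 + Data.ops.length ∧ i ≠ 4 then (exists_nd i h.1 h.2).choose else 1

/-- The ranges of the two index tables. -/
def idxOK : Bool :=
  (allB 192 fun v => decide (Data.vIdx.get v < 5 + Data.ops.length ∧ Data.vIdx.get v ≠ 4)) &&
    allB 210 fun k => decide (Data.rIdx.get k < 5 + Data.ops.length ∧ Data.rIdx.get k ≠ 4)

theorem idx_ok : idxOK = true := by decide +kernel

/-- The elements of the centraliser of the second involution. -/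
noncomputable def eV (v : ℕ) : Cn := gN (Data.vIdx.get v)

/-- The transversal. -/
noncomputable def eR (k : ℕ) : Cn := gN (Data.rIdx.get k)

/-- The image of a point under a coded element. -/
def app (n v : ℕ) : ℕ := pT (nd (Data.rIdx.get (n / 192))) (pT (nd (Data.vIdx.get (n % 192))) v)

/-- The coded element. -/
noncomputable def el (n : ℕ) : Cn := eR (n / 192) * eV (n % 192)

theorem gN_tab {i : ℕ} (hi : i < 5 + Data.ops.length) (h4 : i ≠ 4) :
    IsT (nd i) ((gN i : TT) : P275) := by
  rw [gN, dif_pos ⟨hi, h4⟩]
  exact (exists_nd i hi h4).choose_spec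

theorem eV_tab {v : ℕ} (hv : v < 192) : IsT (nd (Data.vIdx.get v)) ((eV v : TT) : P275) := by
  have h := idx_ok
  rw [idxOK, Bool.and_eq_true] at h
  have h' := of_decide_eq_true (allB_spec h.1 v hv)
  exact gN_tab h'.1 h'.2

theorem eR_tab {k : ℕ} (hk : k < 210) : IsT (nd (Data.rIdx.get k)) ((eR k : TT) : P275) := by
  have h := idx_ok
  rw [idxOK, Bool.and_eq_true] at h
  have h' := of_decide_eq_true (allB_spec h.2 k hk)
  exact gN_tab h'.1 h'.2

theorem el_app {n : ℕ} (hn : n < 40320) (v : Fin 275) : ((((el n : TT) : P275) v : Fin 275) : ℕ) = app n v.1 := by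
  rw [el, Subgroup.coe_mul, Subgroup.coe_mul,
    IsT.mul (eR_tab (show n / 192 < 210 by omega)) (eV_tab (show n % 192 < 192 by omega)) v]
  rfl

theorem eq_of_five {g h : TT}
    (e : ∀ v : Fin 275, v.1 < 5 → (((g : P275) v : Fin 275) : ℕ) = (((h : P275) v : Fin 275) : ℕ)) : g = h :=
  base_five fun v hv => Fin.ext (e v hv)

/-- The product of two coded elements is a third one. -/
def mulB (a b z : ℕ) : Bool :=
  decide (a < 40320) && decide (b < 40320) && decide (z < 40320) && allB 5 fun p => app a (app b p) == app z p

theorem of_mulB {a b z : ℕ} (h : mulB a b z = true) : el a * el b = el z := by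
  simp only [mulB, Bool.and_eq_true, decide_eq_true_eq] at h
  obtain ⟨⟨⟨ha, hb⟩, hz⟩, h⟩ := h
  refine Subtype.ext (eq_of_five fun v hv => ?_)
  rw [Subgroup.coe_mul, Subgroup.coe_mul, Equiv.Perm.mul_apply, el_app ha, el_app hb, el_app hz]
  exact beq_iff_eq.1 (allB_spec h v hv)

end Cfsg.Agent.McLType
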