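import Cfsg.Agent.Lib.LeechAut.McL

/-!
The McLaughlin group has no element of order 55: an element of order eleven fixes a single one of the
2025 points, and in the stabiliser every element of order five moves five points of the 24.
-/

set_option autoImplicit false
set_option maxRecDepth 10000

namespace Cfsg.Agent.McLType

open Cfsg Cfsg.Agent.Golay.Basic Cfsg.Agent.Leech.Basic Cfsg.Agent.Leech.Index Cfsg.Agent.LeechAut Cfsg.Agent.LeechAut.Pairs
open Cfsg.Agent.LeechAut.McL (X x0 G S)

theorem none_smul {g : Co0} (hg : g ∈ S) {y : leechLattice} (hy : McL.InX y) :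
    (((g • y : leechLattice) : Vec) none) = (y : Vec) none := by
  obtain ⟨hG, hw⟩ := McL.mem_S.1 hg
  have h := McL.dot_w0_X hy
  have h1 : dotInt (w0 : Vec) ((g • y : leechLattice) : Vec) = dotInt (w0 : Vec) (y : Vec) := by
    conv_lhs => rw [← hw]
    exact Cfsg.Agent.LeechAut.Basic.dot_smul g _ _
  have h2 := McL.dot_w0_X (McL.inX_smul hG hy)
  omega

/-- An element of order eleven of the stabiliser fixes no other point. -/
theorem eq_x0_of_fixed {a : S} (ha : orderOf a = 11) {y : leechLattice} (hy : McL.InX y)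
    (hfix : (a : Co0) • y = y) : y = w0 := by
  by_contra hne
  have horb : MulAction.orbit S y = {z : leechLattice | McL.InX z ∧ (z : Vec) none = (y : Vec) none} := by
    ext z
    constructor
    · rintro ⟨⟨g, hg⟩, rfl⟩
      exact ⟨McL.inX_smul (McL.S_le_G hg) hy, none_smul hg hy⟩
    · rintro ⟨hz, he⟩
      have hz' : z ≠ w0 := by
        rintro rfl
        rw [McL.w0_none] at he
        rcases McL.value_cases hy with h | h | h | h
        · exact hne h
        all_goals omega
      obtain ⟨g, hg, e⟩ := McL.S_trans hy hz hne hz' he.symm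
      exact ⟨⟨g, hg⟩, e⟩
  have h := Subgroup.index_mul_card (MulAction.stabilizer S y)
  rw [MulAction.index_stabilizer, horb, McL.card_S] at h
  obtain ⟨c, hc⟩ : 11 ∣ Nat.card (MulAction.stabilizer S y) := by
    have h1 : a ∈ MulAction.stabilizer S y := MulAction.mem_stabilizer_iff.2 hfix
    exact ha ▸ Subgroup.orderOf_dvd_natCard _ h1
  rw [hc] at h
  rcases McL.value_cases hy with e | e | e | e
  · exact hne e
  · rw [e, McL.card_zero] at h; omega
  · rw [e, McL.card_twos] at h; omega
  · rw [e, McL.card_ones] at h; omega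

/-- In the two-point stabiliser of `M24` elements of orders eleven and five do not commute. -/
theorem false_of_commute_perm {σ τ : M24} (hσ : σ ∈ McL.M22s) (hτ : τ ∈ McL.M22s) (h11 : orderOf σ = 11)
    (h5 : orderOf τ = 5) (hc : Commute σ τ) : False := by
  classical
  set s : Equiv.Perm GolayPt := (σ : Equiv.Perm GolayPt)
  set f : Equiv.Perm GolayPt := (τ : Equiv.Perm GolayPt)
  have hs11 : s ^ 11 = 1 := by
    rw [← h11]; exact congrArg Subtype.val (pow_orderOf_eq_one σ)
  have hf5 : f ^ 5 = 1 := by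
    rw [← h5]; exact congrArg Subtype.val (pow_orderOf_eq_one τ)
  have hsf : Commute s f := congrArg Subtype.val hc.eq
  -- `σ` fixes what `τ` moves
  have key : ∀ p, f p ≠ p → s p = p := by
    intro p hp
    set g := s * f with hg
    have hg55 : g ^ 55 = 1 := by
      rw [hg, hsf.mul_pow, show 55 = 11 * 5 from rfl, pow_mul s, hs11, one_pow, one_mul, pow_mul' f, hf5, one_pow]
    have hd : Function.minimalPeriod g p ∣ 55 :=
      Function.IsPeriodicPt.minimalPeriod_dvd (by
        show (⇑g)^[55] p = p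
        rw [← Equiv.Perm.coe_pow, hg55]; rfl)
    have hle : Function.minimalPeriod g p ≤ 24 := by
      have h1 := Finset.card_le_univ ((Finset.range (Function.minimalPeriod g p)).image fun i => (g^[i]) p)
      rw [Finset.card_image_of_injOn (by
        intro i hi j hj e
        simp only [Finset.coe_range, Set.mem_Iio] at hi hj
        exact (Function.iterate_eq_iterate_iff_of_lt_minimalPeriod hi hj).1 e), Finset.card_range] at h1
      exact h1.trans (by decide)
    have hcases : Function.minimalPeriod g p ∣ 5 ∨ Function.minimalPeriod g p ∣ 11 := by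
      have hm : ∀ m : ℕ, m ≤ 24 → m ∣ 55 → m ∣ 5 ∨ m ∣ 11 := by decide
      exact hm _ hle hd
    rcases hcases with h | h
    · have h1 : (⇑g)^[5] p = p := Function.isPeriodicPt_iff_minimalPeriod_dvd.2 h
      rw [← Equiv.Perm.coe_pow, hg, hsf.mul_pow, hf5, mul_one] at h1
      have h2 : ∀ i : ℕ, (s ^ (5 * i)) p = p := by
        intro i
        induction i with
        | zero => rfl
        | succ i ih => rw [Nat.mul_succ, pow_add, Equiv.Perm.mul_apply, h1, ih]
      have h3 := h2 9
      rwa [show 5 * 9 = 1 + 11 * 4 from rfl, pow_add, pow_mul, hs11, one_pow, mul_one, pow_one] at h3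
    · exfalso
      have h1 : (⇑g)^[11] p = p := Function.isPeriodicPt_iff_minimalPeriod_dvd.2 h
      rw [← Equiv.Perm.coe_pow, hg, hsf.mul_pow, hs11, one_mul, show 11 = 1 + 5 * 2 from rfl, pow_add,
        pow_mul, hf5, one_pow, mul_one, pow_one] at h1
      exact hp h1
  -- five points moved by `τ`
  haveI : Fact (Nat.Prime 5) := ⟨by norm_num⟩
  have hf1 : f ≠ 1 := fun e => by
    have : τ = 1 := Subtype.ext e
    rw [this, orderOf_one] at h5
    omega
  have hmove : 5 ≤ f.support.card := by
    obtain ⟨p, hp⟩ : ∃ p, f p ≠ p := by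
      by_contra hcon
      push Not at hcon
      exact hf1 (Equiv.ext hcon)
    have hper : Function.minimalPeriod f p = 5 :=
      Function.minimalPeriod_eq_prime (by
        show (⇑f)^[5] p = p
        rw [← Equiv.Perm.coe_pow, hf5]; rfl) hp
    have hsub : (Finset.range 5).image (fun i => (⇑f)^[i] p) ⊆ f.support := by
      intro q hq
      obtain ⟨i, -, rfl⟩ := Finset.mem_image.1 hq
      rw [Equiv.Perm.mem_support]
      intro e
      rw [← Function.iterate_succ_apply' (f := ⇑f), Function.iterate_succ_apply] at e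
      exact hp ((f.injective.iterate i) e)
    refine le_trans (le_of_eq ?_) (Finset.card_le_card hsub)
    rw [Finset.card_image_of_injOn (by
      intro i hi j hj e
      simp only [Finset.coe_range, Set.mem_Iio] at hi hj
      exact (Function.iterate_eq_iterate_iff_of_lt_minimalPeriod (hper ▸ hi) (hper ▸ hj)).1 e), Finset.card_range]
  obtain ⟨T, hTsub, hT⟩ := Finset.exists_subset_card_eq hmove
  have hc48 := Cfsg.Agent.Golay.Trans.card_fixers (l := T.toList) T.nodup_toList (by rw [Finset.length_toList, hT])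
  have hmem : s ∈ Cfsg.Agent.Golay.Perm.fixers M24 T.toList :=
    ⟨σ.2, fun q hq => key q (Equiv.Perm.mem_support.1 (hTsub (Finset.mem_toList.1 hq)))⟩
  have hdvd := Subgroup.orderOf_dvd_natCard _ hmem
  rw [show orderOf s = 11 from h11 ▸ Subgroup.orderOf_coe σ, hc48, Finset.length_toList, hT] at hdvd
  norm_num at hdvd

/-- No element of order 55. -/
theorem orderOf_ne_55 (g : G) : orderOf g ≠ 55 := by
  classical
  intro hg
  haveI : Fact (Nat.Prime 11) := ⟨by norm_num⟩
  haveI : Finite G := Nat.finite_of_card_ne_zero (by rw [McL.card_G]; norm_num)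
  set a := g ^ 5 with ha
  set b := g ^ 11 with hb
  have ha11 : orderOf a = 11 := by rw [ha, orderOf_pow, hg]; rfl
  have hb5 : orderOf b = 5 := by rw [hb, orderOf_pow, hg]; rfl
  haveI : Finite X := Nat.finite_of_card_ne_zero (by rw [McL.card_X]; norm_num)
  have hA : IsPGroup 11 ↥(Subgroup.zpowers a) := IsPGroup.of_card (n := 1) (by rw [Nat.card_zpowers, ha11, pow_one])
  obtain ⟨y, hy⟩ : (MulAction.fixedPoints (Subgroup.zpowers a) X).Nonempty := by
    refine hA.nonempty_fixed_point_of_prime_not_dvd_card X ?_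
    rw [McL.card_X]; norm_num
  have hay : a • y = y := hy ⟨a, Subgroup.mem_zpowers a⟩
  obtain ⟨c, hc⟩ : y ∈ MulAction.orbit G x0 := McL.orbit_x0 ▸ Set.mem_univ y
  set a' := c⁻¹ * a * c with ha'
  set b' := c⁻¹ * b * c with hb'
  have hax : a' • x0 = x0 := by
    rw [ha', mul_smul, mul_smul, show c • x0 = y from hc, hay, ← show c • x0 = y from hc, inv_smul_smul]
  have hab : Commute a b := ((Commute.refl g).pow_pow 5 11)
  have hab' : Commute a' b' := by
    show c⁻¹ * a * c * (c⁻¹ * b * c) = c⁻¹ * b * c * (c⁻¹ * a * c)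
    rw [show c⁻¹ * a * c * (c⁻¹ * b * c) = c⁻¹ * (a * b) * c by group, hab.eq]
    group
  have haS : (a' : Co0) ∈ S := by
    have h := (MulAction.mem_stabilizer_iff (G := G)).2 hax
    rwa [McL.stab_x0, Subgroup.mem_subgroupOf] at h
  have hoS : orderOf (⟨(a' : Co0), haS⟩ : S) = 11 := by
    rw [← Subgroup.orderOf_coe, Subgroup.coe_mk, Subgroup.orderOf_coe, ha',
      show c⁻¹ * a * c = MulAut.conj c⁻¹ a by simp, MulEquiv.orderOf_eq, ha11]
  have hbS : (b' : Co0) ∈ S := by
    have hfix : (a' : Co0) • (b' • x0 : X).1 = (b' • x0 : X).1 := by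
      have h : a' • b' • x0 = b' • x0 := by rw [← mul_smul, hab'.eq, mul_smul, hax]
      exact congrArg Subtype.val h
    have h := eq_x0_of_fixed (a := ⟨(a' : Co0), haS⟩) hoS (b' • x0 : X).2 hfix
    exact McL.mem_S.2 ⟨b'.2, h⟩
  obtain ⟨⟨σ, hσ⟩, hse⟩ := McL.liftHom_bijective.2 ⟨(a' : Co0), haS⟩
  obtain ⟨⟨τ, hτ⟩, hte⟩ := McL.liftHom_bijective.2 ⟨(b' : Co0), hbS⟩
  have hinj := McL.liftHom_bijective.1
  refine false_of_commute_perm hσ hτ ?_ ?_ ?_
  · rw [← hoS, ← hse, orderOf_injective _ hinj]
    exact Subgroup.orderOf_coe (⟨σ, hσ⟩ : McL.M22s)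
  · have h5 : orderOf (⟨(b' : Co0), hbS⟩ : S) = 5 := by
      rw [← Subgroup.orderOf_coe, Subgroup.coe_mk, Subgroup.orderOf_coe, hb',
        show c⁻¹ * b * c = MulAut.conj c⁻¹ b by simp, MulEquiv.orderOf_eq, hb5]
    rw [← h5, ← hte, orderOf_injective _ hinj]
    exact Subgroup.orderOf_coe (⟨τ, hτ⟩ : McL.M22s)
  · have h : (⟨σ, hσ⟩ : McL.M22s) * ⟨τ, hτ⟩ = ⟨τ, hτ⟩ * ⟨σ, hσ⟩ := hinj (by
      rw [map_mul, map_mul, hse, hte]
      refine Subtype.ext ?_
      show (a' : Co0) * (b' : Co0) = (b' : Co0) * (a' : Co0)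
      exact congrArg Subtype.val hab'.eq)
    exact congrArg Subtype.val h

end Cfsg.Agent.McLType
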