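import Cfsg.Agent.Lib.McLType.Rules

/-!
After an adjustment of `c` inside the four-group all eight rules hold exactly.
-/

set_option autoImplicit false
set_option maxRecDepth 100000
set_option Elab.async false

noncomputable section

namespace Cfsg.Agent.McLType

open Cfsg.Agent.GroupStructure3.McLInv (pT allB allB_spec allB_iff IsT TT tG Cn t0_spec tT)

/-- The letters of a word: `none` is the element of order three. -/
def letters (l : List (List ℕ)) : List (Option ℕ) := l.map fun s => if sD s 0 = 0 then some (sD s 1) else none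

/-- The outer representative of a subgroup of order sixteen. -/
def gP (i : ℕ) : ℕ := rD (4 * i + 2) 0

/-- The value of a list of letters. -/
def lv {G : Type*} [Group G] (φ : Cn →* G) (c : G) : List (Option ℕ) → G
  | [] => 1
  | none :: l => c * lv φ c l
  | some g :: l => φ (el g) * lv φ c l

theorem wv_eq {G : Type*} [Group G] (φ : Cn →* G) (c : G) :
    ∀ l : List (List ℕ), wv φ c l = lv φ c (letters l)
  | [] => rfl
  | s :: l => by
    have ih := wv_eq φ c l
    unfold letters at ih ⊢
    rw [wv, List.map_cons, ih]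
    split_ifs <;> rfl

/-- The shape of the words. -/
def shapeB : Bool :=
  allB 2 fun i =>
    decide (eqI (3 * i) = i ∧ eqI (3 * i + 1) = i ∧ eqI (3 * i + 2) = i) &&
    decide (letters (eqSteps (3 * i)) =
        [none, none, some (gP i), none, none, none, some (gP i), none]) &&
    decide (letters (eqSteps (3 * i + 1)) = [some (gP i), none, some (gP i), none, some (gP i), none,
        some (gP i), none, some (gP i), none]) &&
    decide (letters (eqSteps (3 * i + 2)) =
        [none, some (gP i), none, none, none, some (gP i), none, none]) &&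
    decide (gP i < 40320) && mulB (gP i) (gP i) 0 &&
    allB 16 fun z => decide (p16 (rD (4 * i + 2) 4) (cP i z) ≠ z ∨ z = 0)

theorem shape_ok : shapeB = true := by decide +kernel

theorem eqnL_length : Data.eqnL.length = 6 := by decide +kernel

theorem eI_common : ∀ a b : Fin 16, eI 0 a = eI 1 b → a.1 < 4 ∧ a = b := by decide +kernel

theorem p16_four : ∀ s : Fin 4, (s.1 = 3) → eI 0 s = teI := by decide +kernel

namespace Conf

variable {G : Type*} [Group G] {φ : Cn →* G} {c : G} (K : Conf φ c)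
include K

theorem word_one {n : ℕ} (hn : n < 6) : wv φ c (eqSteps n) = 1 ∨
    (n % 3 = 1 ∧ φ (el (gP (n / 3))) * c * wv φ c (eqSteps n) = wv φ c (eqSteps n) * (φ (el (gP (n / 3))) * c)) := by
  have h := allB_spec shape_ok (n / 3) (by omega)
  simp only [Bool.and_eq_true, decide_eq_true_eq] at h
  obtain ⟨⟨⟨⟨⟨⟨-, h0⟩, h1⟩, h2⟩, hg⟩, hsq⟩, -⟩ := h
  set a := φ (el (gP (n / 3))) with ha
  have haa : a * a = 1 := by rw [ha, ← map_mul, of_mulB hsq, el_zero, map_one]
  have h3 : c * (c * c) = 1 := by rw [← K.c_cube, pow_succ', pow_two]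
  obtain hm | hm | hm : n = 3 * (n / 3) ∨ n = 3 * (n / 3) + 1 ∨ n = 3 * (n / 3) + 2 := by omega
  · left
    rw [← hm] at h0
    rw [wv_eq, h0]
    simp only [lv, mul_one, ← ha]
    calc c * (c * (a * (c * (c * (c * (a * c))))))
        = c * (c * (a * ((c * (c * c)) * (a * c)))) := by simp only [mul_assoc]
      _ = c * (c * ((a * a) * c)) := by rw [h3, one_mul]; simp only [mul_assoc]
      _ = 1 := by rw [haa, one_mul, h3]
  · right
    refine ⟨by omega, ?_⟩
    rw [← hm] at h1
    rw [wv_eq, h1]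
    simp only [lv, mul_one, ← ha, mul_assoc]
  · left
    rw [← hm] at h2
    rw [wv_eq, h2]
    simp only [lv, mul_one, ← ha]
    calc c * (a * (c * (c * (c * (a * (c * c))))))
        = c * (a * ((c * (c * c)) * (a * (c * c)))) := by simp only [mul_assoc]
      _ = c * ((a * a) * (c * c)) := by rw [h3, one_mul]; simp only [mul_assoc]
      _ = 1 := by rw [haa, one_mul, h3]

/-- The offsets of the rules solve the words. -/
theorem offsets {s : ℕ} (u : ℕ → ℕ) (hu : ∀ r, u r < 16)
    (hrule : ∀ r < 8, c ^ rH r * φ (el (rD r 0)) * c =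
      φ (el (rD r 1)) * c ^ rD r 2 * φ (el (rD r 3)) * φ (eE (r / 4) (u r)))
    (h0 : u 0 = s ∧ u 1 = s ∧ u 4 = s ∧ u 5 = s) (hs : s < 4) :
    (s = 0 ∨ s = 3) ∧ (s = 0 → ∀ r < 8, u r = 0) := by
  have key : ∀ i < 2, (s = 0 ∨ s = 3) ∧ (s = 0 → u (4 * i + 2) = 0 ∧ u (4 * i + 3) = 0) := by
    intro i hi
    set a := u (4 * i + 2) with ha
    set b := u (4 * i + 3) with hb
    have h := allB_spec (allB_spec (allB_spec (allB_spec sol_ok i hi) s hs) a (hu _)) b (hu _)
    simp only [Bool.or_eq_true, Bool.and_eq_true, beq_iff_eq, decide_eq_true_eq, List.any_eq_true,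
      List.mem_range, bne_iff_ne, ne_eq] at h
    rcases h with ⟨h1, h2⟩ | ⟨n, hn, hni, hne⟩
    · refine ⟨h1, fun h0' => ?_⟩
      rcases h2 with h2 | h2
      · omega
      · exact h2
    · exfalso
      subst hni
      have hn6 : n < 6 := eqnL_length ▸ hn
      have he := allB_spec eq_ok n hn
      rw [Bool.and_eq_true, decide_eq_true_eq] at he
      have hu' : ∀ r, unk s a b a b r < 16 := fun r => by
        have ha16 : a < 16 := hu _
        have hb16 : b < 16 := hu _
        unfold unk
        split <;> omega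
      have hrule' : ∀ r, r < 8 → r / 4 = eqI n →
          c ^ rH r * φ (el (rD r 0)) * c =
            φ (el (rD r 1)) * c ^ rD r 2 * φ (el (rD r 3)) * φ (eE (eqI n) (unk s a b a b r)) := by
        intro r hr hri
        have e : unk s a b a b r = u r := by
          obtain ⟨e0, e1, e4, e5⟩ := h0
          interval_cases r <;> simp only [unk] <;> norm_num at hri <;>
            first | exact e0.symm | exact e1.symm | exact e4.symm | exact e5.symm | (rw [ha, ← hri]) | (rw [hb, ← hri])
        rw [e, ← hri]; exact hrule r hr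
      obtain ⟨hv, hz⟩ := K.run_sound he.1 (unk s a b a b) hu' hrule' (eqSteps n) (0, 0, 0) 0 (by norm_num) he.2
      have e00 : ∀ i < 2, φ (eE i 0) = 1 := by
        intro i hi
        obtain ⟨-, -, -, -, a0, a1, -⟩ := base_spec
        rcases Nat.lt_succ_iff_lt_or_eq.1 hi with h | rfl
        · rw [Nat.lt_one_iff.1 h, eE, a0, eV_zero, map_one]
        · rw [eE, a1, eV_zero, map_one]
      have hv' : wv φ c (eqSteps n) = φ (eE (eqI n) (runE (eqI n) (unk s a b a b) (eqSteps n) (0, 0, 0) 0)) := by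
        rw [← hv, el_zero, map_one, pow_zero, e00 _ he.1]; simp
      set z := runE (eqI n) (unk s a b a b) (eqSteps n) (0, 0, 0) 0
      refine hne ?_
      rcases K.word_one hn6 with h1 | ⟨hmod, h1⟩
      · rw [hv'] at h1
        exact eE_inj he.1 hz (by norm_num) (K.inj (h1.trans (e00 _ he.1).symm))
      · have hsh := allB_spec shape_ok (n / 3) (by omega)
        simp only [Bool.and_eq_true, decide_eq_true_eq] at hsh
        obtain ⟨⟨⟨⟨⟨⟨⟨-, hi1, -⟩, -⟩, -⟩, -⟩, hg⟩, -⟩, hfix⟩ := hsh
        have hin : eqI n = n / 3 := by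
          rw [show 3 * (n / 3) + 1 = n by omega] at hi1; exact hi1
        have hz' := allB_spec hfix z hz
        rw [decide_eq_true_eq] at hz'
        obtain ⟨-, pg, -⟩ := rule_data (r := 4 * (n / 3) + 2) (by omega)
        rw [show (4 * (n / 3) + 2) / 4 = n / 3 by omega] at pg
        unfold gP at hg h1
        rw [hv', hin, mul_assoc, K.c_eE (by omega) hz, ← mul_assoc, ← map_mul,
          pOK_spec pg hg (show cP (n / 3) z < 16 from p16_lt _ _), map_mul] at h1
        simp only [mul_assoc] at h1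
        have h2 := eE_inj (by omega) (p16_lt _ _) hz (K.inj (mul_right_cancel h1))
        exact hz'.resolve_left (fun h => h h2)
  refine ⟨(key 0 (by norm_num)).1, fun hs0 r hr => ?_⟩
  obtain ⟨e0, e1, e4, e5⟩ := h0
  obtain ⟨a2, a3⟩ := (key 0 (by norm_num)).2 hs0
  obtain ⟨a6, a7⟩ := (key 1 (by norm_num)).2 hs0
  interval_cases r <;> first | omega | assumption

/-- The offsets of the rules of one element. -/
theorem exists_offsets : ∃ (u : ℕ → ℕ) (s : ℕ), (∀ r, u r < 16) ∧ s < 4 ∧
    (∀ r < 8, c ^ rH r * φ (el (rD r 0)) * c =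
      φ (el (rD r 1)) * c ^ rD r 2 * φ (el (rD r 3)) * φ (eE (r / 4) (u r))) ∧
    (u 0 = s ∧ u 1 = s ∧ u 4 = s ∧ u 5 = s) := by
  classical
  choose! e he hrule using fun r (hr : r < 8) => K.exists_rule hr
  let u : ℕ → ℕ := fun r => if r < 8 then e r else 0
  have hu : ∀ r, u r < 16 := fun r => by
    simp only [u]; split_ifs with h
    · exact he r h
    · norm_num
  have hru : ∀ r < 8, c ^ rH r * φ (el (rD r 0)) * c =
      φ (el (rD r 1)) * c ^ rD r 2 * φ (el (rD r 3)) * φ (eE (r / 4) (u r)) := fun r hr => by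
    simp only [u, if_pos hr]; exact hrule r hr
  have hsw := sw_ok
  simp only [swB, Bool.and_eq_true, decide_eq_true_eq] at hsw
  obtain ⟨⟨⟨a0, a4, h02, h42, ha, hb, a1, a5, h12, h52, h11, h51, h13⟩, hab⟩, -⟩ := hsw
  have r0 := hru 0 (by norm_num)
  have r4 := hru 4 (by norm_num)
  have r1 := hru 1 (by norm_num)
  have r5 := hru 5 (by norm_num)
  have H0 : rH 0 = 1 ∧ rH 4 = 1 ∧ rH 1 = 2 ∧ rH 5 = 2 := by decide
  obtain ⟨q0, q4, q1, q5⟩ := H0
  rw [q0, a0, h02, pow_zero, pow_one, mul_one, show 0 / 4 = 0 from rfl] at r0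
  rw [q4, a4, h42, ← ha, ← hb, pow_zero, pow_one, mul_one, show 4 / 4 = 1 from rfl] at r4
  rw [q1, a1, h11, h12, el_zero, map_one, pow_one, one_mul, show 1 / 4 = 0 from rfl, pow_two, mul_assoc c c,
    mul_assoc c, r0, ← map_mul, of_mulB hab] at r1
  rw [q5, a5, h51, h52, ← h13, el_zero, map_one, pow_one, one_mul, show 5 / 4 = 1 from rfl, pow_two,
    mul_assoc c c, mul_assoc c, r0, ← map_mul, of_mulB hab] at r5
  have e04 := K.inj (mul_left_cancel (r0.symm.trans r4))
  simp only [eE] at e04
  obtain ⟨hlt, h04⟩ := eI_common ⟨u 0, hu 0⟩ ⟨u 4, hu 4⟩ (eV_inj _ eI_lt _ eI_lt e04)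
  have h04' : u 0 = u 4 := congrArg Fin.val h04
  simp only [mul_assoc] at r1 r5
  have e01 : u 0 = u 1 := eE_inj (by norm_num) (hu 0) (hu 1) (K.inj (mul_left_cancel (mul_left_cancel r1)))
  have e05 := K.inj (mul_left_cancel (mul_left_cancel r5))
  simp only [eE] at e05
  obtain ⟨-, h05⟩ := eI_common ⟨u 0, hu 0⟩ ⟨u 5, hu 5⟩ (eV_inj _ eI_lt _ eI_lt e05)
  exact ⟨u, u 0, hu, hlt, hru, rfl, e01.symm, h04'.symm, (congrArg Fin.val h05).symm⟩

/-- After an adjustment inside the four-group the rules hold exactly. -/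
theorem exists_exact : ∃ c' : G, (c' = c ∨ c' = c * φ tau) ∧ Conf φ c' ∧ Conf.Exact φ c' := by
  obtain ⟨u, s, hu, hs, hrule, h0⟩ := K.exists_offsets
  obtain ⟨hs03, hz⟩ := K.offsets u hu hrule h0 hs
  have fin : ∀ (d : G), Conf φ d → ∀ u' : ℕ → ℕ,
      (∀ r < 8, d ^ rH r * φ (el (rD r 0)) * d =
        φ (el (rD r 1)) * d ^ rD r 2 * φ (el (rD r 3)) * φ (eE (r / 4) (u' r))) →
      (∀ r < 8, u' r = 0) → Conf.Exact φ d := by
    intro d Kd u' hr hzero r hr8
    rw [hr r hr8, hzero r hr8]
    have : φ (eE (r / 4) 0) = 1 := by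
      obtain ⟨-, -, -, -, a0, a1, -⟩ := base_spec
      have hi : r / 4 < 2 := by omega
      rcases Nat.lt_succ_iff_lt_or_eq.1 hi with h | h
      · rw [Nat.lt_one_iff.1 h, eE, a0, eV_zero, map_one]
      · rw [h, eE, a1, eV_zero, map_one]
    rw [this, mul_one]
  rcases hs03 with rfl | rfl
  · exact ⟨c, Or.inl rfl, K, fin c K u hrule (hz rfl)⟩
  · set d := c * φ tau with hd
    have K' : Conf φ d := by
      refine ⟨K.inj, fun v hv => ?_, K.cent⟩
      rw [hd, mul_assoc, ← map_mul, ← eV_comm hv, map_mul, ← mul_assoc, K.conj v hv, mul_assoc]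
    obtain ⟨u', s', hu', hs', hrule', h0'⟩ := K'.exists_offsets
    obtain ⟨-, hz'⟩ := K'.offsets u' hu' hrule' h0' hs'
    refine ⟨d, Or.inr hd, K', fin d K' u' hrule' (hz' ?_)⟩
    have hsw := sw_ok
    simp only [swB, Bool.and_eq_true, decide_eq_true_eq] at hsw
    obtain ⟨⟨⟨a0, -, h02, -⟩, -⟩, hswap⟩ := hsw
    have r0 := hrule 0 (by norm_num)
    have r0' := hrule' 0 (by norm_num)
    rw [show rH 0 = 1 from rfl, a0, h02, pow_zero, pow_one, mul_one, show 0 / 4 = 0 from rfl, h0.1] at r0
    rw [show rH 0 = 1 from rfl, a0, h02, pow_zero, pow_one, mul_one, show 0 / 4 = 0 from rfl, h0'.1] at r0'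
    have hsI : swI < 40320 := by decide
    have ht : tau * el swI = el swI * te := by
      rw [te_eq, tau, ← el_lt (show teI < 192 from eI_lt), ← el_lt (show (35 : ℕ) < 192 by norm_num)]
      exact (el_mul_comm_of hsI (lt_trans eI_lt (by norm_num)) (by norm_num) hsI
        fun p hp => beq_iff_eq.1 (allB_spec hswap p hp)).symm
    have hback : φ (te) * c = c * φ tC := by
      rw [te_eq, K.conj_back (show teI < 192 from eI_lt), show beN teI = 13 by decide +kernel]; rfl
    have e3 : φ (eE 0 3) = φ tau * φ tC := by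
      rw [← map_mul, tC_central, ← te, te_eq]; rfl
    have hd3 : d * φ (el swI) * d = φ (el (rD 0 1)) * φ (el (rD 0 3)) := by
      calc d * φ (el swI) * d = c * φ (el swI) * (φ te * c) * φ tau := by
            rw [hd, mul_assoc c (φ tau), ← map_mul, ht, map_mul]; simp only [mul_assoc]
        _ = c * φ (el swI) * c * (φ tC * φ tau) := by rw [hback]; simp only [mul_assoc]
        _ = φ (el (rD 0 1)) * φ (el (rD 0 3)) * (φ (eE 0 3) * (φ tC * φ tau)) := by
            rw [r0]; simp only [mul_assoc]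
        _ = φ (el (rD 0 1)) * φ (el (rD 0 3)) := by
            rw [e3, ← map_mul φ tau tC, ← map_mul φ tC tau, ← map_mul φ (tau * tC),
              show tau * tC * (tC * tau) = 1 by
              rw [mul_assoc, ← mul_assoc tC tC, show tC * tC = 1 by
                refine Subtype.ext ?_
                rw [Subgroup.coe_mul, tC_coe]
                exact Subtype.ext ((pow_two _).symm.trans t0_spec.2.1), one_mul, tau_sq], map_one, mul_one]
    rw [hd3] at r0'
    have e := mul_left_cancel ((mul_one _).trans r0')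
    obtain ⟨-, -, -, -, a00, -⟩ := base_spec
    have e0 : eE 0 0 = 1 := by rw [eE, a00, eV_zero]
    refine eE_inj (i := 0) (by norm_num) (show s' < 16 by omega) (by norm_num) (K.inj ?_)
    rw [e0, map_one]
    exact e.symm

end Conf

end Cfsg.Agent.McLType
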