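import Mathlib
import Cfsg.Agent.Lib.Cores.Fitting
import Cfsg.Agent.Lib.M22Order.LocalTools

/-!
General lemmas for bounding the inverted elements of an automorphism of order two of a group of odd order.
-/

set_option autoImplicit false

namespace Cfsg.Agent.McLType.OddTools

open Cfsg

/-- The inverted elements of an involutive automorphism of a group of odd order. -/
theorem inverted_bound {D : Type*} [Group D] [Finite D] (hD : Odd (Nat.card D)) (φ : D ≃* D)
    (hφ : ∀ d, φ (φ d) = d) {B : ℕ} (hcard : Nat.card D ≤ 3 * B)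
    (hab : (∀ a b : D, a * b = b * a) → Nat.card D ≤ B) :
    Nat.card {d : D // φ d = d⁻¹} ≤ B := by
  classical
  let Fx : Subgroup D := φ.toMonoidHom.eqLocus (MonoidHom.id D)
  have hmem : ∀ x : D, x ∈ Fx ↔ φ x = x := fun _ => Iff.rfl
  have h2 : Function.Injective fun x : D => x ^ 2 :=
    (Nat.Coprime.pow_left_bijective (Nat.coprime_two_right.2 hD)).1
  have hinj : Function.Injective fun p : {d : D // φ d = d⁻¹} × Fx => (p.1.1 * p.2.1 : D) := by
    rintro ⟨⟨d, hd⟩, ⟨x, hx⟩⟩ ⟨⟨e, he⟩, ⟨y, hy⟩⟩ h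
    rw [hmem] at hx hy
    simp only at h
    have h' : e⁻¹ * d = y * x⁻¹ := by
      rw [eq_mul_inv_iff_mul_eq, mul_assoc, h, inv_mul_cancel_left]
    have h3 : e * d⁻¹ = e⁻¹ * d := by
      have := congrArg φ h'
      rw [map_mul, map_mul, map_inv, map_inv, hd, he, hx, hy, inv_inv, ← h'] at this
      exact this
    have hed : d = e := h2 (show d ^ 2 = e ^ 2 by
      have h4 := congrArg (fun z => e * z * d) h3
      simp only [mul_assoc, inv_mul_cancel, mul_one, mul_inv_cancel_left] at h4
      rw [pow_two, pow_two]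
      exact h4.symm)
    subst hed
    have hxy : x = y := mul_left_cancel h
    subst hxy
    rfl
  have hle := Nat.card_le_card_of_injective _ hinj
  rw [Nat.card_prod] at hle
  obtain ⟨c, hc⟩ := Fx.card_subgroup_dvd_card
  have hodd : Odd (Nat.card Fx) := (Nat.odd_mul.1 (hc ▸ hD)).1
  rcases (show Nat.card Fx = 1 ∨ 3 ≤ Nat.card Fx by obtain ⟨k, hk⟩ := hodd; omega) with h1 | h3
  · rw [h1, mul_one] at hle
    have hψ : Function.Injective fun d : D => d⁻¹ * φ d := by
      intro d e h
      simp only at h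
      have hm : e * d⁻¹ ∈ Fx := by
        rw [hmem, map_mul, map_inv]
        have h4 := congrArg (fun z => e * z * (φ d)⁻¹) h
        simp only [mul_assoc, mul_inv_cancel, mul_one, mul_inv_cancel_left] at h4
        exact h4.symm
      rw [Subgroup.eq_bot_of_card_eq Fx h1, Subgroup.mem_bot, mul_inv_eq_one] at hm
      exact hm.symm
    have hinv : ∀ y : D, φ y = y⁻¹ := fun y => by
      obtain ⟨d, rfl⟩ := (Finite.injective_iff_surjective.1 hψ) y
      simp only [map_mul, map_inv, hφ, mul_inv_rev, inv_inv]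
    refine hle.trans (hab fun a b => ?_)
    have h4 := hinv (a * b)
    rw [map_mul, hinv, hinv, ← mul_inv_rev, inv_inj] at h4
    exact h4.symm
  · have : Nat.card {d : D // φ d = d⁻¹} * 3 ≤ 3 * B :=
      (Nat.mul_le_mul_left _ h3).trans (hle.trans hcard)
    omega

/-- An element of a finite group lies in the subgroup generated by its square, for odd order. -/
theorem exists_sq_pow {G : Type*} [Group G] (x : G) (h : Odd (orderOf x)) : ∃ k : ℕ, (x ^ 2) ^ k = x := by
  obtain ⟨k, hk⟩ := h
  refine ⟨k + 1, ?_⟩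
  rw [← pow_mul, show 2 * (k + 1) = 2 * k + 1 + 1 by ring, ← hk, pow_succ, pow_orderOf_eq_one, one_mul]

/-- A `p`-automorphism of a `q`-group of order `q ^ k` is trivial if no `q ^ d` with `1 ≤ d ≤ k` is `1 mod p`. -/
theorem aut_eq_one {J : Type*} [Group J] [Finite J] {p q k : ℕ} (hp : p.Prime) (hq : q.Prime) (hne : p ≠ q)
    (hJ : Nat.card J = q ^ k) (hd : ∀ d, 1 ≤ d → d ≤ k → q ^ d % p ≠ 1) {σ : MulAut J}
    (hσ : IsPGroup p (Subgroup.zpowers σ)) : σ = 1 := by
  classical
  haveI := Fact.mk hp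
  haveI := Fact.mk hq
  let Fx : Subgroup J := σ.toMonoidHom.eqLocus (MonoidHom.id J)
  have hfix : MulAction.fixedPoints (Subgroup.zpowers σ) J = (Fx : Set J) := by
    ext x
    constructor
    · exact fun h => h ⟨σ, Subgroup.mem_zpowers σ⟩
    · intro h g
      exact (Subgroup.zpowers_le (H := MulAction.stabilizer (MulAut J) x)).2 h g.2
  have hmod := hσ.card_modEq_card_fixedPoints J
  rw [hfix] at hmod
  obtain ⟨i, hik, hi⟩ := (Nat.dvd_prime_pow hq).1 (hJ ▸ Fx.card_subgroup_dvd_card)
  rw [hJ, SetLike.coe_sort_coe, hi] at hmod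
  rcases eq_or_lt_of_le hik with rfl | hlt
  · have htop : Fx = ⊤ := Subgroup.eq_top_of_card_eq _ (hi.trans hJ.symm)
    refine MulEquiv.ext fun x => ?_
    exact (htop ▸ Subgroup.mem_top x : x ∈ Fx)
  · exfalso
    have hcop : Nat.gcd p (q ^ i) = 1 := ((Nat.coprime_primes hp hq).2 hne).pow_right i
    have h1 : q ^ (k - i) ≡ 1 [MOD p] := by
      refine Nat.ModEq.cancel_right_of_coprime (c := q ^ i) hcop ?_
      rw [one_mul, ← pow_add, Nat.sub_add_cancel hik]
      exact hmod
    refine hd (k - i) (by omega) (by omega) ?_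
    rw [h1, Nat.one_mod_eq_one.2 hp.one_lt.ne']

/-- The same for conjugation on a normal subgroup. -/
theorem centralizes {D : Type*} [Group D] [Finite D] {p q k : ℕ} (hp : p.Prime) (hq : q.Prime) (hne : p ≠ q)
    (N : Subgroup D) [N.Normal] (hN : Nat.card N = q ^ k) (hd : ∀ d, 1 ≤ d → d ≤ k → q ^ d % p ≠ 1) {g : D}
    (hg : IsPGroup p (Subgroup.zpowers g)) : ∀ n ∈ N, Commute g n := by
  intro n hn
  have h : (MulAut.conjNormal g : MulAut N) = 1 := by
    refine aut_eq_one hp hq hne hN hd ?_
    rw [← MonoidHom.map_zpowers]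
    exact hg.map _
  have h' := congrArg Subtype.val (DFunLike.congr_fun h ⟨n, hn⟩)
  rw [MulAut.conjNormal_apply, MulAut.one_apply] at h'
  exact mul_inv_eq_iff_eq_mul.1 h'

/-- A `p`-element centralises a normal subgroup of order `p` or `1`. -/
theorem centralizes_self {D : Type*} [Group D] [Finite D] {p : ℕ} [Fact p.Prime] (N : Subgroup D) [N.Normal]
    (hN : Nat.card N ∣ p) {g : D} (hg : IsPGroup p (Subgroup.zpowers g)) : ∀ n ∈ N, Commute g n := by
  classical
  intro n hn
  rcases (Nat.dvd_prime (Fact.out : p.Prime)).1 hN with h | h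
  · rw [Subgroup.eq_bot_of_card_eq N h, Subgroup.mem_bot] at hn
    rw [hn]; exact Commute.one_right g
  have hσ : IsPGroup p (Subgroup.zpowers (MulAut.conjNormal g : MulAut N)) := by
    rw [← MonoidHom.map_zpowers]; exact hg.map _
  set σ : MulAut N := MulAut.conjNormal g with hσdef
  let Fx : Subgroup N := σ.toMonoidHom.eqLocus (MonoidHom.id N)
  have hfix : MulAction.fixedPoints (Subgroup.zpowers σ) N = (Fx : Set N) := by
    ext x
    constructor
    · exact fun h => h ⟨σ, Subgroup.mem_zpowers σ⟩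
    · intro h u
      exact (Subgroup.zpowers_le (H := MulAction.stabilizer (MulAut N) x)).2 h u.2
  have hmod := hσ.card_modEq_card_fixedPoints N
  rw [hfix, h, SetLike.coe_sort_coe] at hmod
  have hdv : p ∣ Nat.card Fx := (Nat.modEq_zero_iff_dvd.1 (hmod.symm.trans (Nat.modEq_zero_iff_dvd.2 dvd_rfl)))
  have htop : Fx = ⊤ := Subgroup.eq_top_of_card_eq _
    (Nat.dvd_antisymm Fx.card_subgroup_dvd_card (h.symm ▸ hdv))
  have h' := congrArg Subtype.val (htop ▸ Subgroup.mem_top (⟨n, hn⟩ : N) : (⟨n, hn⟩ : N) ∈ Fx)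
  change ((σ ⟨n, hn⟩ : N) : D) = n at h'
  rw [hσdef, MulAut.conjNormal_apply] at h'
  exact mul_inv_eq_iff_eq_mul.1 h'

/-- No group of nine automorphisms of a group of order 25 or 125 is faithful. -/
theorem no_nine {J : Type*} [Group J] [Finite J] {k : ℕ} (hJ : Nat.card J = 5 ^ k) (hk : k = 2 ∨ k = 3)
    (E : Subgroup (MulAut J)) (hE : Nat.card E = 9) : False := by
  classical
  haveI : Fact (Nat.Prime 3) := ⟨Nat.prime_three⟩
  let Fx : MulAut J → Subgroup J := fun e => e.toMonoidHom.eqLocus (MonoidHom.id J)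
  have hpg : ∀ e ∈ E, IsPGroup 3 (Subgroup.zpowers e) := fun e he =>
    (IsPGroup.of_card (n := 2) (by rw [hE]; norm_num)).to_le (Subgroup.zpowers_le.2 he)
  have hcard : ∀ e ∈ E, e ≠ 1 → Nat.card (Fx e) = 5 ^ (k - 2) := by
    intro e he hne
    have hfix : MulAction.fixedPoints (Subgroup.zpowers e) J = (Fx e : Set J) := by
      ext x
      constructor
      · exact fun h => h ⟨e, Subgroup.mem_zpowers e⟩
      · intro h u
        exact (Subgroup.zpowers_le (H := MulAction.stabilizer (MulAut J) x)).2 h u.2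
    have hmod := (hpg e he).card_modEq_card_fixedPoints J
    rw [hfix, SetLike.coe_sort_coe] at hmod
    obtain ⟨i, hik, hi⟩ := (Nat.dvd_prime_pow (by norm_num : Nat.Prime 5)).1 (hJ ▸ (Fx e).card_subgroup_dvd_card)
    rw [hJ, hi] at hmod
    have hlt : i ≠ k := by
      rintro rfl
      refine hne (MulEquiv.ext fun x => ?_)
      exact (Subgroup.eq_top_of_card_eq (Fx e) (hi.trans hJ.symm) ▸ Subgroup.mem_top x : x ∈ Fx e)
    rw [hi]
    have key : ∀ k ≤ 3, ∀ i ≤ k, 2 ≤ k → i ≠ k → 5 ^ k % 3 = 5 ^ i % 3 → i = k - 2 := by decide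
    rw [key k (by omega) i hik (by omega) hlt hmod]
  obtain ⟨e₀, he₀, hne₀⟩ : ∃ e ∈ E, e ≠ 1 := by
    by_contra h
    push Not at h
    rw [(Subgroup.eq_bot_iff_forall E).2 h, Subgroup.card_bot] at hE
    omega
  haveI : IsMulCommutative E := by
    haveI : IsMulCommutative E := IsPGroup.isMulCommutative_of_card_eq_prime_sq (p := 3) (by rw [hE]; norm_num)
    infer_instance
  -- all non-trivial elements fix the same elements
  have hsame : ∀ e ∈ E, e ≠ 1 → Fx e = Fx e₀ := by
    intro e he hne
    refine (Subgroup.eq_of_le_of_card_ge ?_ (by rw [hcard e he hne, hcard e₀ he₀ hne₀])).symm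
    have hcomm : ∀ x, e (e₀ x) = e₀ (e x) := fun x => by
      have h := congrArg Subtype.val (mul_comm' (⟨e, he⟩ : E) ⟨e₀, he₀⟩)
      exact DFunLike.congr_fun h x
    let ρ : MulAut (Fx e₀) :=
      { toFun := fun x => ⟨e x, show e₀ (e x) = e x by rw [← hcomm, show e₀ (x : J) = x from x.2]⟩
        invFun := fun x => ⟨e.symm x, show e₀ (e.symm x) = e.symm x by
          refine e.injective ?_
          rw [hcomm, MulEquiv.apply_symm_apply]
          exact x.2⟩
        left_inv := fun x => Subtype.ext (e.symm_apply_apply x)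
        right_inv := fun x => Subtype.ext (e.apply_symm_apply x)
        map_mul' := fun x y => Subtype.ext (map_mul e (x : J) y) }
    have hρ : ρ = 1 := by
      refine aut_eq_one (p := 3) (q := 5) (k := k - 2) (by norm_num) (by norm_num) (by norm_num)
        (hcard e₀ he₀ hne₀) (fun d h1 h2 => ?_) ?_
      · obtain rfl : d = 1 := by omega
        norm_num
      · have h3 : orderOf ρ ∣ orderOf e := by
          refine orderOf_dvd_of_pow_eq_one (MulEquiv.ext fun x => Subtype.ext ?_)
          have hit : ∀ n : ℕ, (((ρ ^ n) x : Fx e₀) : J) = (e ^ n) (x : J) := by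
            intro n
            induction n generalizing x with
            | zero => rfl
            | succ n ih => rw [pow_succ, pow_succ, MulAut.mul_apply, MulAut.mul_apply, ih]; rfl
          rw [hit, pow_orderOf_eq_one]; rfl
        obtain ⟨m, hm⟩ := (hpg e he).exists_card_eq
        rw [Nat.card_zpowers] at hm
        obtain ⟨m', -, hm'⟩ := (Nat.dvd_prime_pow Nat.prime_three).1 (hm ▸ h3)
        exact IsPGroup.of_card (n := m') (by rw [Nat.card_zpowers, hm'])
    intro x hx
    exact congrArg Subtype.val (DFunLike.congr_fun hρ ⟨x, hx⟩)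
  letI : MulAction E {x : J // x ∉ Fx e₀} :=
    { smul := fun e x => ⟨(e : MulAut J) x.1, fun h => x.2 (by
        by_cases h1 : (e : MulAut J) = 1
        · rw [h1, MulAut.one_apply] at h; exact h
        · have h2 : (e : MulAut J) x.1 ∈ Fx (e : MulAut J) := by rw [hsame _ e.2 h1]; exact h
          have h3 : (e : MulAut J) x.1 = x.1 := (e : MulAut J).injective h2
          rw [h3] at h; exact h)⟩
      one_smul := fun x => Subtype.ext rfl
      mul_smul := fun e f x => Subtype.ext rfl }
  have hdvd : Nat.card E ∣ Nat.card {x : J // x ∉ Fx e₀} := by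
    refine Cfsg.Agent.Involutions.TICount.card_dvd_of_free fun e x h => ?_
    by_contra h1
    have h1' : (e : MulAut J) ≠ 1 := fun h2 => h1 (Subtype.ext h2)
    exact x.2 ((hsame _ e.2 h1').le (show (e : MulAut J) x.1 = x.1 from congrArg Subtype.val h))
  have hsum : Nat.card {x : J // x ∈ Fx e₀} + Nat.card {x : J // x ∉ Fx e₀} = Nat.card J := by
    rw [← Nat.card_sum]
    exact Nat.card_congr (Equiv.sumCompl _)
  rw [hJ, show Nat.card {x : J // x ∈ Fx e₀} = 5 ^ (k - 2) from hcard e₀ he₀ hne₀] at hsum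
  rw [hE] at hdvd
  rcases hk with rfl | rfl <;> norm_num at hsum <;> omega

end Cfsg.Agent.McLType.OddTools
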