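import Cfsg.Agent.Lib.McLType.Seven
import Cfsg.Agent.Lib.McLType.OddTools
import Cfsg.Agent.Lib.McLType.NoFiftyFive
import Cfsg.Agent.GroupStructure3.McLOut.Orbit
import Cfsg.Agent.S0205

/-!
Subgroups of odd order of the McLaughlin group: the order is at most 7425, and at most 2475 in the
abelian case.
-/

set_option autoImplicit false
set_option maxRecDepth 10000

namespace Cfsg.Agent.McLType

open Cfsg
open Cfsg.Agent.GroupStructure3.McLOut
open Cfsg.Agent.LeechAut

local notation "GG" => McL.G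

theorem dvd_odd {n a b : ℕ} (hn : Odd n) (h : n ∣ 2 ^ a * b) : n ∣ b :=
  ((Nat.coprime_two_right.2 hn).pow_right a).dvd_of_dvd_mul_left h

theorem card_odd_dvd {H : Subgroup GG} (h : Odd (Nat.card H)) : Nat.card H ∣ 7016625 :=
  dvd_odd (a := 7) h (by
    rw [show 2 ^ 7 * 7016625 = 898128000 by norm_num, ← McL.card_G]
    exact H.card_subgroup_dvd_card)

/-- A subgroup fixing the three vertices of a triangle. -/
theorem card_fix_triangle {H : Subgroup GG} {a b c : A} (hab : Adj a b) (hac : Adj a c) (hbc : Adj b c)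
    (hfix : ∀ h ∈ H, h • a = a ∧ h • b = b ∧ h • c = c) : Nat.card H ∣ 1944 := by
  obtain ⟨σ, hσ, hx, hy, hz⟩ := exists_to_base card_Au ((adjB_num a b).2 hab) ((adjB_num a c).2 hac)
    ((adjB_num b c).2 hbc)
  have hle : H.map ((MulAut.conj σ).toMonoidHom.comp toPerm) ≤ K 3 := by
    rintro _ ⟨g, hg, rfl⟩
    show σ * toPerm g * σ⁻¹ ∈ K 3
    refine ⟨mul_mem (mul_mem hσ (toPerm_mem g)) (inv_mem hσ), fun j hj h => ?_⟩
    have e : (⟨base j, h⟩ : Fin 275) = bp j := Fin.ext (Nat.mod_eq_of_lt h).symm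
    obtain ⟨p1, p2, p3⟩ := hfix g hg
    rw [e]
    interval_cases j
    all_goals first
      | rw [← hx, Equiv.Perm.mul_apply, Equiv.Perm.mul_apply, Equiv.Perm.coe_inv, Equiv.symm_apply_apply, toPerm_num, p1]
      | rw [← hy, Equiv.Perm.mul_apply, Equiv.Perm.mul_apply, Equiv.Perm.coe_inv, Equiv.symm_apply_apply, toPerm_num, p2]
      | rw [← hz, Equiv.Perm.mul_apply, Equiv.Perm.mul_apply, Equiv.Perm.coe_inv, Equiv.symm_apply_apply, toPerm_num, p3]
  have h := Subgroup.card_dvd_of_le hle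
  have hinj : Function.Injective ((MulAut.conj σ).toMonoidHom.comp toPerm) :=
    fun u v e => toPerm_injective ((MulAut.conj σ).injective e)
  rwa [Subgroup.card_map_of_injective hinj, card_K_three card_Au] at h

/-- A subgroup fixing two vertices. -/
theorem card_fix_pair {H : Subgroup GG} {a b : A} (hne : a ≠ b)
    (hfix : ∀ h ∈ H, h • a = a ∧ h • b = b) :
    (Adj a b ∧ Nat.card H ∣ 29160) ∨ (¬ Adj a b ∧ Nat.card H ∣ 20160) := by
  have hle : H ≤ MulAction.stabilizer GG a ⊓ MulAction.stabilizer GG b :=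
    fun h hh => ⟨(hfix h hh).1, (hfix h hh).2⟩
  rcases card_inf hne with ⟨ha, hc⟩ | ⟨ha, hc⟩
  · exact Or.inl ⟨ha, hc ▸ Subgroup.card_dvd_of_le hle⟩
  · exact Or.inr ⟨ha, hc ▸ Subgroup.card_dvd_of_le hle⟩

/-- The vertices fixed by a 3-subgroup of order at least 27. -/
theorem three_fix {Q : Subgroup GG} (hQ : IsPGroup 3 Q) (h27 : 27 ≤ Nat.card Q) {S : Set A}
    (hS : S = {y : A | ∀ q ∈ Q, q • y = y}) :
    (∀ a ∈ S, ∀ b ∈ S, a ≠ b → Adj a b) ∧ (S.ncard = 2 ∨ S.ncard = 5) := by
  subst hS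
  haveI : Fact (Nat.Prime 3) := ⟨Nat.prime_three⟩
  have hcl : ∀ a ∈ {y : A | ∀ q ∈ Q, q • y = y}, ∀ b ∈ {y : A | ∀ q ∈ Q, q • y = y}, a ≠ b → Adj a b := by
    intro a ha b hb hne
    rcases card_fix_pair (H := Q) hne (fun q hq => ⟨ha q hq, hb q hq⟩) with ⟨h, -⟩ | ⟨-, hd⟩
    · exact h
    · exfalso
      obtain ⟨k, hk⟩ := hQ.exists_card_eq
      rw [hk] at hd h27
      rcases Nat.lt_or_ge k 3 with h | h
      · interval_cases k <;> omega
      · have := (pow_dvd_pow 3 h).trans hd
        omega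
  refine ⟨hcl, ?_⟩
  have hle := clique_le hcl
  have hmod := hQ.card_modEq_card_fixedPoints A
  have e : Nat.card (MulAction.fixedPoints Q A) = {y : A | ∀ q ∈ Q, q • y = y}.ncard := by
    rw [Nat.card_coe_set_eq]
    exact congrArg Set.ncard (Set.ext fun y => ⟨fun h q hq => h ⟨q, hq⟩, fun h q => h q q.2⟩)
  rw [card_A, e] at hmod
  unfold Nat.ModEq at hmod
  omega

/-- An element of odd order leaving a set of two vertices invariant fixes both. -/
theorem fix_of_pair {g : GG} (hg : Odd (orderOf g)) {S : Set A} (hS : S.ncard = 2)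
    (hinv : ∀ y ∈ S, g • y ∈ S) {y : A} (hy : y ∈ S) : g • y = y := by
  by_contra hne
  obtain ⟨u, v, -, rfl⟩ := Set.ncard_eq_two.1 hS
  have h1 := hinv y hy
  have h2 := hinv _ h1
  have h3 : g • g • y = y := by
    have hne2 : g • g • y ≠ g • y := fun e => hne (MulAction.injective g e)
    simp only [Set.mem_insert_iff, Set.mem_singleton_iff] at hy h1 h2
    rcases hy with rfl | rfl <;> rcases h1 with e1 | e1 <;> rcases h2 with e2 | e2 <;>
      first
      | exact e2
      | exact absurd e1 hne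
      | exact absurd (e2.trans e1.symm) hne2
  obtain ⟨k, hk⟩ := OddTools.exists_sq_pow g hg
  refine hne ?_
  rw [← hk]
  exact MulAction.mem_stabilizer_iff.1 (pow_mem (show g ^ 2 ∈ MulAction.stabilizer GG y by
    rw [MulAction.mem_stabilizer_iff, pow_two, mul_smul, h3]) k)

/-- A subgroup of odd order normalising a 3-subgroup of order at least 27. -/
theorem three_normalizer {Q H : Subgroup GG} (hQ : IsPGroup 3 Q) (h27 : 27 ≤ Nat.card Q)
    (hH : Odd (Nat.card H)) (hnorm : ∀ h ∈ H, ∀ q ∈ Q, h⁻¹ * q * h ∈ Q) : Nat.card H ∣ 3645 := by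
  classical
  set S : Set A := {y | ∀ q ∈ Q, q • y = y} with hS
  obtain ⟨hcl, hsize⟩ := three_fix hQ h27 hS
  have hinv : ∀ h ∈ H, ∀ y ∈ S, h • y ∈ S := fun h hh y hy q hq => by
    have e := hy _ (hnorm h hh q hq)
    rw [mul_smul, mul_smul, inv_smul_eq_iff] at e
    exact e
  letI : MulAction H S :=
    { smul := fun h y => ⟨(h : GG) • y.1, hinv h h.2 y.1 y.2⟩
      one_smul := fun y => Subtype.ext (one_smul GG y.1)
      mul_smul := fun g h y => Subtype.ext (mul_smul (g : GG) (h : GG) y.1) }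
  let f : H →* Equiv.Perm S := MulAction.toPermHom H S
  have hmul : Nat.card f.ker * Nat.card f.range = Nat.card H := by
    rw [← Subgroup.index_ker, Subgroup.card_mul_index]
  obtain ⟨hok, hor⟩ := Nat.odd_mul.1 (hmul.symm ▸ hH)
  have hr : Nat.card f.range ∣ (S.ncard).factorial := by
    rw [← Nat.card_coe_set_eq, ← Nat.card_perm]
    exact f.range.card_subgroup_dvd_card
  have hk : Nat.card (f.ker.map H.subtype) = Nat.card f.ker :=
    Subgroup.card_map_of_injective H.subtype_injective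
  have hfix : ∀ h ∈ f.ker.map H.subtype, ∀ y ∈ S, h • y = y := by
    rintro _ ⟨g, hg, rfl⟩ y hy
    exact congrArg Subtype.val (DFunLike.congr_fun (MonoidHom.mem_ker.1 hg) (⟨y, hy⟩ : S))
  rcases hsize with h2 | h5
  · obtain ⟨a, b, hne, hab⟩ := Set.ncard_eq_two.1 h2
    have ha : a ∈ S := hab ▸ Or.inl rfl
    have hb : b ∈ S := hab ▸ Or.inr rfl
    rcases card_fix_pair (H := f.ker.map H.subtype) hne (fun h hh => ⟨hfix h hh a ha, hfix h hh b hb⟩)
      with ⟨-, hd⟩ | ⟨hn, -⟩
    · rw [hk] at hd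
      have h1 : Nat.card f.range ∣ 1 := dvd_odd (a := 1) hor (by rw [h2] at hr; simpa using hr)
      rw [← hmul, Nat.dvd_one.1 h1, mul_one]
      exact dvd_odd (a := 3) hok (by simpa using hd)
    · exact absurd (hcl a ha b hb hne) hn
  · obtain ⟨a, b, c, ha, hb, hc, hab, hac, hbc⟩ := (Set.two_lt_ncard_iff (Set.toFinite S)).1 (by omega)
    have hd := card_fix_triangle (H := f.ker.map H.subtype) (hcl a ha b hb hab) (hcl a ha c hc hac)
      (hcl b hb c hc hbc) (fun h hh => ⟨hfix h hh a ha, hfix h hh b hb, hfix h hh c hc⟩)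
    rw [hk] at hd
    have h1 : Nat.card f.range ∣ 15 := dvd_odd (a := 3) hor (by rw [h5] at hr; simpa [Nat.factorial] using hr)
    have h3 : Nat.card f.ker ∣ 243 := dvd_odd (a := 3) hok (by simpa using hd)
    rw [← hmul]
    exact mul_dvd_mul h3 h1

/-- An abelian subgroup of order 3645 does not exist. -/
theorem false_of_commute {Q : Subgroup GG} (hQ : Nat.card Q = 729) {x : GG} (hx : orderOf x = 5)
    (hcomm : ∀ q ∈ Q, Commute x q) : False := by
  haveI : Fact (Nat.Prime 3) := ⟨Nat.prime_three⟩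
  haveI : Fact (Nat.Prime 5) := ⟨by norm_num⟩
  have hP : IsPGroup 3 Q := IsPGroup.of_card (n := 6) (by rw [hQ]; norm_num)
  set S : Set A := {y | ∀ q ∈ Q, q • y = y} with hS
  obtain ⟨hcl, hsize⟩ := three_fix hP (by omega) hS
  have hS2 : S.ncard = 2 := hsize.resolve_right fun h5 => by
    obtain ⟨a, b, c, ha, hb, hc, hab, hac, hbc⟩ := (Set.two_lt_ncard_iff (Set.toFinite S)).1 (by omega)
    have := card_fix_triangle (H := Q) (hcl a ha b hb hab) (hcl a ha c hc hac) (hcl b hb c hc hbc)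
      fun q hq => ⟨ha q hq, hb q hq, hc q hq⟩
    rw [hQ] at this
    norm_num at this
  obtain ⟨y, z, hyz, hSe⟩ := Set.ncard_eq_two.1 hS2
  have hy : y ∈ S := hSe ▸ Or.inl rfl
  have hz : z ∈ S := hSe ▸ Or.inr rfl
  have hinv : ∀ v ∈ S, x • v ∈ S := fun v hv q hq => by
    rw [← mul_smul, ← (hcomm q hq).eq, mul_smul, hv q hq]
  have hxy := fix_of_pair (by rw [hx]; decide) hS2 hinv hy
  have hxz := fix_of_pair (by rw [hx]; decide) hS2 hinv hz
  have hadj := hcl y hy z hz hyz
  obtain ⟨w, hw1, hw2⟩ : {w | Adj y w ∧ Adj z w}.Nonempty :=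
    (Set.ncard_pos (Set.toFinite _)).1 (by rw [card_common hadj]; norm_num)
  -- the element does not fix a common neighbour
  have hxw : x • w ≠ w := fun hxw => by
    have := card_fix_triangle (H := Subgroup.zpowers x) hadj hw1 hw2 fun g hg => by
      refine ⟨?_, ?_, ?_⟩
      · exact (Subgroup.zpowers_le (H := MulAction.stabilizer GG y)).2 hxy hg
      · exact (Subgroup.zpowers_le (H := MulAction.stabilizer GG z)).2 hxz hg
      · exact (Subgroup.zpowers_le (H := MulAction.stabilizer GG w)).2 hxw hg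
    rw [Nat.card_zpowers, hx] at this
    norm_num at this
  -- its stabiliser
  set R : Subgroup GG := Q ⊓ MulAction.stabilizer GG w
  have hR : IsPGroup 3 R := hP.to_le inf_le_left
  have h27 : 27 ≤ Nat.card R := by
    have h := Subgroup.index_mul_card (MulAction.stabilizer Q w)
    rw [MulAction.index_stabilizer, hQ] at h
    have horb : (MulAction.orbit Q w).ncard ≤ 30 := by
      rw [← card_common hadj]
      refine Set.ncard_le_ncard ?_ (Set.toFinite _)
      rintro _ ⟨q, rfl⟩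
      constructor
      · have := (adj_smul (q : GG) y w).2 hw1
        rw [hy q q.2] at this
        exact this
      · have := (adj_smul (q : GG) z w).2 hw2
        rw [hz q q.2] at this
        exact this
    have hcard : Nat.card R = Nat.card (MulAction.stabilizer Q w) :=
      Nat.card_congr ⟨fun g => ⟨⟨g.1, g.2.1⟩, g.2.2⟩, fun g => ⟨g.1.1, g.1.2, g.2⟩, fun _ => rfl, fun _ => rfl⟩
    obtain ⟨k, hk⟩ := hR.exists_card_eq
    rw [← hcard, hk] at h
    rw [hk]
    by_contra hlt
    have hk2 : k < 3 := by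
      by_contra hge
      have := Nat.pow_le_pow_right (show 0 < 3 by norm_num) (show 3 ≤ k by omega)
      omega
    interval_cases k <;> omega
  set S' : Set A := {v | ∀ r ∈ R, r • v = v} with hS'
  obtain ⟨-, hsize'⟩ := three_fix hR h27 hS'
  have hy' : y ∈ S' := fun r hr => hy r hr.1
  have hz' : z ∈ S' := fun r hr => hz r hr.1
  have hsub : MulAction.orbit (Subgroup.zpowers x) w ⊆ S' \ {y, z} := by
    rintro _ ⟨⟨g, hg⟩, rfl⟩
    refine ⟨fun r hr => ?_, ?_⟩
    · show r • g • w = g • w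
      obtain ⟨k, rfl⟩ := hg
      rw [← mul_smul, ← ((hcomm r hr.1).zpow_left k).eq, mul_smul, MulAction.mem_stabilizer_iff.1 hr.2]
    · have hgy : g • y = y := (Subgroup.zpowers_le (H := MulAction.stabilizer GG y)).2 hxy hg
      have hgz : g • z = z := (Subgroup.zpowers_le (H := MulAction.stabilizer GG z)).2 hxz hg
      rintro (e | e)
      · exact adj_ne hw1 (MulAction.injective g (show g • y = g • w from hgy.trans e.symm))
      · exact adj_ne hw2 (MulAction.injective g (show g • z = g • w from hgz.trans e.symm))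
  have hle := Set.ncard_le_ncard hsub (Set.toFinite _)
  rw [Set.ncard_sdiff (Set.insert_subset hy' (Set.singleton_subset_iff.2 hz')) (Set.toFinite _),
    Set.ncard_pair hyz] at hle
  have hd : (MulAction.orbit (Subgroup.zpowers x) w).ncard ∣ 5 := by
    rw [← MulAction.index_stabilizer, ← hx, ← Nat.card_zpowers]
    exact Subgroup.index_dvd_card _
  rcases (Fact.out : Nat.Prime 5).eq_one_or_self_of_dvd _ hd with h1 | h1
  · obtain ⟨v, hv⟩ := Set.ncard_eq_one.1 h1
    refine hxw ?_
    have m1 : (⟨x, Subgroup.mem_zpowers x⟩ : Subgroup.zpowers x) • w ∈ ({v} : Set A) := hv ▸ MulAction.mem_orbit w _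
    have m2 : w ∈ ({v} : Set A) := hv ▸ MulAction.mem_orbit_self w
    exact (Set.mem_singleton_iff.1 m1).trans (Set.mem_singleton_iff.1 m2).symm
  · omega

/-- The two fixed vertices of an element of order seven are fixed by its normaliser of odd order. -/
theorem card_of_seven {H : Subgroup GG} (hH : Odd (Nat.card H)) {u : GG} (hu : orderOf u = 7)
    (hnorm : ∀ h ∈ H, h⁻¹ * u * h ∈ Subgroup.zpowers u) : ∃ a b : A, a ≠ b ∧
      (∀ h ∈ H, h • a = a ∧ h • b = b) ∧ u • a = a ∧ u • b = b := by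
  have hS := seven_fix hu
  obtain ⟨a, b, hne, hab⟩ := Set.ncard_eq_two.1 hS
  have ha : a ∈ {y : A | u • y = y} := hab ▸ Or.inl rfl
  have hb : b ∈ {y : A | u • y = y} := hab ▸ Or.inr rfl
  have hinv : ∀ h ∈ H, ∀ y ∈ {y : A | u • y = y}, h • y ∈ {y : A | u • y = y} := fun h hh y hy => by
    have e : (h⁻¹ * u * h) • y = y :=
      (Subgroup.zpowers_le (H := MulAction.stabilizer GG y)).2 hy (hnorm h hh)
    rw [mul_smul, mul_smul, inv_smul_eq_iff] at e
    exact e
  have hodd : ∀ h ∈ H, Odd (orderOf h) := fun h hh => by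
    obtain ⟨c, hc⟩ := Subgroup.orderOf_dvd_natCard H hh
    exact (Nat.odd_mul.1 (hc ▸ hH)).1
  exact ⟨a, b, hne, fun h hh => ⟨fix_of_pair (hodd h hh) hS (hinv h hh) ha,
    fix_of_pair (hodd h hh) hS (hinv h hh) hb⟩, ha, hb⟩

end Cfsg.Agent.McLType
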