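import Cfsg.Agent.Lib.McLType.OddBound

/-!
The bound for the order of a subgroup of odd order of the McLaughlin group.
-/

set_option autoImplicit false
set_option maxRecDepth 10000

namespace Cfsg.Agent.McLType

open Cfsg
open Cfsg.Agent.GroupStructure3.McLOut
open Cfsg.Agent.LeechAut

local notation "GG" => McL.G

section

variable {D : Subgroup GG}

theorem orderOf_coe_D (x : D) : orderOf (x : GG) = orderOf x := Subgroup.orderOf_coe x

theorem card_map_D (K : Subgroup D) : Nat.card (K.map D.subtype) = Nat.card K :=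
  Subgroup.card_map_of_injective D.subtype_injective

theorem odd_of_le {K : Subgroup D} (hD : Odd (Nat.card D)) : Odd (Nat.card K) := by
  obtain ⟨c, hc⟩ := K.card_subgroup_dvd_card
  exact (Nat.odd_mul.1 (hc ▸ hD)).1

/-- A core for the prime seven or eleven has prime order. -/
theorem card_core_prime (hD : Odd (Nat.card D)) {p : ℕ} [Fact p.Prime] (hne : pCore p D ≠ ⊥)
    (h2 : ¬ p ^ 2 ∣ 7016625) : Nat.card (pCore p D) = p := by
  obtain ⟨k, hk⟩ := (Cores.pCore_isPGroup (G := D) p).exists_card_eq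
  rcases Nat.lt_or_ge k 2 with h | h
  · interval_cases k
    · exact absurd (Subgroup.eq_bot_of_card_eq _ (by rw [hk, pow_zero])) hne
    · rw [hk, pow_one]
  · exact absurd (((pow_dvd_pow p h).trans (hk ▸ (pCore p D).card_subgroup_dvd_card)).trans (card_odd_dvd hD)) h2

theorem not_dvd_five_of_eleven {g : D} (hg : orderOf g = 11) {C : Subgroup D}
    (hC : ∀ c ∈ C, Commute c g) : ¬ 5 ∣ Nat.card C := by
  intro h5
  haveI : Fact (Nat.Prime 5) := ⟨by norm_num⟩
  obtain ⟨u, hu⟩ := exists_prime_orderOf_dvd_card' 5 h5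
  have h : orderOf ((u : D) * g) = 55 := by
    rw [(hC u u.2).orderOf_mul_eq_mul_orderOf_of_coprime (by rw [Subgroup.orderOf_coe, hu, hg]; norm_num),
      Subgroup.orderOf_coe, hu, hg]
  exact orderOf_ne_55 (((u : D) * g : D) : GG) ((orderOf_coe_D _).trans h)

theorem not_dvd_seven_of_eleven {g : D} (hg : orderOf g = 11) {C : Subgroup D}
    (hC : ∀ c ∈ C, Commute c g) : ¬ 7 ∣ Nat.card C := by
  intro h7
  haveI : Fact (Nat.Prime 7) := ⟨by norm_num⟩
  obtain ⟨u, hu⟩ := exists_prime_orderOf_dvd_card' 7 h7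
  set v : GG := ((u : D) : GG)
  have hv : orderOf v = 7 := by rw [orderOf_coe_D, Subgroup.orderOf_coe, hu]
  have hgc : Nat.card (Subgroup.zpowers (g : GG)) = 11 := by rw [Nat.card_zpowers, orderOf_coe_D, hg]
  obtain ⟨a, b, hne, hfix, -, -⟩ := card_of_seven (H := Subgroup.zpowers (g : GG)) (by rw [hgc]; decide) hv
    (fun h hh => by
      obtain ⟨k, rfl⟩ := hh
      have e : Commute v ((g : GG) ^ k) :=
        (show Commute v (g : GG) from congrArg Subtype.val (hC u u.2).eq).zpow_right k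
      rw [mul_assoc, e.eq, inv_mul_cancel_left]
      exact Subgroup.mem_zpowers v)
  rcases card_fix_pair hne hfix with ⟨-, hd⟩ | ⟨-, hd⟩ <;> rw [hgc] at hd <;> norm_num at hd

theorem not_dvd_27_of_eleven {g : D} (hg : orderOf g = 11) {C : Subgroup D}
    (hC : ∀ c ∈ C, Commute c g) : ¬ 27 ∣ Nat.card C := by
  intro h27
  haveI : Fact (Nat.Prime 3) := ⟨Nat.prime_three⟩
  obtain ⟨K, hK⟩ := Sylow.exists_subgroup_card_pow_prime (G := C) 3 (n := 3) (by simpa using h27)
  have hc : Nat.card ((K.map C.subtype).map D.subtype) = 3 ^ 3 := by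
    rw [card_map_D, Subgroup.card_map_of_injective C.subtype_injective, hK]
  have hgc : Nat.card (Subgroup.zpowers (g : GG)) = 11 := by rw [Nat.card_zpowers, orderOf_coe_D, hg]
  have h := three_normalizer (H := Subgroup.zpowers (g : GG)) (IsPGroup.of_card hc) (by rw [hc]; norm_num)
    (by rw [hgc]; decide) (fun h hh q hq => by
      obtain ⟨_, ⟨c, hc', rfl⟩, rfl⟩ := hq
      obtain ⟨k, rfl⟩ := hh
      have e : Commute ((c : D) : GG) ((g : GG) ^ k) :=
        (show Commute ((c : D) : GG) (g : GG) from congrArg Subtype.val (hC c c.2).eq).zpow_right k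
      show ((g : GG) ^ k)⁻¹ * ((c : D) : GG) * (g : GG) ^ k ∈ _
      rw [mul_assoc, e.eq, inv_mul_cancel_left]
      exact ⟨(c : D), ⟨c, hc', rfl⟩, rfl⟩)
  rw [hgc] at h
  norm_num at h

theorem card_le_eleven (hD : Odd (Nat.card D)) [Fact (Nat.Prime 11)] (hne : pCore 11 D ≠ ⊥) :
    Nat.card D ≤ 495 := by
  set N := pCore 11 D
  have hN : Nat.card N = 11 := card_core_prime hD hne (by norm_num)
  obtain ⟨g, hg⟩ := exists_prime_orderOf_dvd_card' (G := N) 11 (by rw [hN])
  let f : D →* MulAut N := MulAut.conjNormal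
  haveI : IsCyclic N := isCyclic_of_prime_card hN
  have hmul : Nat.card f.ker * Nat.card f.range = Nat.card D := by
    rw [← Subgroup.index_ker, Subgroup.card_mul_index]
  obtain ⟨hok, hor⟩ := Nat.odd_mul.1 (hmul.symm ▸ hD)
  have hr : Nat.card f.range ∣ 5 := dvd_odd (a := 1) hor (by
    rw [show 2 ^ 1 * 5 = Nat.totient 11 by rw [Nat.totient_prime Fact.out]; norm_num, ← hN, ← IsCyclic.card_mulAut N]
    exact f.range.card_subgroup_dvd_card)
  have hC : ∀ c ∈ f.ker, Commute c (g : D) := fun c hc => by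
    have h := congrArg Subtype.val (DFunLike.congr_fun (MonoidHom.mem_ker.1 hc) g)
    rw [MulAut.conjNormal_apply, MulAut.one_apply] at h
    exact mul_inv_eq_iff_eq_mul.1 h
  have hg' : orderOf (g : D) = 11 := by rw [Subgroup.orderOf_coe, hg]
  have h5 := not_dvd_five_of_eleven hg' hC
  have h7 := not_dvd_seven_of_eleven hg' hC
  have h27 := not_dvd_27_of_eleven hg' hC
  have hdiv : Nat.card f.ker ∣ 3 ^ 6 * 11 := by
    have h : Nat.card f.ker ∣ 5 ^ 3 * (7 * (3 ^ 6 * 11)) := by
      have e := f.ker.card_subgroup_dvd_card.trans (card_odd_dvd hD)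
      simpa using e
    have h' := ((((show Nat.Prime 5 by norm_num).coprime_iff_not_dvd.2 h5).symm).pow_right 3).dvd_of_dvd_mul_left h
    exact (((show Nat.Prime 7 by norm_num).coprime_iff_not_dvd.2 h7).symm).dvd_of_dvd_mul_left h'
  obtain ⟨a, b, ha, hb, hab⟩ := Nat.dvd_mul.1 hdiv
  obtain ⟨i, -, rfl⟩ := (Nat.dvd_prime_pow Nat.prime_three).1 ha
  have hi : i ≤ 2 := by
    by_contra h
    exact h27 (hab ▸ dvd_mul_of_dvd_left (pow_dvd_pow 3 (show 3 ≤ i by omega)) b)
  have h99 : Nat.card f.ker ≤ 99 := by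
    rw [← hab]
    exact Nat.mul_le_mul (Nat.pow_le_pow_right (by norm_num) hi) (Nat.le_of_dvd (by norm_num) hb)
  rw [← hmul]
  exact Nat.mul_le_mul h99 (Nat.le_of_dvd (by norm_num) hr)

theorem card_le_seven (hD : Odd (Nat.card D)) [Fact (Nat.Prime 7)] (hne : pCore 7 D ≠ ⊥) :
    Nat.card D ≤ 315 := by
  set N := pCore 7 D
  have hN : Nat.card N = 7 := card_core_prime hD hne (by norm_num)
  obtain ⟨u, hu⟩ := exists_prime_orderOf_dvd_card' (G := N) 7 (by rw [hN])
  have hz : Subgroup.zpowers (u : D) = N := Subgroup.eq_of_le_of_card_ge (Subgroup.zpowers_le.2 u.2)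
    (by rw [hN, Nat.card_zpowers, Subgroup.orderOf_coe, hu])
  have hv : orderOf ((u : D) : GG) = 7 := by rw [orderOf_coe_D, Subgroup.orderOf_coe, hu]
  obtain ⟨a, b, hne', hfix, -, -⟩ := card_of_seven hD hv (fun h hh => by
    have hm : (⟨h, hh⟩ : D)⁻¹ * (u : D) * (⟨h, hh⟩ : D)⁻¹⁻¹ ∈ N :=
      (inferInstance : N.Normal).conj_mem _ u.2 _
    rw [inv_inv] at hm
    obtain ⟨k, hk⟩ := hz.ge hm
    exact ⟨k, by simpa using congrArg Subtype.val hk⟩)
  have h7 : 7 ∣ Nat.card D := hN ▸ N.card_subgroup_dvd_card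
  rcases card_fix_pair hne' hfix with ⟨-, hd⟩ | ⟨-, hd⟩
  · exact absurd (h7.trans hd) (by norm_num)
  · exact Nat.le_of_dvd (by norm_num) (dvd_odd (a := 6) hD (by simpa using hd))

/-- Large cores for the prime three. -/
theorem card_le_three (hD : Odd (Nat.card D)) [Fact (Nat.Prime 3)] (h27 : 27 ≤ Nat.card (pCore 3 D)) :
    Nat.card D ≤ 7425 ∧ ((∀ a b : D, a * b = b * a) → Nat.card D ≤ 2475) := by
  have hd : Nat.card D ∣ 3645 := by
    refine three_normalizer (Q := (pCore 3 D).map D.subtype) ((Cores.pCore_isPGroup 3).map _)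
      (by rw [card_map_D]; exact h27) hD fun h hh q hq => ?_
    obtain ⟨q, hq, rfl⟩ := hq
    refine ⟨(⟨h, hh⟩ : D)⁻¹ * q * (⟨h, hh⟩ : D)⁻¹⁻¹, (inferInstance : (pCore 3 D).Normal).conj_mem _ hq _, ?_⟩
    simp
  refine ⟨(Nat.le_of_dvd (by norm_num) hd).trans (by norm_num), fun hab => ?_⟩
  by_contra hlt
  obtain ⟨m, hm⟩ := hd
  have hm1 : m = 1 := by
    rcases m with _ | _ | m
    · omega
    · rfl
    · nlinarith
  rw [hm1, mul_one] at hm
  haveI : Fact (Nat.Prime 5) := ⟨by norm_num⟩
  obtain ⟨K, hK⟩ := Sylow.exists_subgroup_card_pow_prime (G := D) 3 (n := 6) (by rw [← hm]; norm_num)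
  obtain ⟨x, hx⟩ := exists_prime_orderOf_dvd_card' (G := D) 5 (by rw [← hm]; norm_num)
  refine false_of_commute (Q := K.map D.subtype) (by rw [card_map_D, hK]; norm_num)
    ((orderOf_coe_D x).trans hx) fun q hq => ?_
  obtain ⟨q, -, rfl⟩ := hq
  exact congrArg Subtype.val (hab x q)

/-- The case where only the cores for three and five are not trivial. -/
theorem card_le_small (hD : Odd (Nat.card D)) [Fact (Nat.Prime 3)] [Fact (Nat.Prime 5)]
    (h3 : Nat.card (pCore 3 D) < 27) (h7 : pCore 7 D = ⊥) (h11 : pCore 11 D = ⊥) :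
    Nat.card D ≤ 7425 ∧ ((∀ a b : D, a * b = b * a) → Nat.card D ≤ 2475) := by
  obtain ⟨i, hi⟩ := (Cores.pCore_isPGroup (G := D) 3).exists_card_eq
  have hi2 : i ≤ 2 := by
    by_contra h
    rw [hi] at h3
    have := Nat.pow_le_pow_right (show 0 < 3 by norm_num) (show 3 ≤ i by omega)
    omega
  obtain ⟨k, hk⟩ := (Cores.pCore_isPGroup (G := D) 5).exists_card_eq
  have hk3 : k ≤ 3 := by
    by_contra h
    have e := ((pow_dvd_pow 5 (show 4 ≤ k by omega)).trans (hk ▸ (pCore 5 D).card_subgroup_dvd_card)).trans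
      (card_odd_dvd hD)
    norm_num at e
  haveI : Group.IsSolvable D := Cfsg.Agent.S0205.result hD
  have hF : fittingSubgroup D ≤ pCore 3 D ⊔ pCore 5 D := by
    rw [Cores.fittingSubgroup_eq_iSup]
    refine iSup_le fun ⟨p, hp⟩ => ?_
    obtain ⟨hpp, hpd, -⟩ := Nat.mem_primeFactors.1 hp
    have hd : p ∣ 3 ^ 6 * 5 ^ 3 * 7 * 11 := by simpa using hpd.trans (card_odd_dvd hD)
    rcases (hpp.dvd_mul).1 hd with hd | h
    · rcases (hpp.dvd_mul).1 hd with hd | h
      · rcases (hpp.dvd_mul).1 hd with h | h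
        · obtain rfl : p = 3 := (Nat.prime_dvd_prime_iff_eq hpp Nat.prime_three).1 (hpp.dvd_of_dvd_pow h)
          exact le_sup_left
        · obtain rfl : p = 5 := (Nat.prime_dvd_prime_iff_eq hpp (by norm_num)).1 (hpp.dvd_of_dvd_pow h)
          exact le_sup_right
      · obtain rfl : p = 7 := (Nat.prime_dvd_prime_iff_eq hpp (by norm_num)).1 h
        exact h7.le.trans bot_le
    · obtain rfl : p = 11 := (Nat.prime_dvd_prime_iff_eq hpp (by norm_num)).1 h
      exact h11.le.trans bot_le
  have hcardF : Nat.card (fittingSubgroup D) ∣ 3 ^ i * 5 ^ k := by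
    rw [← hi, ← hk]
    exact (Subgroup.card_dvd_of_le hF).trans (Cores.card_sup_dvd_mul _ _)
  -- what centralises both cores is in the Fitting subgroup
  have hmem : ∀ g : D, (∀ n ∈ pCore 3 D, Commute g n) → (∀ n ∈ pCore 5 D, Commute g n) →
      g ∈ fittingSubgroup D := fun g e3 e5 => by
    refine Cores.centralizer_fittingSubgroup_le (Subgroup.mem_centralizer_iff.2 fun h hh => ?_)
    have hle : pCore 3 D ⊔ pCore 5 D ≤ Subgroup.centralizer ({g} : Set D) :=
      sup_le (fun n hn => Subgroup.mem_centralizer_singleton_iff.2 (e3 n hn).eq.symm)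
        (fun n hn => Subgroup.mem_centralizer_singleton_iff.2 (e5 n hn).eq.symm)
    exact Subgroup.mem_centralizer_singleton_iff.1 (hle (hF hh))
  have hbig : ∀ p : ℕ, p.Prime → (p = 7 ∨ p = 11) → ¬ p ∣ Nat.card D := by
    intro p hp hp' hd
    haveI := Fact.mk hp
    obtain ⟨g, hg⟩ := exists_prime_orderOf_dvd_card' (G := D) p hd
    have hgp : IsPGroup p (Subgroup.zpowers g) := IsPGroup.of_card (n := 1) (by rw [Nat.card_zpowers, hg, pow_one])
    have h := hmem g
      (OddTools.centralizes hp Nat.prime_three (by omega) _ hi (fun d h1 h2 => by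
        have hd2 : d ≤ 2 := h2.trans hi2
        rcases hp' with rfl | rfl <;> interval_cases d <;> first | omega | norm_num) hgp)
      (OddTools.centralizes hp (by norm_num) (by omega) _ hk (fun d h1 h2 => by
        have hd2 : d ≤ 3 := h2.trans hk3
        rcases hp' with rfl | rfl <;> interval_cases d <;> first | omega | norm_num) hgp)
    have h2 := ((hg ▸ Subgroup.orderOf_dvd_natCard _ h) : p ∣ _).trans hcardF
    rcases hp.dvd_mul.1 h2 with h | h
    · have := (Nat.prime_dvd_prime_iff_eq hp Nat.prime_three).1 (hp.dvd_of_dvd_pow h)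
      omega
    · have := (Nat.prime_dvd_prime_iff_eq hp (by norm_num)).1 (hp.dvd_of_dvd_pow h)
      omega
  have hdiv : Nat.card D ∣ 3 ^ 6 * 5 ^ 3 := by
    have h : Nat.card D ∣ 7 * (11 * (3 ^ 6 * 5 ^ 3)) := by simpa using card_odd_dvd hD
    have hc7 := ((show Nat.Prime 7 by norm_num).coprime_iff_not_dvd.2 (hbig 7 (by norm_num) (Or.inl rfl))).symm
    have hc11 := ((show Nat.Prime 11 by norm_num).coprime_iff_not_dvd.2 (hbig 11 (by norm_num) (Or.inr rfl))).symm
    exact hc11.dvd_of_dvd_mul_left (hc7.dvd_of_dvd_mul_left h)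
  obtain ⟨x, y, hx, hy, hxy⟩ := Nat.dvd_mul.1 hdiv
  obtain ⟨a, ha, rfl⟩ := (Nat.dvd_prime_pow Nat.prime_three).1 hx
  obtain ⟨b, hb, rfl⟩ := (Nat.dvd_prime_pow (by norm_num : Nat.Prime 5)).1 hy
  refine ⟨?_, fun hab => ?_⟩
  · by_contra hlt
    have hab' : 4 ≤ a ∧ 2 ≤ b := by
      rw [← hxy] at hlt
      interval_cases a <;> interval_cases b <;> omega
    obtain ⟨ha4, hb2⟩ := hab'
    -- five-elements centralise the core for three
    have h53 : ∀ g : D, IsPGroup 5 (Subgroup.zpowers g) → ∀ n ∈ pCore 3 D, Commute g n := fun g hg =>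
      OddTools.centralizes (by norm_num) Nat.prime_three (by norm_num) _ hi
        (fun d h1 h2 => by have hd2 : d ≤ 2 := h2.trans hi2; interval_cases d <;> first | omega | norm_num) hg
    obtain ⟨R, hR⟩ := Sylow.exists_subgroup_card_pow_prime (G := D) 5 (n := 2)
      (hxy ▸ dvd_mul_of_dvd_right (pow_dvd_pow 5 hb2) _)
    rcases Nat.lt_or_ge k 2 with hk2 | hk2
    · have hRF : R ≤ fittingSubgroup D := fun g hg => by
        have hgp : IsPGroup 5 (Subgroup.zpowers g) := (IsPGroup.of_card hR).to_le (Subgroup.zpowers_le.2 hg)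
        refine hmem g (h53 g hgp) (OddTools.centralizes_self (p := 5) _ ?_ hgp)
        rw [hk]; interval_cases k <;> norm_num
      have h := (hR ▸ Subgroup.card_dvd_of_le hRF).trans hcardF
      interval_cases k <;> interval_cases i <;> norm_num at h
    · obtain ⟨Q, hQ⟩ := Sylow.exists_subgroup_card_pow_prime (G := D) 3 (n := 4)
        (hxy ▸ dvd_mul_of_dvd_left (pow_dvd_pow 3 ha4) _)
      let f : Q →* MulAut (pCore 5 D) := MulAut.conjNormal.comp Q.subtype
      have hmul : Nat.card f.ker * Nat.card f.range = 3 ^ 4 := by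
        rw [← Subgroup.index_ker, Subgroup.card_mul_index, hQ]
      obtain ⟨c, hc, hker⟩ := (Nat.dvd_prime_pow Nat.prime_three).1 ⟨_, hmul.symm⟩
      have hc3 : 3 ≤ c := by
        by_contra hlt
        have h9 : 3 ^ 2 ∣ Nat.card f.range := by
          rw [hker] at hmul
          have e : Nat.card f.range = 3 ^ (4 - c) := by
            refine Nat.eq_of_mul_eq_mul_left (show 0 < 3 ^ c by positivity) ?_
            rw [hmul, ← pow_add, Nat.add_sub_cancel' hc]
          rw [e]
          exact pow_dvd_pow 3 (by omega)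
        obtain ⟨E, hE⟩ := Sylow.exists_subgroup_card_pow_prime (G := f.range) 3 h9
        exact OddTools.no_nine hk (by omega) (E.map f.range.subtype)
          (by rw [Subgroup.card_map_of_injective f.range.subtype_injective, hE]; norm_num)
      have hKc : Nat.card ((f.ker.map Q.subtype).map D.subtype) = 3 ^ c := by
        rw [card_map_D, Subgroup.card_map_of_injective Q.subtype_injective, hker]
      have h := three_normalizer (H := (pCore 5 D).map D.subtype) (IsPGroup.of_card hKc)
        (by rw [hKc]; exact le_of_eq_of_le (by norm_num) (Nat.pow_le_pow_right (show 0 < 3 by norm_num) hc3))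
        (by rw [card_map_D]; exact odd_of_le hD) (fun j hj q hq => by
          obtain ⟨j, hj', rfl⟩ := hj
          obtain ⟨_, ⟨q, hqk, rfl⟩, rfl⟩ := hq
          have e := congrArg Subtype.val (DFunLike.congr_fun (MonoidHom.mem_ker.1 hqk) (⟨j, hj'⟩ : pCore 5 D))
          rw [show f q = MulAut.conjNormal (q : D) from rfl, MulAut.conjNormal_apply, MulAut.one_apply] at e
          have e' : (q : D) * j = j * q := mul_inv_eq_iff_eq_mul.1 e
          refine ⟨(q : D), ⟨q, hqk, rfl⟩, ?_⟩
          rw [← map_inv, ← map_mul, ← map_mul]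
          refine congrArg D.subtype ?_
          show (q : D) = j⁻¹ * (q : D) * j
          rw [mul_assoc, e', inv_mul_cancel_left])
      rw [card_map_D, hk] at h
      have := (pow_dvd_pow 5 hk2).trans h
      norm_num at this
  · have ha2 : a ≤ 2 := by
      by_contra h
      obtain ⟨K, hK⟩ := Sylow.exists_subgroup_card_pow_prime (G := D) 3 (n := 3)
        (hxy ▸ dvd_mul_of_dvd_left (pow_dvd_pow 3 (show 3 ≤ a by omega)) _)
      haveI : K.Normal := ⟨fun n hn g => by rw [hab g n, mul_inv_cancel_right]; exact hn⟩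
      have e := Subgroup.card_dvd_of_le (Cores.le_pCore (IsPGroup.of_card hK) : K ≤ pCore 3 D)
      rw [hK, hi, Nat.pow_dvd_pow_iff_le_right (by norm_num)] at e
      omega
    rw [← hxy]
    exact (Nat.mul_le_mul (Nat.pow_le_pow_right (by norm_num) ha2)
      (Nat.pow_le_pow_right (by norm_num) hb)).trans (by norm_num)

/-- The order of a subgroup of odd order. -/
theorem card_bound (hD : Odd (Nat.card D)) :
    Nat.card D ≤ 7425 ∧ ((∀ a b : D, a * b = b * a) → Nat.card D ≤ 2475) := by
  haveI : Fact (Nat.Prime 3) := ⟨Nat.prime_three⟩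
  haveI : Fact (Nat.Prime 5) := ⟨by norm_num⟩
  haveI : Fact (Nat.Prime 7) := ⟨by norm_num⟩
  haveI : Fact (Nat.Prime 11) := ⟨by norm_num⟩
  rcases Nat.lt_or_ge (Nat.card (pCore 3 D)) 27 with h3 | h3
  · by_cases h11 : pCore 11 D = ⊥
    · by_cases h7 : pCore 7 D = ⊥
      · exact card_le_small hD h3 h7 h11
      · have := card_le_seven hD h7
        exact ⟨by omega, fun _ => by omega⟩
    · have := card_le_eleven hD h11
      exact ⟨by omega, fun _ => by omega⟩
  · exact card_le_three hD h3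

end

end Cfsg.Agent.McLType
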