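import Cfsg.Agent.GroupStructure3.McLInv.Main
import Cfsg.Agent.GroupStructure3.McLOut.Main

/-!
An outer automorphism of order two of the McLaughlin group fixing an element of order eleven.
-/

set_option autoImplicit false
set_option maxRecDepth 10000

noncomputable section

namespace Cfsg.Agent.McLType

open Cfsg Cfsg.Agent.GroupStructure3.McLInv
open Cfsg.Agent.GroupStructure3.McLOut (Au toPerm toPerm_injective)

local notation "P275" => Equiv.Perm (Fin 275)

/-- A graph automorphism outside the group. -/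
def outT : ℕ :=
  0x1311e3f6e1be1afa732cde8871c86d02aa77af602e55119c74f24a4310a1f74019430979bf0240381b6db201471b408f70142e000f56ab198c83490d9b0f770bdda7844934665e3616c96421a9d5bae139b293ee0200f14ebc301a94a5c3325a04c42505d267d421e44448851c8e06b578c9c6e223c10ec3e62a6d82643f3fdea8c64858c47c530eca291232f828fb5c81d301388bace8a012035ae7f84219f2b7081ea0a0a4428d709c2ba096cd8342a59c8d65ac81cb187065d4d358309be777f2fc0aa41b274a0c317350a4c0690a458533d884882a2c17532611c139ad1268aec40b455a5c34556f34060c7882a03ac64d3f60e4f1898d9e266aab86e416d17c50590e150b42d138d0308b11ad4ac497c0787a2b83114dc255d2782a95483c41883721c5141104a001600493d8cae97839dd808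

/-- The element of order eleven on the numbers. -/
def elevenW (i : ℕ) : ℕ := pT genA (pT genB i)

/-- The checks. -/
def outerOK : Bool :=
  per2 outT && (allB 275 fun i => pT outT (elevenW i) == elevenW (pT outT i)) &&
    (allB 275 fun i => (elevenW^[11]) i == i) && !(elevenW 0 == 0) &&
      !(pT outT (pT genA 0) == pT genA (pT outT 0))

theorem outer_ok : outerOK = true := by decide +kernel

theorem aut_outT : autOK outT = true := by decide +kernel

theorem TT_simple : IsSimpleGroup TT :=
  ((MonoidHom.ofInjective toPerm_injective : Cfsg.Agent.LeechAut.McL.G ≃* TT).isSimpleGroup_congr).1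
    Cfsg.Agent.LeechAut.McL.isSimple_G

theorem eleven_no_involution {g k : TT} (hg : orderOf g = 11) (hk : orderOf k = 2) (h : Commute k g) : False := by
  obtain ⟨c, hc⟩ := isConj_iff.1 (isConj_tG hk)
  have hmem : c⁻¹ * g * c ∈ Cn := by
    rw [Cn, Subgroup.mem_centralizer_singleton_iff]
    have e : tG = c⁻¹ * k * c := by rw [← hc]; group
    rw [e]
    calc c⁻¹ * g * c * (c⁻¹ * k * c) = c⁻¹ * (g * k) * c := by group
      _ = c⁻¹ * (k * g) * c := by rw [h.eq]
      _ = c⁻¹ * k * c * (c⁻¹ * g * c) := by group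
  have hcard : Nat.card Cn = 40320 := by
    have e := Subgroup.card_mul_index pi8.ker
    rw [Subgroup.index_ker, range_pi8, ← center_eq, card_center,
      nat_card_alternatingGroup, Nat.card_fin] at e
    rw [← e]
    rfl
  have hd := Subgroup.orderOf_dvd_natCard Cn hmem
  have ho : orderOf (c⁻¹ * g * c) = orderOf g := by
    rw [show c⁻¹ * g * c = MulAut.conj c⁻¹ g by simp, MulEquiv.orderOf_eq]
  rw [ho, hg, hcard] at hd
  norm_num at hd

theorem exists_outer : ∃ sigma : MulAut ↥Cfsg.Spor.McL, sigma * sigma = 1 ∧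
    sigma ∉ (MulAut.conj : ↥Cfsg.Spor.McL →* MulAut ↥Cfsg.Spor.McL).range ∧
    ∃ a : ↥Cfsg.Spor.McL, orderOf a = 11 ∧ sigma a = a := by
  have hok := outer_ok
  simp only [outerOK, Bool.and_eq_true, Bool.not_eq_true', beq_eq_false_iff_ne] at hok
  obtain ⟨⟨⟨⟨hper, hcomm⟩, h11⟩, hne0⟩, hneA⟩ := hok
  obtain ⟨s, hs, hs2⟩ := exists_per2 hper
  have hsAu : s ∈ Au := mem_of_autOK hs aut_outT
  obtain ⟨a, b, -, ha, ha', hb, hb', -⟩ := exists_basic
  have hab : ∀ i : Fin 275, (((a * b) i : Fin 275) : ℕ) = elevenW i := fun i => IsT.mul ha hb i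
  have hnorm : ∀ x : P275, x ∈ TT → s * x * s ∈ TT := fun x hx => by
    have hn : (TT.subgroupOf Au).Normal := Subgroup.normal_of_index_eq_two index_TT
    have e := hn.conj_mem ⟨x, TT_le hx⟩ hx ⟨s, hsAu⟩
    have hi : s⁻¹ = s := inv_eq_of_mul_eq_one_right (by rw [← pow_two, hs2])
    rw [Subgroup.mem_subgroupOf] at e
    simpa [hi] using e
  have hss : s * s = 1 := by rw [← pow_two, hs2]
  let Φ : MulAut TT :=
    { toFun := fun x => ⟨s * x.1 * s, hnorm x.1 x.2⟩
      invFun := fun x => ⟨s * x.1 * s, hnorm x.1 x.2⟩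
      left_inv := fun x => Subtype.ext (show s * (s * x.1 * s) * s = x.1 by simp only [mul_assoc, hss, mul_one]; rw [← mul_assoc, hss, one_mul])
      right_inv := fun x => Subtype.ext (show s * (s * x.1 * s) * s = x.1 by simp only [mul_assoc, hss, mul_one]; rw [← mul_assoc, hss, one_mul])
      map_mul' := fun x y => Subtype.ext (show s * (x.1 * y.1) * s = s * x.1 * s * (s * y.1 * s) by
        simp only [mul_assoc]; rw [← mul_assoc s s, hss, one_mul]) }
  have hΦ2 : ∀ x, Φ (Φ x) = x := fun x => Φ.left_inv x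
  obtain ⟨gT, hgv⟩ : ∃ gT : TT, (gT : P275) = a * b := ⟨⟨a * b, mul_mem ha' hb'⟩, rfl⟩
  have hg : orderOf gT = 11 := by
    haveI : Fact (Nat.Prime 11) := ⟨by norm_num⟩
    refine orderOf_eq_prime (Subtype.ext ?_) fun e => hne0 ?_
    · rw [Subgroup.coe_pow, hgv, Subgroup.coe_one]
      have key : ∀ (n : ℕ) (i : Fin 275), ((((a * b) ^ n) i : Fin 275) : ℕ) = (elevenW^[n]) i := by
        intro n
        induction n with
        | zero => intro i; rfl
        | succ n ih => intro i; rw [pow_succ', Equiv.Perm.mul_apply, hab, ih, Function.iterate_succ_apply']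
      exact Equiv.ext fun i => Fin.ext ((key 11 i).trans (beq_iff_eq.1 (allB_spec h11 i i.2)))
    · have h := hab ⟨0, by norm_num⟩
      rw [← hgv, e, Subgroup.coe_one, Equiv.Perm.one_apply] at h
      exact h.symm
  have hΦg : Φ gT = gT := by
    refine Subtype.ext ?_
    show s * (gT : P275) * s = gT
    have h : s * (gT : P275) = gT * s := Equiv.ext fun i => Fin.ext (by
      rw [hgv]
      show ((s ((a * b) i) : Fin 275) : ℕ) = (((a * b) (s i) : Fin 275) : ℕ)
      rw [hs, hab, hab, hs]
      exact beq_iff_eq.1 (allB_spec hcomm i i.2))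
    rw [h, mul_assoc, hss, mul_one]
  obtain ⟨E₀⟩ := Cfsg.Agent.GroupStructure3.McLOut.nonempty_equiv
  let E : Spor.McL ≃* TT := E₀.trans (MonoidHom.ofInjective toPerm_injective)
  refine ⟨(E.trans Φ).trans E.symm, ?_, ?_, E.symm gT, ?_, ?_⟩
  · refine MulEquiv.ext fun x => ?_
    show E.symm (Φ (E (E.symm (Φ (E x))))) = x
    rw [E.apply_symm_apply, hΦ2, E.symm_apply_apply]
  · rintro ⟨h, hh⟩
    set k := E h with hk
    have hconj : ∀ x : TT, Φ x = k * x * k⁻¹ := fun x => by
      have e := congrArg E (DFunLike.congr_fun hh (E.symm x))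
      simp only [MulAut.conj_apply, map_mul, map_inv, MulEquiv.trans_apply, E.apply_symm_apply] at e
      exact e.symm
    have hk1 : k ≠ 1 := fun e => by
      have h1 := congrArg Subtype.val (hconj ⟨a, ha'⟩)
      rw [e, one_mul, inv_one, mul_one] at h1
      change s * a * s = a at h1
      have h2 : s * a = a * s := by
        calc s * a = s * a * (s * s) := by rw [hss, mul_one]
          _ = a * s := by rw [← mul_assoc, h1]
      have h3 := congrArg (fun f : P275 => ((f ⟨0, by norm_num⟩ : Fin 275) : ℕ)) h2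
      simp only [Equiv.Perm.mul_apply, hs _, ha _] at h3
      exact hneA h3
    have hk2 : k * k = 1 := by
      have hc : k * k ∈ Subgroup.center TT := Subgroup.mem_center_iff.2 fun x => by
        have e := hΦ2 x
        rw [hconj, hconj] at e
        have e' : k * k * x * (k * k)⁻¹ = x := by
          rw [show k * k * x * (k * k)⁻¹ = k * (k * x * k⁻¹) * k⁻¹ by group]
          exact e
        exact (mul_inv_eq_iff_eq_mul.1 e').symm
      haveI := TT_simple
      rcases IsSimpleGroup.eq_bot_or_eq_top_of_normal (Subgroup.center TT) inferInstance with hb | ht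
      · rwa [hb, Subgroup.mem_bot] at hc
      · exfalso
        have h1 := congrArg Subtype.val (hconj ⟨a, ha'⟩)
        have hkx : Commute k (⟨a, ha'⟩ : TT) :=
          ((Subgroup.mem_center_iff.1 (ht ▸ Subgroup.mem_top k)) _).symm
        rw [hkx.eq, mul_inv_cancel_right] at h1
        change s * a * s = a at h1
        have h2 : s * a = a * s := by
          calc s * a = s * a * (s * s) := by rw [hss, mul_one]
            _ = a * s := by rw [← mul_assoc, h1]
        have h3 := congrArg (fun f : P275 => ((f ⟨0, by norm_num⟩ : Fin 275) : ℕ)) h2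
        simp only [Equiv.Perm.mul_apply, hs _, ha _] at h3
        exact hneA h3
    refine eleven_no_involution hg (orderOf_eq_prime (by rw [pow_two, hk2]) hk1) ?_
    exact mul_inv_eq_iff_eq_mul.1 ((hconj gT).symm.trans hΦg)
  · rw [MulEquiv.orderOf_eq, hg]
  · show E.symm (Φ (E (E.symm gT))) = E.symm gT
    rw [E.apply_symm_apply, hΦg]

end Cfsg.Agent.McLType
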