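import Cfsg.Agent.Lib.McLType.Auto
import Cfsg.Agent.Lib.McLType.RuleData

/-!
The rules `c ^ h * g * c = a * c ^ h' * b` in the normalisers of the two subgroups of order sixteen hold
exactly, after an adjustment of `c` inside the four-group.
-/

set_option autoImplicit false
set_option maxRecDepth 100000
set_option Elab.async false

noncomputable section

namespace Cfsg.Agent.McLType

open Cfsg.Agent.GroupStructure3.McLInv (pT allB allB_spec allB_iff IsT TT tG Cn t0_spec tT)

/-- An entry of a packed table of sixteen numbers below sixteen. -/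
def p16 (t j : ℕ) : ℕ := (t >>> (4 * j)) % 16

theorem p16_lt (t j : ℕ) : p16 t j < 16 := Nat.mod_lt _ (by norm_num)

/-- An entry of a rule. -/
def rD (r f : ℕ) : ℕ := (Data.ruleL.getD r []).getD f 0

/-- The exponent of a rule. -/
def rH (r : ℕ) : ℕ := r % 2 + 1

/-- The action of the element of order three on a subgroup of order sixteen. -/
def cP (i j : ℕ) : ℕ := p16 (Data.cPow.getD i 0) j

/-- The inverse of that action. -/
def cQ (i j : ℕ) : ℕ := p16 (Data.cBack.getD i 0) j

/-- A power of that action. -/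
def cPn (i : ℕ) : ℕ → ℕ → ℕ
  | 0, j => j
  | n + 1, j => cP i (cPn i n j)

theorem cPn_lt (i : ℕ) : ∀ (n : ℕ) {j : ℕ}, j < 16 → cPn i n j < 16
  | 0, _, h => h
  | _ + 1, _, _ => p16_lt _ _

/-- `e * g = g * Q e` for the table `Q`. -/
def qOK (i g t : ℕ) : Bool :=
  allB 16 fun j => allB 5 fun p => app (eI i j) (app g p) == app g (app (eI i (p16 t j)) p)

/-- `g * e = P e * g` for the table `P`. -/
def pOK (i g t : ℕ) : Bool :=
  allB 16 fun j => allB 5 fun p => app g (app (eI i j) p) == app (eI i (p16 t j)) (app g p)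

/-- The identity and the two inverses. -/
def cB : Bool :=
  allB 2 fun i => allB 16 fun j =>
    decide (alN (eI i j) = eI i (cP i j) ∧ beN (eI i j) = eI i (cQ i j) ∧ cP i (cP i (cP i j)) = j)

theorem c_ok : cB = true := by decide +kernel

theorem al_cube : ∀ v : Fin 192, alN (alN (alN v)) = v := by decide +kernel

/-- The rules act alike on the subgroup of order sixteen. -/
def ruleB : Bool :=
  allB 8 fun r =>
    decide (rD r 0 < 40320 ∧ rD r 1 < 40320 ∧ rD r 2 < 3 ∧ rD r 3 < 40320) &&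
      pOK (r / 4) (rD r 0) (rD r 4) && pOK (r / 4) (rD r 1) (rD r 5) && pOK (r / 4) (rD r 3) (rD r 6) &&
      allB 16 fun j => cPn (r / 4) (rH r) (p16 (rD r 4) (cP (r / 4) j)) ==
        p16 (rD r 5) (cPn (r / 4) (rD r 2) (p16 (rD r 6) j))

theorem rule_ok : ruleB = true := by decide +kernel

/-- The centralisers in `D` of the subgroups of order sixteen. -/
def centB : Bool :=
  allB 2 fun i => allB 192 fun v =>
    ((List.range 16).any fun j => eI i j == v) ||
      !(allB 16 fun j => allB 5 fun p => app v (app (eI i j) p) == app (eI i j) (app v p))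

theorem cent_ok : centB = true := by decide +kernel

/-- The centre of `D`. -/
def centreB : Bool :=
  allB 192 fun v => v == 0 || v == 13 || v == 35 || v == teI ||
    !((allB 2 fun i => allB 16 fun j => allB 5 fun p => app v (app (eI i j) p) == app (eI i j) (app v p)) &&
      allB 5 fun p => app v (app Data.yI p) == app Data.yI (app v p))

theorem centre_ok : centreB = true := by decide +kernel

/-- An entry of a step. -/
def sD (s : List ℕ) (f : ℕ) : ℕ := s.getD f 0

/-- The rule used by a step. -/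
def rI (i h k : ℕ) : ℕ := 4 * i + 2 * (k - 1) + (h - 1)

/-- The check of one step: the state is the element before, the exponent and the element after. -/
def stepB (i : ℕ) (st : ℕ × ℕ × ℕ) (s : List ℕ) : Bool :=
  match sD s 0 with
  | 0 => decide (st.2.1 ≠ 0 ∨ st.2.2 = 0) && mulB (if st.2.1 = 0 then st.1 else st.2.2) (sD s 1) (sD s 2) &&
      qOK i (sD s 1) (sD s 3)
  | 1 => decide (st.2.1 = 0) && mulB st.1 st.2.2 (sD s 1)
  | _ =>
    decide ((st.2.1 = 1 ∨ st.2.1 = 2) ∧ sD s 1 < 192 ∧ sD s 2 < 3 ∧ sD s 3 < 192) &&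
      mulB (sD s 1) (if sD s 2 = 0 then 0 else rD (rI i st.2.1 (sD s 2)) 0) (sD s 4) &&
      mulB (sD s 4) (sD s 3) st.2.2 &&
      mulB st.1 (if st.2.1 = 1 then alN (sD s 1) else alN (alN (sD s 1))) (sD s 5) &&
      qOK i (beN (sD s 3)) (sD s 10) &&
      if sD s 2 = 0 then
        if st.2.1 = 2 then mulB (sD s 5) (beN (sD s 3)) (sD s 8) && decide (sD s 9 = 0)
        else decide (sD s 8 = sD s 5 ∧ sD s 9 = beN (sD s 3))
      else
        mulB (sD s 5) (rD (rI i st.2.1 (sD s 2)) 1) (sD s 6) &&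
        mulB (rD (rI i st.2.1 (sD s 2)) 3) (beN (sD s 3)) (sD s 7) &&
        if rD (rI i st.2.1 (sD s 2)) 2 = 0 then mulB (sD s 6) (sD s 7) (sD s 8) && decide (sD s 9 = 0)
        else decide (sD s 8 = sD s 6 ∧ sD s 9 = sD s 7)

/-- The next state. -/
def next (i : ℕ) (st : ℕ × ℕ × ℕ) (s : List ℕ) : ℕ × ℕ × ℕ :=
  match sD s 0 with
  | 0 => if st.2.1 = 0 then (sD s 2, 0, st.2.2) else (st.1, st.2.1, sD s 2)
  | 1 => (sD s 1, 1, 0)
  | _ => (sD s 8,
      if sD s 2 = 0 then (if st.2.1 = 2 then 0 else 2) else rD (rI i st.2.1 (sD s 2)) 2, sD s 9)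

/-- The next offset in the subgroup of order sixteen. -/
def nextE (i : ℕ) (u : ℕ → ℕ) (st : ℕ × ℕ × ℕ) (s : List ℕ) (e : ℕ) : ℕ :=
  match sD s 0 with
  | 0 => p16 (sD s 3) e
  | 1 => cQ i e
  | _ => if sD s 2 = 0 then cQ i e else p16 (sD s 10) (u (rI i st.2.1 (sD s 2))) ^^^ cQ i e

/-- The check of a word. -/
def runB (i : ℕ) : List (List ℕ) → ℕ × ℕ × ℕ → Bool
  | [], st => decide (st.2.1 = 0) && mulB st.1 st.2.2 0
  | s :: l, st => stepB i st s && runB i l (next i st s)

/-- The offset of a word. -/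
def runE (i : ℕ) (u : ℕ → ℕ) : List (List ℕ) → ℕ × ℕ × ℕ → ℕ → ℕ
  | [], _, e => e
  | s :: l, st, e => runE i u l (next i st s) (nextE i u st s e)

/-- The value of a word. -/
def wv {G : Type*} [Group G] (φ : Cn →* G) (c : G) : List (List ℕ) → G
  | [] => 1
  | s :: l => (if sD s 0 = 0 then φ (el (sD s 1)) else c) * wv φ c l

/-- The body of a word. -/
def eqSteps (n : ℕ) : List (List ℕ) := (Data.eqnL.getD n []).tail

/-- The subgroup of a word. -/
def eqI (n : ℕ) : ℕ := ((Data.eqnL.getD n []).headD []).getD 0 0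

/-- The unknown offsets. -/
def unk (s a b a' b' : ℕ) (r : ℕ) : ℕ :=
  match r with
  | 0 => s
  | 1 => s
  | 2 => a
  | 3 => b
  | 4 => s
  | 5 => s
  | 6 => a'
  | _ => b'

/-- The check of the words. -/
def eqB : Bool :=
  allB Data.eqnL.length fun n => decide (eqI n < 2) && runB (eqI n) (eqSteps n) (0, 0, 0)

theorem eq_ok : eqB = true := by decide +kernel

/-- The words are trivial in the model. -/
def eqValB : Bool :=
  allB Data.eqnL.length fun n => allB 5 fun p =>
    (eqSteps n).foldr (fun s x => if sD s 0 = 0 then app (sD s 1) x else pT (nd 4) x) p == p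

theorem eqVal_ok : eqValB = true := by decide +kernel

/-- The offsets left by the words. -/
def solB : Bool :=
  allB 2 fun i => allB 4 fun s => allB 16 fun a => allB 16 fun b =>
    ((s == 0 || s == 3) && (decide (s = 3) || a == 0 && b == 0)) ||
      (List.range Data.eqnL.length).any fun n =>
        eqI n == i && runE i (unk s a b a b) (eqSteps n) (0, 0, 0) 0 != 0

theorem sol_ok : solB = true := by decide +kernel

/-- The element swapping is the common representative. -/
def swB : Bool :=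
  decide (rD 0 0 = swI ∧ rD 4 0 = swI ∧ rD 0 2 = 0 ∧ rD 4 2 = 0 ∧ rD 0 1 = rD 4 1 ∧ rD 0 3 = rD 4 3 ∧
    rD 1 0 = swI ∧ rD 5 0 = swI ∧ rD 1 2 = 1 ∧ rD 5 2 = 1 ∧ rD 1 1 = 0 ∧ rD 5 1 = 0 ∧ rD 1 3 = rD 5 3) &&
    mulB (rD 0 1) (rD 0 3) (rD 1 3) &&
    allB 5 fun p => app swI (app teI p) == app 35 (app swI p)

theorem sw_ok : swB = true := by decide +kernel

theorem allB_congr2 {p q : ℕ → Bool} {n : ℕ} (h : allB n p = true) (e : ∀ i < n, p i = true → q i = true) :
    allB n q = true :=
  allB_iff.2 fun i hi => e i hi (allB_spec h i hi)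

theorem el_mul_comm_of {a b c d : ℕ} (ha : a < 40320) (hb : b < 40320) (hc : c < 40320) (hd : d < 40320)
    (h : ∀ p < 5, app a (app b p) = app c (app d p)) : el a * el b = el c * el d := by
  refine Subtype.ext (eq_of_five fun w hw => ?_)
  simp only [Subgroup.coe_mul, Equiv.Perm.mul_apply, el_app ha, el_app hb, el_app hc, el_app hd]
  exact h w.1 hw

theorem qOK_spec {i g t j : ℕ} (h : qOK i g t = true) (hg : g < 40320) (hj : j < 16) :
    eE i j * el g = el g * eE i (p16 t j) := by
  rw [eE_el, eE_el]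
  exact el_mul_comm_of (lt_trans eI_lt (by norm_num)) hg hg (lt_trans eI_lt (by norm_num))
    fun p hp => beq_iff_eq.1 (allB_spec (allB_spec h j hj) p hp)

theorem pOK_spec {i g t j : ℕ} (h : pOK i g t = true) (hg : g < 40320) (hj : j < 16) :
    el g * eE i j = eE i (p16 t j) * el g := by
  rw [eE_el, eE_el]
  exact el_mul_comm_of hg (lt_trans eI_lt (by norm_num)) (lt_trans eI_lt (by norm_num)) hg
    fun p hp => beq_iff_eq.1 (allB_spec (allB_spec h j hj) p hp)

theorem mulB_lt {a b z : ℕ} (h : mulB a b z = true) : a < 40320 ∧ b < 40320 ∧ z < 40320 := by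
  simp only [mulB, Bool.and_eq_true, decide_eq_true_eq] at h
  exact ⟨h.1.1.1, h.1.1.2, h.1.2⟩

/-- The hypotheses on the homomorphism and the element of order three. -/
structure Conf {G : Type*} [Group G] (φ : Cn →* G) (c : G) : Prop where
  inj : Function.Injective φ
  conj : ∀ v < 192, c * φ (eV v) = φ (eV (alN v)) * c
  cent : ∀ i < 2, ∀ y : G, (∀ j < 16, y * φ (eE i j) = φ (eE i j) * y) → y ∈ φ.range

namespace Conf

variable {G : Type*} [Group G] {φ : Cn →* G} {c : G} (K : Conf φ c)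
include K

theorem conj_back {v : ℕ} (hv : v < 192) : φ (eV v) * c = c * φ (eV (beN v)) := by
  rw [K.conj _ (alN_lt hv).2.1, (alN_lt hv).2.2.1]

theorem c_eE {i j : ℕ} (hi : i < 2) (hj : j < 16) : c * φ (eE i j) = φ (eE i (cP i j)) * c := by
  have h := allB_spec (allB_spec c_ok i hi) j hj
  rw [decide_eq_true_eq] at h
  rw [eE, K.conj _ eI_lt, h.1]; rfl

theorem eE_c {i j : ℕ} (hi : i < 2) (hj : j < 16) : φ (eE i j) * c = c * φ (eE i (cQ i j)) := by
  have h := allB_spec (allB_spec c_ok i hi) j hj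
  rw [decide_eq_true_eq] at h
  rw [eE, K.conj_back eI_lt, h.2.1]; rfl

theorem cpow_eE {i : ℕ} (hi : i < 2) : ∀ (n : ℕ) {j : ℕ}, j < 16 →
    c ^ n * φ (eE i j) = φ (eE i (cPn i n j)) * c ^ n
  | 0, j, _ => by simp [cPn]
  | n + 1, j, hj => by
    rw [pow_succ', mul_assoc, cpow_eE hi n hj, ← mul_assoc, K.c_eE hi (cPn_lt i n hj), mul_assoc]
    rfl

/-- An element of the image commuting with a subgroup of order sixteen lies in it. -/
theorem centraliser_eE {i : ℕ} (hi : i < 2) {y : G} (hy : ∀ j < 16, y * φ (eE i j) = φ (eE i j) * y) :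
    ∃ j < 16, y = φ (eE i j) := by
  obtain ⟨g, rfl⟩ := K.cent i hi y hy
  have hg : ∀ j < 16, g * eE i j = eE i j * g := fun j hj =>
    K.inj (by rw [map_mul, map_mul]; exact hy j hj)
  have ht : g * tau = tau * g := by
    have h := hg 2 (by norm_num)
    have e : eE i 2 = tau := by
      obtain ⟨-, -, -, -, -, -, -, -, e02, e12, -⟩ := base_spec
      rcases Nat.lt_succ_iff_lt_or_eq.1 hi with h | rfl
      · rw [Nat.lt_one_iff.1 h, eE, e02]; rfl
      · rw [eE, e12]; rfl
    rwa [e] at h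
  obtain ⟨v, hv, rfl⟩ := exists_eV ht
  have h := allB_spec (allB_spec cent_ok i hi) v hv
  simp only [Bool.or_eq_true, List.any_eq_true, List.mem_range, beq_iff_eq, Bool.not_eq_true'] at h
  rcases h with ⟨j, hj, rfl⟩ | h
  · exact ⟨j, hj, rfl⟩
  · exfalso
    rw [← Bool.not_eq_true] at h
    refine h (allB_iff.2 fun j hj => allB_iff.2 fun p hp => beq_iff_eq.2 ?_)
    have e := congrArg (fun x : Cn => ((((x : TT) : Equiv.Perm (Fin 275)) ⟨p, by omega⟩ : Fin 275) : ℕ)) (hg j hj)
    simpa only [Subgroup.coe_mul, Equiv.Perm.mul_apply, eV_app hv, eE, eV_app eI_lt] using e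

theorem c_cube : c ^ 3 = 1 := by
  have hz : ∀ v < 192, c ^ 3 * φ (eV v) = φ (eV v) * c ^ 3 := by
    intro v hv
    have h1 := (alN_lt hv).1
    have h2 := (alN_lt h1).1
    rw [show c ^ 3 = c * c * c by rw [pow_succ, pow_two]]
    rw [mul_assoc, K.conj v hv, ← mul_assoc, mul_assoc c c, K.conj _ h1, ← mul_assoc, K.conj _ h2,
      show alN (alN (alN v)) = v from al_cube ⟨v, hv⟩, mul_assoc, mul_assoc, mul_assoc]
  obtain ⟨j, hj, hc3⟩ := K.centraliser_eE (i := 0) (by norm_num) (y := c ^ 3) fun j _ => hz _ eI_lt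
  set v := eI 0 j with hvdef
  have hc3' : c ^ 3 = φ (eV v) := hc3
  have hcomm : ∀ w < 192, eV v * eV w = eV w * eV v := fun w hw => K.inj (by
    rw [map_mul, map_mul, ← hc3']; exact hz w hw)
  have hfix : eV (alN v) = eV v := K.inj (by
    refine mul_right_cancel (b := c) ?_
    rw [← K.conj v eI_lt, ← hc3', ← pow_succ, ← pow_succ'])
  have h := allB_spec centre_ok v eI_lt
  simp only [Bool.or_eq_true, beq_iff_eq, Bool.not_eq_true'] at h
  have hv0 : v = 0 := by
    have e : alN v = v := eV_inj _ (alN_lt (v := v) eI_lt).1 _ eI_lt hfix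
    have hvlt : v < 192 := eI_lt
    clear_value v
    rcases h with (((h | h) | h) | h) | h
    · exact h
    · rw [h] at e; exact absurd e (by decide +kernel)
    · rw [h] at e; exact absurd e (by decide +kernel)
    · rw [h] at e; exact absurd e (by decide +kernel)
    · exfalso
      rw [← Bool.not_eq_true] at h
      have hy : Data.yI < 192 := by decide +kernel
      refine h ?_
      rw [Bool.and_eq_true]
      refine ⟨allB_iff.2 fun i _ => allB_iff.2 fun j _ => allB_iff.2 fun p hp => beq_iff_eq.2 ?_,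
        allB_iff.2 fun p hp => beq_iff_eq.2 ?_⟩
      · have e := congrArg (fun x : Cn => ((((x : TT) : Equiv.Perm (Fin 275)) ⟨p, by omega⟩ : Fin 275) : ℕ))
          (hcomm (eI i j) eI_lt)
        simpa only [Subgroup.coe_mul, Equiv.Perm.mul_apply, eV_app hvlt, eV_app eI_lt] using e
      · have e := congrArg (fun x : Cn => ((((x : TT) : Equiv.Perm (Fin 275)) ⟨p, by omega⟩ : Fin 275) : ℕ))
          (hcomm Data.yI hy)
        simpa only [Subgroup.coe_mul, Equiv.Perm.mul_apply, eV_app hvlt, eV_app hy] using e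
  rw [hc3', hv0, eV_zero, map_one]

omit K in
theorem rule_data {r : ℕ} (hr : r < 8) :
    (rD r 0 < 40320 ∧ rD r 1 < 40320 ∧ rD r 2 < 3 ∧ rD r 3 < 40320) ∧
      pOK (r / 4) (rD r 0) (rD r 4) = true ∧ pOK (r / 4) (rD r 1) (rD r 5) = true ∧
      pOK (r / 4) (rD r 3) (rD r 6) = true ∧
      ∀ j < 16, cPn (r / 4) (rH r) (p16 (rD r 4) (cP (r / 4) j)) =
        p16 (rD r 5) (cPn (r / 4) (rD r 2) (p16 (rD r 6) j)) := by
  have h := allB_spec rule_ok r hr
  simp only [Bool.and_eq_true, decide_eq_true_eq] at h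
  exact ⟨h.1.1.1.1, h.1.1.1.2, h.1.1.2, h.1.2, fun j hj => beq_iff_eq.1 (allB_spec h.2 j hj)⟩

/-- A rule holds up to an element of its subgroup of order sixteen. -/
theorem exists_rule {r : ℕ} (hr : r < 8) : ∃ e < 16,
    c ^ rH r * φ (el (rD r 0)) * c =
      φ (el (rD r 1)) * c ^ rD r 2 * φ (el (rD r 3)) * φ (eE (r / 4) e) := by
  obtain ⟨⟨hg, ha, -, hb⟩, pg, pa, pb, hcomp⟩ := rule_data hr
  set i := r / 4
  have hi : i < 2 := by omega
  set L := c ^ rH r * φ (el (rD r 0)) * c with hL
  set R := φ (el (rD r 1)) * c ^ rD r 2 * φ (el (rD r 3)) with hR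
  have key : ∀ j < 16, (R⁻¹ * L) * φ (eE i j) = φ (eE i j) * (R⁻¹ * L) := by
    intro j hj
    have hLj : L * φ (eE i j) = φ (eE i (cPn i (rH r) (p16 (rD r 4) (cP i j)))) * L := by
      rw [hL, mul_assoc, K.c_eE hi hj, ← mul_assoc, mul_assoc (c ^ rH r), ← map_mul,
        pOK_spec pg hg (show cP i j < 16 from p16_lt _ _), map_mul, ← mul_assoc, K.cpow_eE hi _ (p16_lt _ _)]
      simp only [mul_assoc]
    have hRj : R * φ (eE i j) = φ (eE i (p16 (rD r 5) (cPn i (rD r 2) (p16 (rD r 6) j)))) * R := by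
      rw [hR, mul_assoc, ← map_mul, pOK_spec pb hb hj, map_mul, ← mul_assoc,
        mul_assoc (φ (el (rD r 1))), K.cpow_eE hi _ (p16_lt _ _), ← mul_assoc, ← map_mul,
        pOK_spec pa ha (cPn_lt i _ (p16_lt _ _)), map_mul]
      simp only [mul_assoc]
    rw [hcomp j hj, eq_mul_inv_iff_mul_eq.2 hRj.symm] at hLj
    rw [mul_assoc, hLj]
    simp only [mul_assoc, inv_mul_cancel_left]
  obtain ⟨e, he, hRL⟩ := K.centraliser_eE hi key
  exact ⟨e, he, inv_mul_eq_iff_eq_mul.1 hRL⟩

/-- The soundness of the reduction of words. -/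
theorem run_sound {i : ℕ} (hi : i < 2) (u : ℕ → ℕ) (hu : ∀ r, u r < 16)
    (hrule : ∀ r, r < 8 → r / 4 = i →
      c ^ rH r * φ (el (rD r 0)) * c =
        φ (el (rD r 1)) * c ^ rD r 2 * φ (el (rD r 3)) * φ (eE i (u r))) :
    ∀ (l : List (List ℕ)) (st : ℕ × ℕ × ℕ) (e : ℕ), e < 16 → runB i l st = true →
      φ (el st.1) * c ^ st.2.1 * φ (el st.2.2) * φ (eE i e) * wv φ c l =
        φ (eE i (runE i u l st e)) ∧ runE i u l st e < 16
  | [], st, e, he, h => by
    rw [runB, Bool.and_eq_true, decide_eq_true_eq] at h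
    refine ⟨?_, he⟩
    rw [h.1, pow_zero, mul_one, ← map_mul, of_mulB h.2, el_zero, map_one, one_mul, wv, mul_one]
    rfl
  | s :: l, st, e, he, h => by
    obtain ⟨x, hh, y⟩ := st
    rw [runB, Bool.and_eq_true] at h
    have hne : nextE i u (x, hh, y) s e < 16 := by
      unfold nextE
      split
      · exact p16_lt _ _
      · exact p16_lt _ _
      · split_ifs
        · exact p16_lt _ _
        · exact Nat.xor_lt_two_pow (n := 4) (p16_lt _ _) (p16_lt _ _)
    obtain ⟨ih1, ih2⟩ := run_sound hi u hu hrule l (next i (x, hh, y) s) _ hne h.2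
    refine ⟨?_, by rw [runE]; exact ih2⟩
    rw [runE, ← ih1, wv, ← mul_assoc]
    congr 1
    show φ (el x) * c ^ hh * φ (el y) * φ (eE i e) * _ = _
    have hs := h.1
    unfold stepB at hs
    unfold next nextE
    rcases hk : sD s 0 with _ | _ | m <;> rw [hk] at hs <;> simp only at hs ⊢
    · simp only [Bool.and_eq_true, decide_eq_true_eq] at hs
      obtain ⟨⟨hy0, hm⟩, hq⟩ := hs
      obtain ⟨-, hg, -⟩ := mulB_lt hm
      rw [if_pos trivial, mul_assoc (φ (el x) * c ^ hh * φ (el y)), ← map_mul, qOK_spec hq hg he, map_mul, ← mul_assoc]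
      by_cases h0 : hh = 0
      · rw [if_pos h0] at hm ⊢
        subst h0
        rw [hy0.resolve_left (fun h => h rfl), el_zero, map_one, ← of_mulB hm, map_mul]
        simp only [pow_zero, mul_one]
      · rw [if_neg h0] at hm ⊢
        rw [← of_mulB hm, map_mul]
        simp only [mul_assoc]
    · simp only [Bool.and_eq_true, decide_eq_true_eq] at hs
      rw [if_neg (by norm_num), hs.1, pow_zero, mul_one, pow_one, ← map_mul, of_mulB hs.2, el_zero, map_one,
        mul_one, mul_assoc _ (φ (eE i e)), K.eE_c hi he, ← mul_assoc]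
    · rw [if_neg (by omega)]
      simp only [Bool.and_eq_true, decide_eq_true_eq] at hs
      obtain ⟨⟨⟨⟨⟨⟨hh12, hu1, hk3, hv1⟩, hm1⟩, hm2⟩, hm5⟩, hq⟩, hrest⟩ := hs
      have hv2 := (alN_lt hv1).2.1
      have hpow : c ^ hh * φ (el (sD s 1)) =
          φ (el (if hh = 1 then alN (sD s 1) else alN (alN (sD s 1)))) * c ^ hh := by
        have h1 := (alN_lt hu1).1
        rcases hh12 with rfl | rfl
        · rw [if_pos rfl, pow_one, el_lt hu1, el_lt h1, K.conj _ hu1]
        · rw [if_neg (by norm_num), pow_two, el_lt hu1, el_lt (alN_lt h1).1, mul_assoc, K.conj _ hu1,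
            ← mul_assoc, K.conj _ h1, mul_assoc]
      have hback : φ (el (sD s 3)) * c = c * φ (el (beN (sD s 3))) := by
        rw [el_lt hv1, el_lt hv2, K.conj_back hv1]
      have lhs : φ (el x) * c ^ hh * φ (el y) * φ (eE i e) * c =
          φ (el (sD s 5)) * (c ^ hh * φ (el (if sD s 2 = 0 then 0 else rD (rI i hh (sD s 2)) 0)) * c) *
            φ (el (beN (sD s 3))) * φ (eE i (cQ i e)) := by
        rw [mul_assoc _ (φ (eE i e)), K.eE_c hi he, ← of_mulB hm2, ← of_mulB hm1, ← of_mulB hm5]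
        simp only [map_mul, mul_assoc]
        rw [← mul_assoc (c ^ hh) (φ (el (sD s 1))), hpow, mul_assoc _ (c ^ hh), ← mul_assoc (φ (el (sD s 3))) c,
          hback]
        simp only [mul_assoc]
      rw [lhs]
      by_cases hk0 : sD s 2 = 0
      · simp only [if_pos hk0] at hrest ⊢
        rw [el_zero, map_one, mul_one, ← pow_succ]
        rcases hh12 with rfl | rfl
        · simp only [show ¬(1 = 2) by norm_num, if_false, decide_eq_true_eq] at hrest ⊢
          rw [hrest.1, hrest.2]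
        · simp only [if_true, Bool.and_eq_true, decide_eq_true_eq] at hrest ⊢
          rw [K.c_cube, mul_one, ← map_mul, of_mulB hrest.1, hrest.2, el_zero, map_one, pow_zero, mul_one, mul_one]
      · simp only [if_neg hk0, Bool.and_eq_true] at hrest ⊢
        have hr8 : rI i hh (sD s 2) < 8 ∧ rI i hh (sD s 2) / 4 = i ∧ rH (rI i hh (sD s 2)) = hh := by
          unfold rI rH; omega
        obtain ⟨hr8a, hr8b, hr8c⟩ := hr8
        have hR := hrule _ hr8a hr8b
        rw [hr8c] at hR
        rw [hR]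
        obtain ⟨⟨hm6, hm7⟩, hfin⟩ := hrest
        have hE : φ (eE i (u (rI i hh (sD s 2)))) * φ (el (beN (sD s 3))) * φ (eE i (cQ i e)) =
            φ (el (beN (sD s 3))) * φ (eE i (p16 (sD s 10) (u (rI i hh (sD s 2))) ^^^ cQ i e)) := by
          rw [← map_mul, qOK_spec hq (by omega) (hu _), map_mul, mul_assoc, ← map_mul, ← map_mul,
            eE_mul hi (p16_lt _ _) (show cQ i e < 16 from p16_lt _ _), map_mul]
        simp only [mul_assoc] at hE ⊢
        rw [hE]
        by_cases h0 : rD (rI i hh (sD s 2)) 2 = 0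
        · simp only [if_pos h0, Bool.and_eq_true, decide_eq_true_eq] at hfin ⊢
          rw [h0, hfin.2, el_zero, map_one, pow_zero, one_mul, one_mul, ← of_mulB hfin.1, ← of_mulB hm6,
            ← of_mulB hm7]
          simp only [map_mul, mul_assoc, one_mul]
        · simp only [if_neg h0, decide_eq_true_eq] at hfin ⊢
          rw [hfin.1, hfin.2, ← of_mulB hm6, ← of_mulB hm7]
          simp only [map_mul, mul_assoc]

/-- The rules all hold exactly. -/
def Exact (φ : Cn →* G) (c : G) : Prop :=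
  ∀ r < 8, c ^ rH r * φ (el (rD r 0)) * c = φ (el (rD r 1)) * c ^ rD r 2 * φ (el (rD r 3))

end Conf

end Cfsg.Agent.McLType
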