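import Cfsg.Agent.GroupStructure3.McLInv.Group

/-!
An element of order seven of the McLaughlin group fixes two of the 275 points.
-/

set_option autoImplicit false
set_option maxRecDepth 10000

namespace Cfsg.Agent.McLType

open Cfsg.Agent.GroupStructure3
open Cfsg.Agent.GroupStructure3.McLInv (allB allB_spec pT IsT genA genB TT exists_basic)
open Cfsg.Agent.GroupStructure3.McLOut (A toPerm toPerm_num toPerm_injective num)
open Cfsg.Agent.LeechAut

local notation "GG" => McL.G

/-- The word of order seven on the numbers. -/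
def sevenW (i : ℕ) : ℕ := pT genA (pT genA (pT genB i))

/-- The checks on the word. -/
def sevenOK : Bool :=
  allB 275 fun i => decide (sevenW i < 275) &&
    (sevenW (sevenW (sevenW (sevenW (sevenW (sevenW (sevenW i)))))) == i) &&
    ((sevenW i == i) == (i == 8 || i == 239))

theorem seven_ok : sevenOK = true := by decide +kernel

theorem exists_seven : ∃ g : GG, orderOf g = 7 ∧ {y : A | g • y = y}.ncard = 2 := by
  obtain ⟨a, b, -, ha, ha', hb, hb', -⟩ := exists_basic
  obtain ⟨g, hg⟩ : a * a * b ∈ TT := mul_mem (mul_mem ha' ha') hb'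
  have hw : ∀ i : Fin 275, ((toPerm g i : Fin 275) : ℕ) = sevenW i := fun i => by
    rw [hg, Equiv.Perm.mul_apply, Equiv.Perm.mul_apply, ha, ha, hb]
    rfl
  have hc : ∀ i : Fin 275, sevenW (sevenW (sevenW (sevenW (sevenW (sevenW (sevenW i)))))) = i ∧
      (sevenW i = i ↔ ((i : ℕ) = 8 ∨ (i : ℕ) = 239)) := fun i => by
    have h := allB_spec seven_ok i i.2
    simp only [Bool.and_eq_true, decide_eq_true_eq, beq_iff_eq] at h
    refine ⟨h.1.2, ?_⟩
    have h2 := h.2
    rw [Bool.eq_iff_iff] at h2
    simpa using h2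
  have h7 : g ^ 7 = 1 := toPerm_injective (Equiv.ext fun i => Fin.ext (by
    rw [map_pow, map_one]
    simp only [pow_succ, pow_zero, one_mul, Equiv.Perm.mul_apply, Equiv.Perm.one_apply, hw]
    exact (hc i).1))
  have hfix : {y : A | g • y = y} = num ⁻¹' ({⟨8, by norm_num⟩, ⟨239, by norm_num⟩} : Set (Fin 275)) := by
    ext y
    have e : g • y = y ↔ sevenW (num y) = num y := by
      rw [← hw, toPerm_num, ← Fin.ext_iff, num.injective.eq_iff]
    simp only [Set.mem_setOf_eq, e, (hc _).2, Set.mem_preimage, Set.mem_insert_iff,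
      Set.mem_singleton_iff, Fin.ext_iff]
  refine ⟨g, ?_, ?_⟩
  · haveI : Fact (Nat.Prime 7) := ⟨by norm_num⟩
    refine orderOf_eq_prime h7 fun e => ?_
    have h : sevenW (0 : Fin 275) = (0 : Fin 275) := by
      rw [← hw, e, map_one, Equiv.Perm.one_apply]
    have := (hc 0).2.1 h
    simp at this
  · rw [hfix, Set.ncard_preimage_of_injective_subset_range num.injective
      (by rw [num.surjective.range_eq]; exact Set.subset_univ _)]
    exact Set.ncard_pair (fun e => by simp [Fin.ext_iff] at e)

/-- Every element of order seven fixes exactly two points. -/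
theorem seven_fix {x : GG} (hx : orderOf x = 7) : {y : A | x • y = y}.ncard = 2 := by
  obtain ⟨g, hg, hfix⟩ := exists_seven
  haveI : Fact (Nat.Prime 7) := ⟨by norm_num⟩
  have hsyl : ∀ u : GG, orderOf u = 7 → ∃ P : Sylow 7 GG, (P : Subgroup GG) = Subgroup.zpowers u :=
    fun u hu => by
    refine ⟨Sylow.ofCard (Subgroup.zpowers u) ?_, rfl⟩
    rw [Nat.card_zpowers, hu, McL.card_G, Nat.factorization_def _ (by norm_num : Nat.Prime 7),
      show (898128000 : ℕ) = 7 ^ 1 * 128304000 by norm_num, padicValNat.mul (by norm_num) (by norm_num),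
      padicValNat.prime_pow, padicValNat.eq_zero_of_not_dvd (by norm_num)]
    norm_num
  obtain ⟨P, hP⟩ := hsyl x hx
  obtain ⟨Q, hQ⟩ := hsyl g hg
  obtain ⟨c, hc⟩ := MulAction.exists_smul_eq GG P Q
  have hmem : ∀ u : GG, u ∈ Subgroup.zpowers x → c * u * c⁻¹ ∈ Subgroup.zpowers g := fun u hu => by
    rw [← hQ, ← hc, Sylow.coe_subgroup_smul, hP]
    exact Subgroup.smul_mem_pointwise_smul u (MulAut.conj c) _ hu
  have hx' := hmem x (Subgroup.mem_zpowers x)
  have hgen : g ∈ Subgroup.zpowers (c * x * c⁻¹) := by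
    have hle : Subgroup.zpowers (c * x * c⁻¹) ≤ Subgroup.zpowers g := Subgroup.zpowers_le.2 hx'
    rw [Subgroup.eq_of_le_of_card_ge hle (by
      rw [Nat.card_zpowers, Nat.card_zpowers, hg, show c * x * c⁻¹ = MulAut.conj c x from rfl,
        MulEquiv.orderOf_eq, hx])]
    exact Subgroup.mem_zpowers g
  rw [← hfix]
  have hzp : ∀ {u v : GG}, v ∈ Subgroup.zpowers u → ∀ y : A, u • y = y → v • y = y := by
    rintro u v hv y hy
    exact (Subgroup.zpowers_le (H := MulAction.stabilizer GG y)).2 hy hv
  refine Eq.trans ?_ (congrArg Set.ncard (show (fun y : A => c • y) '' {y | x • y = y} = {y | g • y = y} from ?_))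
  · exact (Set.ncard_image_of_injective _ (MulAction.injective c)).symm
  ext y
  simp only [Set.mem_image, Set.mem_setOf_eq]
  constructor
  · rintro ⟨z, hz, rfl⟩
    refine hzp hgen _ ?_
    rw [mul_smul, mul_smul, inv_smul_smul, hz]
  · intro hy
    refine ⟨c⁻¹ • y, ?_, smul_inv_smul c y⟩
    have h := hzp hx' y hy
    rw [mul_smul, mul_smul, smul_eq_iff_eq_inv_smul] at h
    exact h

end Cfsg.Agent.McLType
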