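import Cfsg.Agent.Lib.McLType.CVFacts

/-!
The centraliser of the second involution is generated by elements of order three.
-/

set_option autoImplicit false
set_option maxRecDepth 100000

noncomputable section

namespace Cfsg.Agent.McLType

open Cfsg.Agent.GroupStructure3.McLInv (allB allB_spec Cn)

/-- The element, the position of an earlier element and the factor of order three. -/
def threeSlp : List (ℕ × ℕ × ℕ) :=
  [(0, 0, 0), (4, 0, 4), (8, 0, 8), (12, 0, 12), (36, 1, 4), (40, 1, 8), (44, 1, 12), (63, 2, 4), (37, 2, 8),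
  (11, 2, 12), (80, 3, 4), (9, 3, 8), (84, 3, 12), (160, 4, 8), (49, 4, 12), (163, 5, 4), (158, 5, 8), (43, 5,
  12), (137, 6, 4), (41, 6, 8), (120, 6, 12), (162, 7, 4), (152, 7, 12), (161, 8, 4), (65, 8, 12), (38, 9, 8),
  (79, 9, 12), (66, 10, 4), (123, 10, 8), (1, 10, 12), (53, 11, 4), (67, 11, 8), (71, 11, 12), (100, 12, 4),
  (83, 12, 8), (129, 13, 4), (5, 13, 8), (145, 13, 12), (139, 14, 4), (140, 14, 8), (124, 14, 12), (113, 15,
  4), (143, 15, 12), (32, 16, 4), (165, 16, 12), (146, 17, 8), (82, 17, 12), (115, 18, 4), (111, 18, 8), (13,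
  18, 12), (112, 19, 4), (166, 19, 8), (24, 19, 12), (73, 20, 4), (69, 20, 8), (102, 21, 8), (155, 21, 12),
  (122, 22, 4), (173, 22, 8), (81, 22, 12), (7, 23, 4), (174, 23, 12), (148, 24, 8), (108, 24, 12), (135, 25,
  4), (117, 25, 8), (68, 25, 12), (56, 26, 4), (78, 26, 8), (106, 27, 8), (55, 27, 12), (97, 28, 4), (76, 28,
  12), (17, 29, 8), (21, 29, 12), (75, 30, 12), (177, 31, 4), (70, 31, 12), (183, 32, 12), (96, 33, 4), (62,
  33, 8), (33, 33, 12), (50, 34, 4), (131, 34, 8), (171, 34, 12), (47, 35, 4), (142, 35, 12), (45, 36, 4), (6,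
  37, 8), (170, 37, 12), (133, 38, 8), (85, 38, 12), (134, 39, 4), (94, 39, 12), (167, 40, 8), (58, 41, 8),
  (150, 41, 12), (136, 42, 4), (114, 42, 8), (77, 42, 12), (39, 43, 4), (153, 43, 12), (116, 44, 8), (185, 44,
  12), (179, 45, 4), (127, 45, 8), (103, 45, 12), (147, 46, 8), (105, 47, 8), (109, 48, 4), (52, 48, 12), (89,
  49, 8), (26, 49, 12), (169, 50, 12), (125, 51, 4), (168, 51, 12), (132, 52, 12), (61, 53, 8), (187, 54, 8),
  (29, 54, 12), (10, 55, 12), (118, 56, 4), (176, 56, 12), (110, 57, 4), (181, 57, 8), (98, 58, 8), (88, 58,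
  12), (54, 59, 4), (141, 61, 4), (74, 61, 12), (99, 62, 4), (93, 62, 12), (184, 63, 4), (51, 64, 12), (104,
  65, 4), (19, 66, 12), (178, 67, 4), (30, 67, 12), (156, 68, 4), (95, 69, 4), (175, 69, 12), (182, 70, 8),
  (130, 71, 4), (64, 71, 12), (42, 72, 8), (119, 72, 12), (107, 73, 4), (86, 73, 8), (20, 73, 12), (18, 74,
  8), (60, 75, 4), (180, 75, 8), (101, 75, 12), (46, 76, 12), (23, 78, 4), (48, 80, 4), (138, 80, 12), (151,
  81, 8), (149, 82, 12), (35, 85, 8), (59, 86, 4), (159, 87, 4), (57, 88, 12), (186, 89, 8), (27, 90, 4),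
  (128, 90, 12), (189, 91, 8), (31, 92, 12), (126, 94, 8), (34, 97, 4), (144, 98, 8), (188, 98, 12), (25, 101,
  12), (190, 102, 12), (91, 106, 12), (72, 109, 4), (164, 109, 12), (157, 110, 8), (191, 111, 4), (2, 111, 8),
  (92, 111, 12), (90, 112, 8), (121, 114, 12), (15, 120, 12), (154, 125, 4), (28, 125, 12), (87, 135, 4), (16,
  140, 12), (14, 143, 12), (172, 153, 12), (22, 155, 12), (3, 174, 4)]

/-- The check of the list. -/
def threeSlpOK : Bool :=
  (allB 192 fun r =>
    match threeSlp.getD r (192, 0, 0) with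
    | (v, i, x) => (r == 0 && v == 0) ||
        (decide (i < r ∧ x < 192) && (allB 5 fun p => app x (app x (app x p)) == p) &&
          mulB (threeSlp.getD i (192, 0, 0)).1 x v)) &&
  allB 192 fun v => (List.range 192).any fun r => (threeSlp.getD r (192, 0, 0)).1 == v

theorem threeSlp_ok : threeSlpOK = true := by decide +kernel

theorem eV_mem_threes : ∀ v < 192, eV v ∈ Subgroup.closure {g : Cn | g ^ 3 = 1 ∧ g * tau = tau * g} := by
  have hok := threeSlp_ok
  rw [threeSlpOK, Bool.and_eq_true] at hok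
  have key : ∀ r < 192, el (threeSlp.getD r (192, 0, 0)).1 ∈
      Subgroup.closure {g : Cn | g ^ 3 = 1 ∧ g * tau = tau * g} := by
    intro r
    induction r using Nat.strong_induction_on with
    | _ r ih =>
      intro hr
      have h := allB_spec hok.1 r hr
      rcases e : threeSlp.getD r (192, 0, 0) with ⟨v, i, x⟩
      rw [e] at h
      simp only [Bool.or_eq_true, Bool.and_eq_true, beq_iff_eq, decide_eq_true_eq] at h
      show el v ∈ _
      rcases h with ⟨-, rfl⟩ | ⟨⟨⟨hi, hx⟩, hcube⟩, hm⟩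
      · rw [el_zero]; exact one_mem _
      · rw [← of_mulB hm]
        refine mul_mem (ih i hi (hi.trans hr)) (Subgroup.subset_closure ⟨?_, ?_⟩)
        · refine Subtype.ext (eq_of_five fun p hp => ?_)
          rw [pow_succ, pow_two, Subgroup.coe_mul, Subgroup.coe_mul, Subgroup.coe_mul, Subgroup.coe_mul,
            Equiv.Perm.mul_apply, Equiv.Perm.mul_apply, el_app (hx.trans (by norm_num)),
            el_app (hx.trans (by norm_num)), el_app (hx.trans (by norm_num))]
          exact beq_iff_eq.1 (allB_spec hcube p.1 hp)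
        · rw [el_lt hx]; exact eV_comm hx
  intro v hv
  obtain ⟨r, hr, e⟩ := List.any_eq_true.1 (allB_spec hok.2 v hv)
  have h := key r (List.mem_range.1 hr)
  rw [beq_iff_eq.1 e, el_lt hv] at h
  exact h

end Cfsg.Agent.McLType
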